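import Cfsg.Agent.Mrg.Omega.NO1.Types
import Cfsg.Agent.Mrg.Omega.Half.Basic
import Cfsg.Agent.Lib.FrattiniPGroup
import Mathlib
import Cfsg.Agent.Omega.NatPair.Semi
import Cfsg.Agent.Mrg.Omega.NOne.LemmaT
import Cfsg.Agent.GTwoFour.Tools
import Cfsg.Agent.Mrg.Omega.Transv.Basic
import Cfsg.Agent.Mrg.Omega.IId.Fac
import Cfsg.Agent.Mrg.Omega.Node.NO1

-- merged: Cfsg.Agent.Mrg.Omega.NO1.WR.Base
section

/-!
# N1, `V = V_P` a sum of `k ≥ 2` natural `SL₂(F)`-modules: the interface (text #15037, helper675)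

`h : Cfg S P`, `M : NatK F S P V ⊥ k`, `V = zl S P`, `C = CC S = C_G(Z)`, `Q = O₂(C)`, `Z_Q = Ω₁(Z(Q)) = zc Q`.
From `Half/AppNat` (`NatA`): `fac M B` = elements of `V` with support in `B`, `Mv M g σ` : `g` moves the summands
by `σ`, `Blk M B` : `B, Bᶜ` are the two orbits of a subgroup `So M B` of index 2 in `S`.

* `half` (KL), `full_full` (KL+), `bprime` (b');
* `exists_z` : `z₁ ∈ fac M B`, `z₂ = z₁ ^ s ∈ fac M Bᶜ`, `z₁ z₂ ∈ Z`, both of full support;
* `Case1 M` : `Q ≤ So M B` for all `B`; `Case1.z_mem` (`z₁, z₂ ∈ Z_Q`), `comm_V_ZQ` (`[V, Z_Q] ≤ V ⊓ Z_Q`).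
-/

set_option autoImplicit false
set_option linter.unusedSectionVars false

namespace Cfsg.Agent.Omega.NO1.NatWr

open Subgroup Cfsg Cfsg.Agent.ZN Cfsg.Agent.Omega.MinPar Cfsg.Agent.Omega.FFThm
open Cfsg.Agent.Omega.Half Cfsg.Agent.Omega.Half.NatA
open Cfsg.Agent.Omega.NoFF.LinesPlug (CC)

universe u

variable {G : Type u} [Group G]

/-! ### Generalities -/

theorem o2_inf_le [Finite G] {X Y : Subgroup G} (h : X ≤ Y) : o2 Y ⊓ X ≤ o2 X := by
  refine le_o2 inf_le_right ((isPGroup_o2 Y).to_le inf_le_left) ?_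
  intro x hx
  rw [mem_normalizer_iff]
  intro y
  have h1 := mem_normalizer_iff.1 (le_normalizer_o2 Y (h hx)) y
  constructor
  · rintro ⟨h2, h3⟩
    exact ⟨h1.1 h2, X.mul_mem (X.mul_mem hx h3) (X.inv_mem hx)⟩
  · rintro ⟨h2, h3⟩
    refine ⟨h1.2 h2, ?_⟩
    have h4 : x⁻¹ * (x * y * x⁻¹) * x ∈ X := mul_mem (mul_mem (inv_mem hx) h3) hx
    have e : x⁻¹ * (x * y * x⁻¹) * x = y := by group
    rwa [e] at h4

variable {F : Type} [Field F] {k : ℕ}

section KL

variable [Finite G] {S : Sylow 2 G} {P : Subgroup G}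

theorem amb (h : Cfg S P) : Amb (S : Subgroup G) P (zl (S : Subgroup G) P) :=
  amb_of_loc h.ctx.char2 S h.loc

variable {M : NatK F (S : Subgroup G) P (zl (S : Subgroup G) P) ⊥ k} {B : Set (Fin k)}

/-- **(KL)**: if `u` has full support in the half `B` then, for `X ≤ C_G(u)`, the elements of `X` with support
in the other half lie in `O₂(X)`. -/
theorem half (h : Cfg S P) (hB : Blk M B) {u : G} (hu : u ∈ fac M B) (hfull : ∀ i ∈ B, M.e u i ≠ 0)
    {X : Subgroup G} (hX : X ≤ centralizer ({u} : Set G)) : fac M Bᶜ ⊓ X ≤ o2 X :=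
  (inf_le_inf_right X (app_nat h.ctx.char2 S (amb h) hB hu hfull).1).trans (o2_inf_le hX)

/-- **(KL+)**: `x`, `y` of full support in the two halves; then `V ∩ X ≤ O₂(X)` for all `X ≤ C_G(⟨x,y⟩)`. -/
theorem full_full (h : Cfg S P) (hB : Blk M B) {x y : G} (hx : x ∈ fac M B) (hxf : ∀ i ∈ B, M.e x i ≠ 0)
    (hy : y ∈ fac M Bᶜ) (hyf : ∀ i ∈ Bᶜ, M.e y i ≠ 0) {X : Subgroup G}
    (hX : X ≤ centralizer ({x} : Set G)) (hX' : X ≤ centralizer ({y} : Set G)) :
    zl (S : Subgroup G) P ⊓ X ≤ o2 X := by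
  set Y : Subgroup G := centralizer ({x} : Set G) ⊓ centralizer ({y} : Set G) with hY
  have hVx : ∀ w ∈ fac M B ⊔ fac M Bᶜ, w ∈ Y := by
    intro w hw
    have hwV : w ∈ zl (S : Subgroup G) P := (sup_le (fac_le M _) (fac_le M _)) hw
    exact ⟨mem_centralizer_singleton_iff.2 ((amb h).comm w hwV x hx.1),
      mem_centralizer_singleton_iff.2 ((amb h).comm w hwV y hy.1)⟩
  have h1 : fac M Bᶜ ≤ o2 Y := fun w hw =>
    half h hB hx hxf inf_le_left ⟨hw, hVx w (mem_sup_right hw)⟩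
  have h2 : fac M B ≤ o2 Y := by
    have h3 := half h hB.compl hy hyf (X := Y) inf_le_right
    rw [compl_compl] at h3
    exact fun w hw => h3 ⟨hw, hVx w (mem_sup_left hw)⟩
  have h3 : zl (S : Subgroup G) P ≤ o2 Y := by
    intro v hv
    obtain ⟨a, ha, haB⟩ := exists_fac M B (M.e v)
    have hb : a⁻¹ * v ∈ fac M Bᶜ := by
      refine ⟨mul_mem (inv_mem ha.1) hv, fun i hi => ?_⟩
      rw [M.mul _ (inv_mem ha.1) v hv, e_inv M ha.1, Pi.add_apply, Pi.neg_apply,
        haB i (by simpa using hi), neg_add_cancel]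
    have e : v = a * (a⁻¹ * v) := by group
    rw [e]
    exact mul_mem (h2 ha) (h1 hb)
  exact (inf_le_inf_right X h3).trans (o2_inf_le (le_inf hX hX'))

/-- **(b')** -/
theorem bprime (h : Cfg S P) (hB : Blk M B) {x y : G} (hx : x ∈ fac M B) (hxf : ∀ i ∈ B, M.e x i ≠ 0)
    (hy : y ∈ fac M Bᶜ) (hyf : ∀ i ∈ Bᶜ, M.e y i ≠ 0) {N : Subgroup G} (hN : N ≤ CC (S : Subgroup G))
    (hn : CC (S : Subgroup G) ≤ normalizer (N : Set G)) (hNx : N ≤ centralizer ({x} : Set G))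
    (hNy : N ≤ centralizer ({y} : Set G)) : zl (S : Subgroup G) P ⊓ N ≤ o2 (CC (S : Subgroup G)) := by
  refine (full_full h hB hx hxf hy hyf hNx hNy).trans ?_
  exact le_o2 ((o2_le N).trans hN) (isPGroup_o2 N) (hn.trans (normalizer_le_normalizer_o2 N))

/-- **The elements `z₁`, `z₂`.** -/
theorem exists_z (h : Cfg S P) (hB : Blk M B) : ∃ z ∈ fac M B, ∃ s ∈ (S : Subgroup G),
    z ≠ 1 ∧ (∀ t ∈ So M B, t * z * t⁻¹ = z) ∧ (∀ i ∈ B, M.e z i ≠ 0) ∧
      s * z * s⁻¹ ∈ fac M Bᶜ ∧ (∀ t ∈ So M B, t * (s * z * s⁻¹) * t⁻¹ = s * z * s⁻¹) ∧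
      (∀ i ∈ Bᶜ, M.e (s * z * s⁻¹) i ≠ 0) ∧ z * (s * z * s⁻¹) ∈ zc (S : Subgroup G) := by
  have hA := amb h
  have hS2 : IsPGroup 2 (S : Subgroup G) := S.isPGroup'
  obtain ⟨i₀, hi₀⟩ := hB.ne
  obtain ⟨z, hz, hz1, hc⟩ := exists_fixed ((hS2.to_le hA.VT).to_le (fac_le M B)) (fac_ne_bot hi₀)
    (hS2.to_le (inf_le_left : So M B ≤ _)) (inf_le_right : So M B ≤ normalizer (fac M B : Set G))
  obtain ⟨s, hs, hsn⟩ := exists_swap hA hB
  obtain ⟨σ, hσ⟩ := exists_mv (M := M) hA hs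
  have h1 : σ '' B = Bᶜ := (hB.blk s hs σ hσ).resolve_left fun h2 => hsn ((mem_So hA hB hs hσ).2 h2)
  have hf : ∀ i ∈ B, M.e z i ≠ 0 := fun i hi => NatA.full hA hB hz hz1 hc hi
  have hsz : s * z * s⁻¹ ∈ fac M Bᶜ := by
    have h2 := hσ.conj M hA (hA.TH hs) hz
    rwa [h1] at h2
  -- `So` is normalised by `s`
  have hidx : ∀ a ∈ (S : Subgroup G), a ∉ So M B → ∀ b ∈ (S : Subgroup G), b ∉ So M B → a * b ∈ So M B := by
    intro a ha hna b hb hnb
    obtain ⟨α, hα⟩ := exists_mv (M := M) hA ha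
    obtain ⟨β, hβ⟩ := exists_mv (M := M) hA hb
    have h3 : Mv M (a * b) (α * β) := by
      intro v hv i
      have e1 : a * b * v * (a * b)⁻¹ = a * (b * v * b⁻¹) * a⁻¹ := by group
      rw [e1, Equiv.Perm.mul_apply, hα _ (hA.conj_mem (hA.TH hb) hv), hβ v hv]
    rw [mem_So hA hB ha hα] at hna
    rw [mem_So hA hB hb hβ] at hnb
    rw [mem_So hA hB (mul_mem ha hb) h3]
    have h4 := (hB.blk a ha α hα).resolve_left hna
    have h5 := (hB.blk b hb β hβ).resolve_left hnb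
    rw [Equiv.Perm.coe_mul, Set.image_comp, h5, image_compl, h4, compl_compl]
  have hnor : ∀ t ∈ So M B, s⁻¹ * t * s ∈ So M B := by
    intro t ht
    have h3 : t * s ∉ So M B := fun h4 => hsn (by
      have := mul_mem (inv_mem ht) h4
      rwa [inv_mul_cancel_left] at this)
    have h4 : s⁻¹ ∉ So M B := fun h5 => hsn (by simpa using inv_mem h5)
    have h5 := hidx s⁻¹ (inv_mem hs) h4 (t * s) (mul_mem ht.1 hs) h3
    rwa [← mul_assoc] at h5
  have hsf : ∀ t ∈ So M B, t * (s * z * s⁻¹) * t⁻¹ = s * z * s⁻¹ := by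
    intro t ht
    have h3 := hc _ (hnor t ht)
    calc t * (s * z * s⁻¹) * t⁻¹ = s * ((s⁻¹ * t * s) * z * (s⁻¹ * t * s)⁻¹) * s⁻¹ := by group
      _ = s * z * s⁻¹ := by rw [h3]
  refine ⟨z, hz, s, hs, hz1, hc, hf, hsz, hsf, fun i hi => ?_, ?_⟩
  · rw [← h1] at hi
    obtain ⟨j, hj, rfl⟩ := hi
    rw [Ne, hσ z hz.1 j]
    exact hf j hj
  · -- the product is fixed by `S`
    have hss : s * s ∈ So M B := hidx s hs hsn s hs hsn
    have h2 : s * (s * z * s⁻¹) * s⁻¹ = z := by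
      have h3 := hc _ hss
      calc s * (s * z * s⁻¹) * s⁻¹ = (s * s) * z * (s * s)⁻¹ := by group
        _ = z := h3
    have hcom : z * (s * z * s⁻¹) = s * z * s⁻¹ * z := hA.comm _ hz.1 _ hsz.1
    have h3 : ∀ t ∈ (S : Subgroup G), t * (z * (s * z * s⁻¹)) * t⁻¹ = z * (s * z * s⁻¹) := by
      intro t ht
      by_cases htS : t ∈ So M B
      · calc t * (z * (s * z * s⁻¹)) * t⁻¹ = (t * z * t⁻¹) * (t * (s * z * s⁻¹) * t⁻¹) := by group
          _ = z * (s * z * s⁻¹) := by rw [hc t htS, hsf t htS]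
      · have h4 : t * s⁻¹ ∈ So M B :=
          hidx t ht htS s⁻¹ (inv_mem hs) fun h5 => hsn (by simpa using inv_mem h5)
        have h5 : t = (t * s⁻¹) * s := by group
        set r := t * s⁻¹ with hr
        rw [h5]
        calc r * s * (z * (s * z * s⁻¹)) * (r * s)⁻¹
            = (r * (s * z * s⁻¹) * r⁻¹) * (r * (s * (s * z * s⁻¹) * s⁻¹) * r⁻¹) := by group
          _ = (s * z * s⁻¹) * z := by rw [h2, hc r h4, hsf r h4]
          _ = z * (s * z * s⁻¹) := hcom.symm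
    refine MinSimple.VModule.mem_zc.2 ⟨mul_mem (hA.VT hz.1) (hA.VT hsz.1), fun b hb => ?_, ?_⟩
    · calc b * (z * (s * z * s⁻¹)) = (b * (z * (s * z * s⁻¹)) * b⁻¹) * b := by group
        _ = z * (s * z * s⁻¹) * b := by rw [h3 b hb]
    · exact hA.sq _ (mul_mem hz.1 hsz.1)

end KL

end Cfsg.Agent.Omega.NO1.NatWr

end

-- merged: Cfsg.Agent.Mrg.Omega.NO1.Many.Tool
section

section


/-!
# The leaf N1, `V_P` a sum of `k ≥ 2` natural modules: the tool (text helper727 #14576 (0))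

* `not_mem_o2` : in a frame `v ∉ O₂(H)` for every subgroup `H` containing `X = ⟨V₁, V₁^g⟩`;
* `not_mem_o2_centralizer` : `v ∉ O₂(C_G(d))` for every `d ∈ D`;
* `Fam` : the data of a frame at `v`.
-/

set_option autoImplicit false
set_option linter.unusedSectionVars false

namespace Cfsg.Agent.Omega.NO1.Many

open Subgroup Cfsg Cfsg.Agent.ZN Cfsg.Agent.Omega.MinPar Cfsg.Agent.Omega.Frame
open Cfsg.Agent.Omega.NoFF.LinesPlug (CC NoOne)
open Cfsg.Agent.Omega.NoFF.Basic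
open Cfsg.Agent.Omega.NOne Cfsg.Agent.Omega.NOne.NearFF
open Cfsg.Agent.MinSimple.VModule (o2_isPGroup)
open Cfsg.Agent.Omega.NOne.Frame (Fr X mem_conj' conj_mem norm_mem norm_mem')
open scoped Pointwise

universe u

variable {G : Type u} [Group G] [Finite G]

theorem not_mem_o2 {V Q H : Subgroup G} {v g : G} (h : Fr (V1 V Q v) Q g) (hQ2 : IsPGroup 2 Q)
    (hX : ¬ IsPGroup 2 (X (V1 V Q v) g)) (hXH : X (V1 V Q v) g ≤ H) : v ∉ o2 H := by
  intro hv
  apply hX
  set W : Subgroup G := NOne.Frame.W (V1 V Q v) Q g with hW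
  have hWQ : W ≤ Q := h.W_le_Q
  have hW2 : IsPGroup 2 W := hQ2.to_le hWQ
  have hXW : X (V1 V Q v) g ≤ normalizer (W : Set G) := h.X_norm_W
  have hXo : X (V1 V Q v) g ≤ normalizer ((o2 H ⊓ X (V1 V Q v) g : Subgroup G) : Set G) :=
    Half.le_normalizer_inf (hXH.trans (le_normalizer_o2 H)) le_normalizer
  have hY2 : IsPGroup 2 ((o2 H ⊓ X (V1 V Q v) g : Subgroup G) ⊔ W : Subgroup G) :=
    IsPGroup.to_sup_of_normal_right' ((o2_isPGroup H).to_le inf_le_left) hW2 (inf_le_right.trans hXW)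
  have hvX : v ∈ X (V1 V Q v) g := mem_sup_left (mem_sup_right (mem_zpowers v))
  have hV1 : V1 V Q v ≤ (o2 H ⊓ X (V1 V Q v) g : Subgroup G) ⊔ W := by
    refine sup_le ?_ (zpowers_le.2 (mem_sup_left (mem_inf.2 ⟨hv, hvX⟩)))
    exact (le_inf le_sup_left inf_le_right : V ⊓ Q ≤ V1 V Q v ⊓ Q).trans
      ((le_sup_left : V1 V Q v ⊓ Q ≤ W).trans le_sup_right)
  have hXY : X (V1 V Q v) g ≤
      normalizer (((o2 H ⊓ X (V1 V Q v) g : Subgroup G) ⊔ W : Subgroup G) : Set G) := by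
    intro x hx
    have key : ∀ x ∈ X (V1 V Q v) g, ∀ y ∈ (o2 H ⊓ X (V1 V Q v) g : Subgroup G) ⊔ W,
        x * y * x⁻¹ ∈ (o2 H ⊓ X (V1 V Q v) g : Subgroup G) ⊔ W := by
      intro x hx y hy
      have h1 : (o2 H ⊓ X (V1 V Q v) g : Subgroup G) ⊔ W ≤
          ((o2 H ⊓ X (V1 V Q v) g : Subgroup G) ⊔ W).comap (MulAut.conj x).toMonoidHom := by
        refine sup_le (fun a ha => ?_) (fun a ha => ?_)
        · exact mem_sup_left (norm_mem (hXo hx) ha)
        · exact mem_sup_right (norm_mem (hXW hx) ha)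
      exact h1 hy
    rw [mem_normalizer_iff]
    intro y
    refine ⟨key x hx y, fun hy => ?_⟩
    have := key x⁻¹ (inv_mem hx) _ hy
    have e : x⁻¹ * (x * y * x⁻¹) * x⁻¹⁻¹ = y := by group
    rwa [e] at this
  refine hY2.to_le (sup_le hV1 fun y hy => ?_)
  obtain ⟨w, hw, rfl⟩ := mem_conj'.1 hy
  exact norm_mem (hXY h.gX) (hV1 hw)

/-- The data of a frame at `v ∈ V - Q`, `E = V ∩ Q`. -/
structure Fam (S : Sylow 2 G) (P : Subgroup G) (v g : G) : Prop where
  mem : v ∈ zl (S : Subgroup G) P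
  notMem : v ∉ o2 (CC (S : Subgroup G))
  gC : g ∈ CC (S : Subgroup G)
  fin : Fin (zl (S : Subgroup G) P) (o2 (CC (S : Subgroup G))) v g
  notTwo : ¬ IsPGroup 2 (NOne.Frame.X (V1 (zl (S : Subgroup G) P) (o2 (CC (S : Subgroup G))) v) g)

/-- `E = V ∩ Q` -/
abbrev EE (S P : Subgroup G) : Subgroup G := zl S P ⊓ o2 (CC S)

/-- `A = E^g` -/
abbrev AA (S P : Subgroup G) (g : G) : Subgroup G := MulAut.conj g • EE S P

/-- `D = E ∩ E^g` -/
abbrev DD (S P : Subgroup G) (g : G) : Subgroup G := EE S P ⊓ MulAut.conj g • EE S P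

variable {S : Sylow 2 G} {P : Subgroup G}

theorem exists_fam (h : Cfg S P) {v : G} (hv : v ∈ zl (S : Subgroup G) P)
    (hvQ : v ∉ o2 (CC (S : Subgroup G))) : ∃ g, Fam S P v g := by
  obtain ⟨g, hg, hf, hX, -⟩ := h.exists_near hv hvQ
  exact ⟨g, hv, hvQ, hg, hf, hX⟩

namespace Fam

variable {v g : G} (f : Fam S P v g)

include f

/-- **The tool**: `v ∉ O₂(C_G(d))` for `d ∈ D`. -/
theorem not_mem_o2_centralizer {d : G} (hd : d ∈ DD (S : Subgroup G) P g) :
    v ∉ o2 (centralizer ({d} : Set G)) := by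
  refine not_mem_o2 f.fin.fr (o2_isPGroup _) f.notTwo ?_
  intro x hx
  rw [mem_centralizer_singleton_iff]
  refine f.fin.cent x ?_ d hd
  have h1 : V1 (zl (S : Subgroup G) P) (o2 (CC (S : Subgroup G))) v ≤ zl (S : Subgroup G) P := V1_le f.mem
  have h2 : X (V1 (zl (S : Subgroup G) P) (o2 (CC (S : Subgroup G))) v) g ≤
      zl (S : Subgroup G) P ⊔ MulAut.conj g • zl (S : Subgroup G) P :=
    sup_le (h1.trans le_sup_left) ((Choice.conj_mono h1).trans le_sup_right)
  exact h2 hx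

theorem near : Near (zl (S : Subgroup G) P) (EE (S : Subgroup G) P) (DD (S : Subgroup G) P g)
    (AA (S : Subgroup G) P g) v := f.fin.near

theorem A_le_Q : AA (S : Subgroup G) P g ≤ o2 (CC (S : Subgroup G)) := by
  have h1 : MulAut.conj g • o2 (CC (S : Subgroup G)) = o2 (CC (S : Subgroup G)) := f.fin.fr.gQ
  rw [← h1]
  exact Choice.conj_mono inf_le_right

theorem A_le_S (h : Cfg S P) : AA (S : Subgroup G) P g ≤ S := f.A_le_Q.trans h.Q_le_S

theorem A_comm {a b : G} (ha : a ∈ AA (S : Subgroup G) P g) (hb : b ∈ AA (S : Subgroup G) P g) :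
    a * b = b * a := NOne.Frame.comm_of_le_centralizer f.near.Fcomm ha hb

theorem A_sq {a : G} (ha : a ∈ AA (S : Subgroup G) P g) : a * a = 1 := by
  rw [← pow_two]
  exact f.near.Fsq a ha

theorem A_inv {a : G} (ha : a ∈ AA (S : Subgroup G) P g) : a⁻¹ = a := f.near.inv_F ha

/-- `d ∈ D` is centralised by `A` -/
theorem D_fix {a d : G} (ha : a ∈ AA (S : Subgroup G) P g) (hd : d ∈ DD (S : Subgroup G) P g) :
    a * d * a⁻¹ = d := by
  have := f.near.Dcent hd ha
  rw [← this, mul_inv_cancel_right]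

/-- `E = [v, A] D` : every `e ∈ E` is `(v (a v a⁻¹)) d`, `a ∈ A`, `d ∈ D` -/
theorem exists_eq {e : G} (he : e ∈ EE (S : Subgroup G) P) :
    ∃ a ∈ AA (S : Subgroup G) P g, ∃ d ∈ DD (S : Subgroup G) P g, e = v * (a * v * a⁻¹) * d := by
  obtain ⟨a, ha, h1⟩ := f.near.surj he
  refine ⟨a, ha, _, inv_mem h1, ?_⟩
  have h2 : NearFF.c v a = v * (a * v * a⁻¹) := by
    have hv1 : v⁻¹ = v := f.near.inv_V f.mem
    rw [NearFF.c]
    conv_lhs => rw [hv1]
    group
  have h3 := f.near.V_comm (f.near.c_memV f.mem ha) he.1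
  rw [← h2]
  calc e = e * NearFF.c v a * (NearFF.c v a)⁻¹ := by group
    _ = NearFF.c v a * e * (NearFF.c v a)⁻¹ := by rw [h3]
    _ = NearFF.c v a * (NearFF.c v a * e⁻¹)⁻¹ := by group

/-- `[v, a] ∈ D` implies `a ∈ D` -/
theorem inj {a : G} (ha : a ∈ AA (S : Subgroup G) P g)
    (h : v * (a * v * a⁻¹) ∈ DD (S : Subgroup G) P g) : a ∈ DD (S : Subgroup G) P g := by
  refine f.near.inj a ha ?_
  have hv1 : v⁻¹ = v := f.near.inv_V f.mem
  have e : v * a * v⁻¹ * a⁻¹ = v * (a * v * a⁻¹) := by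
    rw [hv1]; group
  rw [e]
  exact h

/-- `[w, a] ∈ E` for `w ∈ V` -/
theorem comm_mem {w a : G} (hw : w ∈ zl (S : Subgroup G) P) (ha : a ∈ AA (S : Subgroup G) P g) :
    w * (a * w * a⁻¹) ∈ EE (S : Subgroup G) P := by
  have h1 := f.near.comm w hw a ha
  have hw1 : w⁻¹ = w := f.near.inv_V hw
  have e : w * a * w⁻¹ * a⁻¹ = w * (a * w * a⁻¹) := by
    conv_lhs => rw [hw1]
    group
  rwa [e] at h1

/-- `[e, a] ∈ D` for `e ∈ E` -/
theorem comm_mem_D {e a : G} (he : e ∈ EE (S : Subgroup G) P) (ha : a ∈ AA (S : Subgroup G) P g) :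
    e * (a * e * a⁻¹) ∈ DD (S : Subgroup G) P g := by
  have h1 := f.near.ED e he a ha
  have hw1 : e⁻¹ = e := f.near.inv_V he.1
  have e : e * a * e⁻¹ * a⁻¹ = e * (a * e * a⁻¹) := by
    conv_lhs => rw [hw1]
    group
  rwa [e] at h1

/-- `D` acts trivially on `V`. -/
theorem D_triv {d w : G} (hd : d ∈ DD (S : Subgroup G) P g) (hw : w ∈ zl (S : Subgroup G) P) :
    d * w * d⁻¹ = w := by
  have := f.near.V_comm (f.near.DV hd) hw
  rw [this, mul_inv_cancel_right]

/-- `C_A(v) = D` -/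
theorem mem_D {a : G} (ha : a ∈ AA (S : Subgroup G) P g) (h : a * v * a⁻¹ = v) :
    a ∈ DD (S : Subgroup G) P g := by
  refine f.inj ha ?_
  rw [h]
  have := f.near.Vsq v f.mem
  rw [pow_two] at this
  rw [this]
  exact one_mem _

end Fam

end Cfsg.Agent.Omega.NO1.Many

end

section


/-!
# The leaf N1, `V_P` a sum of `k` natural modules: coordinates

`M : NatK F T H V ⊥ k`, `hA : Amb T H V`.

* `comp_eq` : the component of `g x g⁻¹` at `σ i` depends only on the component of `x` at `i`;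
* `line` : `T` preserves the lines `{x | x 1 = 0}`, with the permutation of the summands;
* `mem_of_comps` : `u ∈ X` if every component of `u` is in `X`;
* `Ln` : the sum of the lines; `Ln_le` : `Ln ≤ E` if `E ≤ V` is normalised by `T` and not contained in `Ln`;
* `exists_blk` : an index-2 system of blocks, coarser than a given `T`-invariant equivalence relation.
-/

set_option autoImplicit false
set_option linter.unusedSectionVars false

namespace Cfsg.Agent.Omega.NO1.Many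

open Subgroup Cfsg Cfsg.Agent.Omega.FFThm
open Cfsg.Agent.Omega.Half Cfsg.Agent.Omega.Half.NatA
open Cfsg.Agent.Lib.SL2Mat Cfsg.Agent.Omega.NatPair

universe u

variable {G : Type u} [Group G] {F : Type} [Field F] {T H V : Subgroup G} {k : ℕ}

section basic

variable {M : NatK F T H V ⊥ k} (hA : Amb T H V)

include hA

theorem conj_mem' {g v : G} (hg : g ∈ H) (hv : v ∈ V) : g⁻¹ * v * g ∈ V := by
  have := hA.conj_mem (inv_mem hg) hv
  rwa [inv_inv] at this

theorem sq_self {v : G} (hv : v ∈ V) : v * v = 1 := by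
  rw [← pow_two]
  exact hA.sq v hv

theorem self_inv {v : G} (hv : v ∈ V) : v⁻¹ = v := inv_eq_of_mul_eq_one_left (sq_self hA hv)

/-- the component of `g x g⁻¹` at `σ i` depends only on the component of `x` at `i` -/
theorem comp_eq {g : G} {σ : Equiv.Perm (Fin k)} (h : Mv M g σ) (hg : g ∈ H) {x y : G} (hx : x ∈ V)
    (hy : y ∈ V) {i : Fin k} (hxy : M.e x i = M.e y i) :
    M.e (g * x * g⁻¹) (σ i) = M.e (g * y * g⁻¹) (σ i) := by
  have h1 : M.e (x * y⁻¹) i = 0 := by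
    rw [M.mul x hx _ (inv_mem hy), e_inv M hy, Pi.add_apply, Pi.neg_apply, hxy, add_neg_cancel]
  have h2 := (h _ (mul_mem hx (inv_mem hy)) i).2 h1
  have e : g * (x * y⁻¹) * g⁻¹ = (g * x * g⁻¹) * (g * y * g⁻¹)⁻¹ := by group
  rw [e, M.mul _ (hA.conj_mem hg hx) _ (inv_mem (hA.conj_mem hg hy)), e_inv M (hA.conj_mem hg hy),
    Pi.add_apply, Pi.neg_apply, ← sub_eq_add_neg] at h2
  exact sub_eq_zero.1 h2

omit hA in
theorem fac_single {i j : Fin k} {v : G} (hv : v ∈ fac M {i}) (hij : j ≠ i) : M.e v j = 0 :=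
  hv.2 j hij

omit hA in
theorem eq_of_comp {i : Fin k} {v w : G} (hv : v ∈ fac M {i}) (hw : w ∈ fac M {i}) (h : M.e v i = M.e w i) :
    v = w := by
  apply inj M hv.1 hw.1
  funext j
  by_cases hj : j = i
  · rw [hj, h]
  · rw [hv.2 j hj, hw.2 j hj]

omit hA in
theorem comp_ne_zero {i : Fin k} {v : G} (hv : v ∈ fac M {i}) (hv1 : v ≠ 1) : M.e v i ≠ 0 := by
  intro h
  apply hv1
  apply eq_one M hv.1
  funext j
  by_cases hj : j = i
  · rw [hj, h]; rfl
  · rw [hv.2 j hj]; rfl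

theorem conj_fac {g : G} {σ : Equiv.Perm (Fin k)} (h : Mv M g σ) (hg : g ∈ H) {i : Fin k} {v : G}
    (hv : v ∈ fac M {i}) : g * v * g⁻¹ ∈ fac M {σ i} := by
  have := h.conj M hA hg hv
  rwa [Set.image_singleton] at this

theorem mv_mul {g h : G} {σ τ : Equiv.Perm (Fin k)} (hh : h ∈ H) (h1 : Mv M g σ) (h2 : Mv M h τ) :
    Mv M (g * h) (σ * τ) := by
  intro v hv i
  have e1 : g * h * v * (g * h)⁻¹ = g * (h * v * h⁻¹) * g⁻¹ := by group
  rw [e1, Equiv.Perm.mul_apply, h1 _ (hA.conj_mem hh hv), h2 v hv]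

/-- the permutation is determined by one vector -/
theorem mv_apply_eq {g : G} {σ : Equiv.Perm (Fin k)} (h : Mv M g σ) (hg : g ∈ H) {i j : Fin k} {v : G}
    (hv : v ∈ fac M {i}) (hj : M.e (g * v * g⁻¹) j ≠ 0) : σ i = j := by
  by_contra hne
  exact hj ((conj_fac hA h hg hv).2 j fun h => hne h.symm)

/-- an element with a fixed vector with nonzero `i`-component fixes ... -/
theorem supp_iff {g d : G} {σ : Equiv.Perm (Fin k)} (h : Mv M g σ) (hd : d ∈ V) (hgd : g * d * g⁻¹ = d)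
    (i : Fin k) : M.e d (σ i) = 0 ↔ M.e d i = 0 := by
  have := h d hd i
  rwa [hgd] at this

/-- `T` preserves the lines. -/
theorem line {t : G} (ht : t ∈ T) {σ : Equiv.Perm (Fin k)} (h : Mv M t σ) {v : G} (hv : v ∈ V) (i : Fin k) :
    M.e (t * v * t⁻¹) (σ i) 1 = 0 ↔ M.e v i 1 = 0 := by
  obtain ⟨τ, hτ⟩ := M.line t ht
  have hστ : ∀ i, τ i = σ i := by
    intro i
    obtain ⟨w, hw, hwi⟩ := exists_fac M {i} fun _ => ![0, 1]
    have hwi := hwi i rfl
    by_contra hne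
    have h1 := (conj_fac hA h (hA.TH ht) hw).2 (τ i) hne
    have h2 := (hτ w hw.1 i).1 (by rw [h1]; rfl)
    rw [hwi] at h2
    exact one_ne_zero h2
  rw [← hστ]
  exact hτ v hv i

omit hA in
/-- `u ∈ X` if every component of `u` is in `X`. -/
theorem mem_of_comps {X : Subgroup G} {u : G} (hu : u ∈ V)
    (h : ∀ i, ∃ x ∈ X, x ∈ fac M {i} ∧ M.e x i = M.e u i) : u ∈ X := by
  have hall : ∀ s : Finset (Fin k), ∀ v ∈ V, (∀ i, ∃ x ∈ X, x ∈ fac M {i} ∧ M.e x i = M.e v i) →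
      (∀ j, j ∉ s → M.e v j = 0) → v ∈ X := by
    intro s
    induction s using Finset.induction_on with
    | empty =>
      intro v hv _ h
      have : v = 1 := eq_one M hv (funext fun j => h j (Finset.notMem_empty j))
      rw [this]
      exact one_mem X
    | insert a s has ih =>
      intro v hv hc h
      obtain ⟨x, hx, hxa, hxe⟩ := hc a
      have hcomp : ∀ i, M.e (v * x⁻¹) i = M.e v i - M.e x i := by
        intro i
        rw [M.mul v hv _ (inv_mem hxa.1), e_inv M hxa.1, Pi.add_apply, Pi.neg_apply, sub_eq_add_neg]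
      have h1 : v * x⁻¹ ∈ X := by
        refine ih _ (mul_mem hv (inv_mem hxa.1)) (fun i => ?_) fun j hj => ?_
        · by_cases hia : i = a
          · refine ⟨1, one_mem X, one_mem _, ?_⟩
            rw [hcomp, hia, hxe, sub_self, e_one]
            rfl
          · obtain ⟨y, hy, hyi, hye⟩ := hc i
            refine ⟨y, hy, hyi, ?_⟩
            rw [hcomp, hxa.2 i hia, sub_zero, hye]
        · by_cases hja : j = a
          · rw [hcomp, hja, hxe, sub_self]
          · rw [hcomp, hxa.2 j hja, sub_zero]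
            exact h j fun h' => (Finset.mem_insert.1 h').elim hja hj
      have h2 : v = v * x⁻¹ * x := by group
      rw [h2]
      exact mul_mem h1 hx
  exact hall Finset.univ u hu h fun j hj => absurd (Finset.mem_univ j) hj

end basic

/-! ### The sum of the lines -/

section lines

variable (M : NatK F T H V ⊥ k)

/-- the sum of the lines -/
def Ln : Subgroup G where
  carrier := {v | v ∈ V ∧ ∀ i, M.e v i 1 = 0}
  mul_mem' := by
    rintro v w ⟨hv, h1⟩ ⟨hw, h2⟩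
    refine ⟨mul_mem hv hw, fun i => ?_⟩
    rw [M.mul v hv w hw, Pi.add_apply, Pi.add_apply, h1 i, h2 i, add_zero]
  one_mem' := ⟨one_mem V, fun i => by rw [e_one]; rfl⟩
  inv_mem' := by
    rintro v ⟨hv, h1⟩
    refine ⟨inv_mem hv, fun i => ?_⟩
    rw [e_inv M hv, Pi.neg_apply, Pi.neg_apply, h1 i, neg_zero]

theorem mem_Ln {v : G} : v ∈ Ln M ↔ v ∈ V ∧ ∀ i, M.e v i 1 = 0 := Iff.rfl

variable {M} (hA : Amb T H V)

include hA

/-- `Ln ≤ E` if `E ≤ V` is normalised by `T` and `E ≰ Ln`. -/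
theorem Ln_le {E : Subgroup G} (hEV : E ≤ V) (hT : ∀ t ∈ T, ∀ e ∈ E, t * e * t⁻¹ ∈ E) {e : G} (he : e ∈ E)
    {i : Fin k} (hi : M.e e i 1 ≠ 0) : Ln M ≤ E := by
  classical
  intro y hy
  refine mem_of_comps (M := M) hy.1 fun m => ?_
  -- move `i` to `m`
  obtain ⟨s, hs, hsm⟩ := M.trans i m
  obtain ⟨σ, hσ⟩ := M.perm s (hA.TH hs)
  have hσi : σ i = m := Mv.unique M hA (σ := σ) hσ (hA.TH hs) hsm
  have he' := hT s hs e he
  have hm : M.e (s * e * s⁻¹) m 1 ≠ 0 := by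
    rw [← hσi, Ne, line hA hs hσ (hEV he)]
    exact hi
  set c := s * e * s⁻¹ with hc
  obtain ⟨t, ht, hta, -⟩ := M.unip (Function.update 0 m (M.e y m 0 * (M.e c m 1)⁻¹))
  have h1 : t * c * t⁻¹ ∈ E := hT t ht c he'
  have hcV := hEV he'
  have hta : ∀ v ∈ V, ∀ j, M.e (t * v * t⁻¹) j =
      ap (up (Function.update (0 : Fin k → F) m (M.e y m 0 * (M.e c m 1)⁻¹) j)) (M.e v j) := hta
  have hcomp : ∀ j, M.e (t * c * t⁻¹ * c⁻¹) j = if j = m then ![M.e y m 0, 0] else 0 := by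
    intro j
    rw [M.mul _ (hEV h1) _ (inv_mem hcV), e_inv M hcV, Pi.add_apply, Pi.neg_apply, hta c hcV j]
    by_cases hj : j = m
    · rw [if_pos hj, hj, Function.update_self]
      apply ext2
      · rw [Pi.add_apply, Pi.neg_apply, ap_zero', up_00, up_01, one_mul, mul_assoc, inv_mul_cancel₀ hm, mul_one]
        simp
      · rw [Pi.add_apply, Pi.neg_apply, ap_one', up_10, up_11, zero_mul, one_mul, zero_add, add_neg_cancel]
        rfl
    · rw [if_neg hj, Function.update_of_ne hj, Pi.zero_apply]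
      apply ext2
      · rw [Pi.add_apply, Pi.neg_apply, ap_zero', up_00, up_01, one_mul, zero_mul, add_zero, add_neg_cancel]
        rfl
      · rw [Pi.add_apply, Pi.neg_apply, ap_one', up_10, up_11, zero_mul, one_mul, zero_add, add_neg_cancel]
        rfl
  refine ⟨_, mul_mem h1 (inv_mem he'), ⟨mul_mem (hEV h1) (inv_mem hcV), fun j hj => ?_⟩, ?_⟩
  · rw [hcomp]
    exact if_neg (show ¬ j = m from hj)
  · rw [hcomp, if_pos rfl]
    exact ext2 rfl (hy.2 m).symm

end lines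

/-! ### Blocks -/

section blocks

variable {M : NatK F T H V ⊥ k} (hA : Amb T H V)

include hA

/-- An index-2 system of blocks, coarser than a given `T`-invariant equivalence relation `R`. -/
theorem exists_blk [Finite G] (hT2 : IsPGroup 2 T) (R : Fin k → Fin k → Prop) (hrefl : ∀ a, R a a)
    (htrans : ∀ a b c, R a b → R b c → R a c)
    (hinv : ∀ t ∈ T, ∀ σ, Mv M t σ → ∀ a b, R a b → R (σ a) (σ b)) {i m₀ : Fin k} (hm₀ : ¬ R i m₀) :
    ∃ B : Set (Fin k), Blk M B ∧ ∀ j, R i j → j ∉ B := by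
  have : Fact (Nat.Prime 2) := ⟨Nat.prime_two⟩
  have hmv : ∀ t ∈ T, ∃ σ, Mv M t σ := fun t ht => M.perm t (hA.TH ht)
  have huniq : ∀ t ∈ T, ∀ σ τ, Mv M t σ → Mv M t τ → ∀ a, σ a = τ a := fun t ht σ τ hσ hτ a =>
    Mv.unique M hA (σ := σ) hσ (hA.TH ht) fun v hv => hτ v hv a
  -- the stabiliser of the class of `i`
  let N : Subgroup T :=
    { carrier := {t | ∀ σ, Mv M (t : G) σ → R i (σ i)}
      mul_mem' := by
        rintro ⟨s, hs⟩ ⟨t, ht⟩ h1 h2 σ hσ
        obtain ⟨α, hα⟩ := hmv s hs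
        obtain ⟨β, hβ⟩ := hmv t ht
        have h3 := huniq (s * t) (mul_mem hs ht) _ _ hσ (mv_mul hA (hA.TH ht) hα hβ) i
        rw [h3, Equiv.Perm.mul_apply]
        exact htrans _ _ _ (h1 α hα) (hinv s hs α hα _ _ (h2 β hβ))
      one_mem' := by
        intro σ hσ
        have h1 : Mv M (1 : G) (1 : Equiv.Perm (Fin k)) := by
          intro v hv i
          rw [one_mul, inv_one, mul_one]
          rfl
        rw [huniq 1 (one_mem T) σ 1 hσ h1 i]
        exact hrefl i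
      inv_mem' := by
        rintro ⟨t, ht⟩ h1 σ hσ
        -- powers of `t`
        obtain ⟨α, hα⟩ := hmv t ht
        have h2 := Mv.inv M hA (σ := α) hα (hA.TH ht)
        rw [huniq t⁻¹ (inv_mem ht) σ α.symm hσ h2 i]
        -- `t⁻¹ = t ^ n`
        have hpow : ∀ n : ℕ, R i ((α ^ n) i) := by
          intro n
          induction n with
          | zero => exact hrefl i
          | succ n ih =>
            rw [pow_succ', Equiv.Perm.mul_apply]
            exact htrans _ _ _ (h1 α hα) (hinv t ht α hα _ _ ih)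
        have h3 : α.symm = α ^ (orderOf α - 1) := by
          have h4 : α ^ (orderOf α - 1) * α = 1 := by
            rw [← pow_succ, Nat.sub_add_cancel (orderOf_pos α), pow_orderOf_eq_one]
          exact (eq_inv_of_mul_eq_one_left h4).symm
        rw [h3]
        exact hpow _ }
  have hN : N ≠ ⊤ := by
    intro h
    obtain ⟨t, ht, h1⟩ := M.trans i m₀
    obtain ⟨σ, hσ⟩ := hmv t ht
    have h2 : (⟨t, ht⟩ : T) ∈ N := h ▸ mem_top _
    apply hm₀
    rw [← Mv.unique M hA (σ := σ) hσ (hA.TH ht) h1]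
    exact h2 σ hσ
  obtain ⟨K, hK, hNK⟩ := (eq_top_or_exists_le_coatom N).resolve_left hN
  have hK2 : K.index = 2 := Lib.FrattiniPGroup.index_of_coatom hT2 hK
  have hstab : ∀ t (ht : t ∈ T) σ, Mv M t σ → σ i = i → (⟨t, ht⟩ : T) ∈ K := by
    intro t ht σ hσ h1
    refine hNK fun τ hτ => ?_
    rw [huniq t ht τ σ hτ hσ i, h1]
    exact hrefl i
  let B : Set (Fin k) := {m | ∃ t : T, t ∉ K ∧ ∃ σ, Mv M (t : G) σ ∧ σ i = m}
  have hBc : ∀ m, m ∉ B ↔ ∃ t : T, t ∈ K ∧ ∃ σ, Mv M (t : G) σ ∧ σ i = m := by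
    intro m
    constructor
    · intro h
      obtain ⟨t, ht, h1⟩ := M.trans i m
      obtain ⟨σ, hσ⟩ := hmv t ht
      have h2 := Mv.unique M hA (σ := σ) hσ (hA.TH ht) h1
      refine ⟨⟨t, ht⟩, ?_, σ, hσ, h2⟩
      by_contra h3
      exact h ⟨⟨t, ht⟩, h3, σ, hσ, h2⟩
    · rintro ⟨t, ht, σ, hσ, h1⟩ ⟨s, hs, τ, hτ, h2⟩
      apply hs
      have h3 : t⁻¹ * s ∈ K := by
        refine hstab _ (mul_mem (inv_mem t.2) s.2) (σ.symm * τ) ?_ ?_
        · exact mv_mul hA (hA.TH s.2) (Mv.inv M hA (σ := σ) hσ (hA.TH t.2)) hτ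
        · rw [Equiv.Perm.mul_apply, h2, ← h1, Equiv.symm_apply_apply]
      have h4 := K.mul_mem ht h3
      rwa [mul_inv_cancel_left] at h4
  have hmov : ∀ (t : T) σ, Mv M (t : G) σ → ∀ m, (t ∈ K → (σ m ∈ B ↔ m ∈ B)) ∧ (t ∉ K → (σ m ∈ B ↔ m ∉ B)) := by
    intro t σ hσ m
    have key : ∀ s : T, ∀ τ, Mv M (s : G) τ → τ i = m → ((t * s : T) ∉ K ↔ σ m ∈ B) := by
      intro s τ hτ h1
      have h2 : Mv M ((t * s : T) : G) (σ * τ) := mv_mul hA (hA.TH s.2) hσ hτ
      have h3 : (σ * τ) i = σ m := by rw [Equiv.Perm.mul_apply, h1]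
      constructor
      · intro h
        exact ⟨_, h, _, h2, h3⟩
      · intro h h4
        exact (hBc (σ m)).2 ⟨_, h4, _, h2, h3⟩ h
    have key2 : ∀ s : T, ∀ τ, Mv M (s : G) τ → τ i = m → (s ∉ K ↔ m ∈ B) := by
      intro s τ hτ h1
      constructor
      · intro h
        exact ⟨_, h, _, hτ, h1⟩
      · intro h h4
        exact (hBc m).2 ⟨_, h4, _, hτ, h1⟩ h
    obtain ⟨s, hs, h1⟩ := M.trans i m
    obtain ⟨τ, hτ⟩ := hmv s hs
    have h2 := Mv.unique M hA (σ := τ) hτ (hA.TH hs) h1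
    have h3 := key ⟨s, hs⟩ τ hτ h2
    have h4 := key2 ⟨s, hs⟩ τ hτ h2
    have h5 := mul_mem_iff_of_index_two hK2 (a := t) (b := ⟨s, hs⟩)
    constructor
    · intro ht
      rw [← h3, ← h4, h5]
      simp [ht]
    · intro ht
      rw [← h3, ← h4, h5]
      simp [ht]
  have hi : i ∉ B := by
    rw [hBc]
    refine ⟨1, one_mem K, 1, ?_, rfl⟩
    intro v hv i
    rw [OneMemClass.coe_one, one_mul, inv_one, mul_one]
    rfl
  refine ⟨B, ⟨?_, ⟨i, hi⟩, ?_⟩, ?_⟩
  · -- `B` is not empty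
    obtain ⟨t, ht⟩ : ∃ t : T, t ∉ K := by
      by_contra h
      push Not at h
      exact hK.1 ((eq_top_iff' K).2 h)
    obtain ⟨σ, hσ⟩ := hmv t t.2
    exact ⟨σ i, t, ht, σ, hσ, rfl⟩
  · intro t ht σ hσ
    by_cases htK : (⟨t, ht⟩ : T) ∈ K
    · left
      ext m
      constructor
      · rintro ⟨a, ha, rfl⟩
        exact ((hmov ⟨t, ht⟩ σ hσ a).1 htK).2 ha
      · intro hm
        refine ⟨σ.symm m, ?_, σ.apply_symm_apply m⟩
        rw [← (hmov ⟨t, ht⟩ σ hσ _).1 htK, σ.apply_symm_apply]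
        exact hm
    · right
      ext m
      constructor
      · rintro ⟨a, ha, rfl⟩ h
        exact ((hmov ⟨t, ht⟩ σ hσ a).2 htK).1 h ha
      · intro hm
        refine ⟨σ.symm m, ?_, σ.apply_symm_apply m⟩
        by_contra h
        rw [← (hmov ⟨t, ht⟩ σ hσ _).2 htK, σ.apply_symm_apply] at h
        exact hm h
  · intro j hj
    rw [hBc]
    obtain ⟨t, ht, h1⟩ := M.trans i j
    obtain ⟨σ, hσ⟩ := hmv t ht
    have h2 := Mv.unique M hA (σ := σ) hσ (hA.TH ht) h1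
    refine ⟨⟨t, ht⟩, hNK fun τ hτ => ?_, σ, hσ, h2⟩
    rw [huniq t ht τ σ hτ hσ i, h2]
    exact hj

end blocks

end Cfsg.Agent.Omega.NO1.Many

end

section


/-!
# The elements of `H` act semilinearly on the summands

`exists_T` : for `g ∈ H` with permutation `σ` and every `i` there is an additive, semilinear map `T` with
`e (g v g⁻¹) (σ i) = T (e v i)`.
-/

set_option autoImplicit false
set_option linter.unusedSectionVars false

namespace Cfsg.Agent.Omega.NO1.Many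

open Subgroup Cfsg Cfsg.Agent.Omega.FFThm
open Cfsg.Agent.Omega.Half Cfsg.Agent.Omega.Half.NatA
open Cfsg.Agent.Lib.SL2Mat Cfsg.Agent.Omega.NatPair

universe u

variable {G : Type u} [Group G] {F : Type} [Field F] {T H V : Subgroup G} {k : ℕ}

/-- The action of an element of `H` on a summand. -/
structure Sem (M : NatK F T H V ⊥ k) (g : G) (σ : Equiv.Perm (Fin k)) (i : Fin k)
    (L : (Fin 2 → F) → (Fin 2 → F)) (τ : F → F) : Prop where
  add : ∀ x y, L (x + y) = L x + L y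
  smul : ∀ (c : F) x, L (c • x) = τ c • L x
  e : ∀ v ∈ V, M.e (g * v * g⁻¹) (σ i) = L (M.e v i)

theorem exists_T {M : NatK F T H V ⊥ k} (hA : Amb T H V) {g : G} (hg : g ∈ H) {σ : Equiv.Perm (Fin k)}
    (hσ : Mv M g σ) (i : Fin k) : ∃ L τ, Sem M g σ i L τ := by
  classical
  have hι : ∀ (j : Fin k) (x : Fin 2 → F), ∃ v ∈ fac M {j}, M.e v j = x := by
    intro j x
    obtain ⟨v, hv, h⟩ := exists_fac M {j} fun _ => x
    exact ⟨v, hv, h j rfl⟩
  choose ι hι1 hι2 using hι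
  have hσ' := Mv.inv M hA (σ := σ) hσ hg
  have hgi : g⁻¹ ∈ H := inv_mem hg
  set L : (Fin 2 → F) → (Fin 2 → F) := fun x => M.e (g * ι i x * g⁻¹) (σ i) with hL
  set L' : (Fin 2 → F) → (Fin 2 → F) := fun y => M.e (g⁻¹ * ι (σ i) y * g) i with hL'
  have he : ∀ v ∈ V, M.e (g * v * g⁻¹) (σ i) = L (M.e v i) := by
    intro v hv
    exact comp_eq hA hσ hg hv (hι1 i _).1 (hι2 i _).symm
  have he' : ∀ v ∈ V, M.e (g⁻¹ * v * g) i = L' (M.e v (σ i)) := by
    intro v hv
    have h1 := comp_eq hA hσ' hgi hv (hι1 (σ i) (M.e v (σ i))).1 (hι2 (σ i) _).symm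
    rw [Equiv.symm_apply_apply, inv_inv] at h1
    exact h1
  have hadd : ∀ x y, L (x + y) = L x + L y := by
    intro x y
    have h1 : M.e (ι i x * ι i y) i = x + y := by
      rw [M.mul _ (hι1 i x).1 _ (hι1 i y).1, Pi.add_apply, hι2, hι2]
    rw [← h1, ← he _ (mul_mem (hι1 i x).1 (hι1 i y).1)]
    have e1 : g * (ι i x * ι i y) * g⁻¹ = (g * ι i x * g⁻¹) * (g * ι i y * g⁻¹) := by group
    rw [e1, M.mul _ (hA.conj_mem hg (hι1 i x).1) _ (hA.conj_mem hg (hι1 i y).1)]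
    rfl
  have h1 : ∀ x, L' (L x) = x := by
    intro x
    rw [hL]
    change L' (M.e (g * ι i x * g⁻¹) (σ i)) = x
    rw [← he' _ (hA.conj_mem hg (hι1 i x).1)]
    have e1 : g⁻¹ * (g * ι i x * g⁻¹) * g = ι i x := by group
    rw [e1, hι2]
  have h2 : ∀ x, L (L' x) = x := by
    intro x
    change L (M.e (g⁻¹ * ι (σ i) x * g) i) = x
    rw [← he _ (conj_mem' hA hg (hι1 (σ i) x).1)]
    have e1 : g * (g⁻¹ * ι (σ i) x * g) * g⁻¹ = ι (σ i) x := by group
    rw [e1, hι2]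
  have hn : ∀ A : Matrix.SpecialLinearGroup (Fin 2) F, ∃ B : Matrix.SpecialLinearGroup (Fin 2) F,
      ∀ x, L' (ap A (L x)) = ap B x := by
    intro A
    obtain ⟨h, hh, hhA, -⟩ := M.lift (Function.update 1 (σ i) A)
    obtain ⟨B, hB⟩ := M.norm g⁻¹ hgi h hh _ hhA
    refine ⟨B i, fun x => ?_⟩
    have h3 : M.e (h * (g * ι i x * g⁻¹) * h⁻¹) (σ i) = ap A (L x) := by
      rw [hhA _ (hA.conj_mem hg (hι1 i x).1) (σ i), Function.update_self]
    rw [← h3, ← he' _ (hA.conj_mem hh (hA.conj_mem hg (hι1 i x).1))]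
    have h4 := hB (ι i x) (hι1 i x).1 i
    rw [hι2] at h4
    rw [← h4]
    congr 1
    group
  obtain ⟨τ, hτ⟩ := NatPair.exists_semi L L' hadd h1 h2 hn
  exact ⟨L, τ, hadd, hτ, he⟩

namespace Sem

variable {M : NatK F T H V ⊥ k} {g : G} {σ : Equiv.Perm (Fin k)} {i : Fin k}
  {L : (Fin 2 → F) → (Fin 2 → F)} {τ : F → F} (s : Sem M g σ i L τ) (hσ : Mv M g σ)

include s hσ

theorem inj {x : Fin 2 → F} (h : L x = 0) : x = 0 := by
  obtain ⟨v, hv, hx⟩ := exists_fac M {i} fun _ => x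
  have hx := hx i rfl
  rw [← hx] at h ⊢
  rw [← s.e v hv.1] at h
  exact (hσ v hv.1 i).1 h

theorem tau_add (c d : F) : τ (c + d) = τ c + τ d := by
  have h1 : L ![1, 0] ≠ 0 := fun h => one_ne_zero (congrFun (s.inj hσ h) 0)
  have h2 : τ (c + d) • L ![1, 0] = (τ c + τ d) • L ![1, 0] := by
    rw [← s.smul, add_smul, s.add, s.smul, s.smul, ← add_smul]
  exact smul_left_injective F h1 h2

theorem tau_one : τ 1 = 1 := by
  have h1 : L ![1, 0] ≠ 0 := fun h => one_ne_zero (congrFun (s.inj hσ h) 0)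
  have h2 : τ 1 • L ![1, 0] = (1 : F) • L ![1, 0] := by
    rw [← s.smul, one_smul, one_smul]
  exact smul_left_injective F h1 h2

end Sem

end Cfsg.Agent.Omega.NO1.Many

end

section


/-!
# The leaf N1, `V_P` a sum of `k ≥ 2` natural modules, `Q` moves a summand (text helper727 #14576 (1), (2), (4))

`v ∈ V_i - E`, a frame at `v`, `f₁ ∈ A = E^g` moves `V_i` to `V_j`, `j ≠ i`; the lines lie in `E`.
`Swap.main` : `|F| = 2` and `k = 2`.
-/

set_option autoImplicit false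
set_option linter.unusedSectionVars false

namespace Cfsg.Agent.Omega.NO1.Many

open Subgroup Cfsg Cfsg.Agent.ZN Cfsg.Agent.Omega.MinPar Cfsg.Agent.Omega.Frame Cfsg.Agent.Omega.FFThm
open Cfsg.Agent.Omega.NoFF.LinesPlug (CC NoOne)
open Cfsg.Agent.Omega.Half Cfsg.Agent.Omega.Half.NatA
open Cfsg.Agent.Lib.SL2Mat Cfsg.Agent.Omega.NatPair
open scoped Pointwise

universe u

variable {G : Type u} [Group G] [Finite G] {S : Sylow 2 G} {P : Subgroup G}

theorem amb (h : Cfg S P) : Amb (S : Subgroup G) P (zl (S : Subgroup G) P) :=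
  amb_of_loc h.ctx.char2 S h.loc

/-- `E` is normalised by `S`. -/
theorem E_conj (h : Cfg S P) {t e : G} (ht : t ∈ (S : Subgroup G)) (he : e ∈ EE (S : Subgroup G) P) :
    t * e * t⁻¹ ∈ EE (S : Subgroup G) P := by
  refine mem_inf.2 ⟨(amb h).conj_mem (h.S_le ht) he.1, ?_⟩
  exact (mem_normalizer_iff.1 (le_normalizer_o2 _ (Cfg.S_le_CC S ht)) e).1 he.2

section fam

variable (h : Cfg S P) {F : Type} [Field F] [CharP F 2] {k : ℕ}
  {M : NatK F (S : Subgroup G) P (zl (S : Subgroup G) P) ⊥ k} {v g : G} (f : Fam S P v g)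

include h

include f in
/-- the decomposition `E = [v, A] D` in coordinates -/
theorem dec {e : G} (he : e ∈ EE (S : Subgroup G) P) : ∃ a ∈ AA (S : Subgroup G) P g,
    ∃ d ∈ DD (S : Subgroup G) P g, ∀ m, M.e d m = M.e v m + M.e (a * v * a⁻¹) m + M.e e m := by
  obtain ⟨a, ha, d, hd, h1⟩ := f.exists_eq he
  have hA := amb h
  have hav : a * v * a⁻¹ ∈ zl (S : Subgroup G) P := hA.conj_mem (h.S_le (f.A_le_S h ha)) f.mem
  refine ⟨a, ha, d, hd, fun m => ?_⟩
  have h2 : M.e e m = M.e v m + M.e (a * v * a⁻¹) m + M.e d m := by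
    rw [h1, M.mul _ (mul_mem f.mem hav) _ (f.near.DV hd), M.mul _ f.mem _ hav]
    rfl
  rw [h2]
  have e2 : ∀ x y : Fin 2 → F, x + y + (x + y + M.e d m) = M.e d m := by
    intro x y
    rw [← add_assoc, show x + y + (x + y) = 0 from funext fun _ => CharTwo.add_self_eq_zero _, zero_add]
  exact (e2 _ _).symm

include f in
theorem AP {a : G} (ha : a ∈ AA (S : Subgroup G) P g) : a ∈ P := h.S_le (f.A_le_S h ha)

include f in
/-- the permutation of an element of `A` is an involution -/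
theorem mv_sq {a : G} (ha : a ∈ AA (S : Subgroup G) P g) {σ : Equiv.Perm (Fin k)} (hσ : Mv M a σ) (m : Fin k) :
    σ (σ m) = m := by
  have hA := amb h
  have h1 := mv_mul hA (AP h f ha) hσ hσ
  rw [f.A_sq ha] at h1
  refine Mv.unique M hA (σ := σ * σ) h1 (one_mem P) fun w _ => ?_
  rw [one_mul, inv_one, mul_one]

omit h in
theorem add_eq_zero_iff' {x y : Fin 2 → F} : x + y = 0 ↔ x = y := by
  constructor
  · intro h0
    have h1 : x + y + y = y := by rw [h0, zero_add]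
    rwa [add_assoc, show y + y = 0 from funext fun _ => CharTwo.add_self_eq_zero _, add_zero] at h1
  · rintro rfl
    exact funext fun _ => CharTwo.add_self_eq_zero _

end fam

/-! ### `A` moves the summand of `v` -/

section swap

variable (h : Cfg S P) {F : Type} [Field F] [CharP F 2] {k : ℕ}
  {M : NatK F (S : Subgroup G) P (zl (S : Subgroup G) P) ⊥ k} {v g : G} (f : Fam S P v g)
  {i j : Fin k} (hv : v ∈ fac M {i}) {f1 : G} (hf1 : f1 ∈ AA (S : Subgroup G) P g)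
  {σ1 : Equiv.Perm (Fin k)} (hσ1 : Mv M f1 σ1) (hij : σ1 i = j) (hne : j ≠ i)

include h f hv hf1 hσ1 hij hne

theorem v_ne_one : v ≠ 1 := fun h1 => f.notMem (h1 ▸ one_mem _)

theorem sigma_j : σ1 j = i := by rw [← hij]; exact mv_sq h f hf1 hσ1 i

/-- The orbit of `i` is `{i, j}`. -/
theorem orbit {b : G} (hb : b ∈ AA (S : Subgroup G) P g) {σ : Equiv.Perm (Fin k)} (hσ : Mv M b σ) :
    σ i = i ∨ σ i = j := by
  have hA := amb h
  by_contra hcon
  push Not at hcon
  obtain ⟨hmi, hmj⟩ := hcon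
  have hv1 := v_ne_one h f hv hf1 hσ1 hij hne
  have hvi := comp_ne_zero hv hv1
  obtain ⟨y, hy0, hy1⟩ := exists_ne_ne (M.e v i)
  obtain ⟨w, hw, hwy⟩ := exists_fac M {i} fun _ => y
  have hwy := hwy i rfl
  have hf1P := AP h f hf1
  have hwf : f1 * w * f1⁻¹ ∈ fac M {j} := hij ▸ conj_fac hA hσ1 hf1P hw
  have hwf0 : M.e (f1 * w * f1⁻¹) j ≠ 0 := by
    rw [← hij, Ne, hσ1 w hw.1 i, hwy]
    exact hy0
  obtain ⟨a, ha, d, hd, hde⟩ := dec (M := M) h f (f.comm_mem hw.1 hf1)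
  have haP := AP h f ha
  obtain ⟨σa, hσa⟩ := M.perm a haP
  have hva : a * v * a⁻¹ ∈ fac M {σa i} := conj_fac hA hσa haP hv
  have hdV := f.near.DV hd
  have hE : ∀ m, M.e d m = M.e v m + M.e (a * v * a⁻¹) m + (M.e w m + M.e (f1 * w * f1⁻¹) m) := by
    intro m
    rw [hde, M.mul _ hw.1 _ hwf.1]
    rfl
  have hfb := f.D_fix hb hd
  have hff := f.D_fix hf1 hd
  have s1 := supp_iff hA hσ hdV hfb i
  by_cases h1 : σa i = i
  · -- `j` is in the support
    have h2 : M.e d j ≠ 0 := by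
      rw [hE, hv.2 j hne, hva.2 j (by rw [h1]; exact hne), hw.2 j hne, zero_add, zero_add, zero_add]
      exact hwf0
    have h3 : M.e d i ≠ 0 := by
      have := supp_iff hA hσ1 hdV hff j
      rw [sigma_j h f hv hf1 hσ1 hij hne] at this
      rwa [Ne, this]
    apply mt s1.1 h3
    rw [hE, hv.2 _ hmi, hva.2 _ (by rw [h1]; exact hmi), hw.2 _ hmi, hwf.2 _ hmj]
    simp
  by_cases h2 : σa i = j
  · have h3 : M.e d i ≠ 0 := by
      rw [hE, hva.2 i (by rw [h2]; exact hne.symm), hwf.2 i hne.symm, add_zero, add_zero]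
      intro h4
      rw [hwy] at h4
      exact hy1 (add_eq_zero_iff'.1 h4).symm
    apply mt s1.1 h3
    rw [hE, hv.2 _ hmi, hva.2 _ (by rw [h2]; exact hmj), hw.2 _ hmi, hwf.2 _ hmj]
    simp
  · -- the components `i` and `j` of `d`
    have h3 : M.e d i = M.e (v * w) i := by
      rw [hE, hva.2 i fun h' => h1 h'.symm, hwf.2 i hne.symm, M.mul v hv.1 w hw.1, add_zero, add_zero]
      rfl
    have h4 := comp_eq hA hσ1 hf1P hdV (mul_mem hv.1 hw.1) h3
    rw [hff, hij, hE, hv.2 j hne, hva.2 j fun h' => h2 h'.symm, hw.2 j hne, zero_add, zero_add, zero_add] at h4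
    have e1 : f1 * (v * w) * f1⁻¹ = (f1 * v * f1⁻¹) * (f1 * w * f1⁻¹) := by group
    rw [e1, M.mul _ (hA.conj_mem hf1P hv.1) _ hwf.1, Pi.add_apply] at h4
    have h5 : M.e (f1 * v * f1⁻¹) j = 0 := right_eq_add.1 h4
    rw [← hij, hσ1 v hv.1] at h5
    exact hvi h5

/-- `w` or `v w` is centralised by the stabiliser of `i` in `A`. -/
theorem cent_or {w : G} (hw : w ∈ fac M {i}) :
    (∀ b ∈ AA (S : Subgroup G) P g, ∀ σ, Mv M b σ → σ i = i → M.e (b * w * b⁻¹) i = M.e w i) ∨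
      ∀ b ∈ AA (S : Subgroup G) P g, ∀ σ, Mv M b σ → σ i = i →
        M.e (b * (v * w) * b⁻¹) i = M.e (v * w) i := by
  have hA := amb h
  have hf1P := AP h f hf1
  have hwf : f1 * w * f1⁻¹ ∈ fac M {j} := hij ▸ conj_fac hA hσ1 hf1P hw
  obtain ⟨a, ha, d, hd, hde⟩ := dec (M := M) h f (f.comm_mem hw.1 hf1)
  have haP := AP h f ha
  obtain ⟨σa, hσa⟩ := M.perm a haP
  have hva : a * v * a⁻¹ ∈ fac M {σa i} := conj_fac hA hσa haP hv
  have hdV := f.near.DV hd
  have hE : ∀ m, M.e d m = M.e v m + M.e (a * v * a⁻¹) m + (M.e w m + M.e (f1 * w * f1⁻¹) m) := by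
    intro m
    rw [hde, M.mul _ hw.1 _ hwf.1]
    rfl
  have hff := f.D_fix hf1 hd
  rcases orbit h f hv hf1 hσ1 hij hne ha hσa with h1 | h1
  · left
    -- `v ^ a = v`
    have h3 : M.e d i = M.e (v * (a * v * a⁻¹) * w) i := by
      rw [hE, hwf.2 i hne.symm, M.mul _ (mul_mem hv.1 hva.1) w hw.1, M.mul _ hv.1 _ hva.1, add_zero]
      rfl
    have h4 := comp_eq hA hσ1 hf1P hdV (mul_mem (mul_mem hv.1 hva.1) hw.1) h3
    rw [hff, hij, hE, hv.2 j hne, hva.2 j (by rw [h1]; exact hne), hw.2 j hne, zero_add, zero_add, zero_add] at h4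
    have e1 : f1 * (v * (a * v * a⁻¹) * w) * f1⁻¹ = (f1 * (v * (a * v * a⁻¹)) * f1⁻¹) * (f1 * w * f1⁻¹) := by
      group
    rw [e1, M.mul _ (hA.conj_mem hf1P (mul_mem hv.1 hva.1)) _ hwf.1, Pi.add_apply] at h4
    have h5 : M.e (f1 * (v * (a * v * a⁻¹)) * f1⁻¹) j = 0 := right_eq_add.1 h4
    rw [← hij, hσ1 _ (mul_mem hv.1 hva.1), M.mul _ hv.1 _ hva.1, Pi.add_apply] at h5
    have h6 : M.e d i = M.e w i := by
      rw [hE, h5, hwf.2 i hne.symm, zero_add, add_zero]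
    intro b hb σ hσ hσi
    have h7 := comp_eq hA hσ (AP h f hb) hdV hw.1 h6
    rw [f.D_fix hb hd, hσi] at h7
    rw [← h7, h6]
  · right
    have h6 : M.e d i = M.e (v * w) i := by
      rw [hE, hva.2 i (by rw [h1]; exact hne.symm), hwf.2 i hne.symm, M.mul v hv.1 w hw.1, add_zero, add_zero]
      rfl
    intro b hb σ hσ hσi
    have h7 := comp_eq hA hσ (AP h f hb) hdV (mul_mem hv.1 hw.1) h6
    rw [f.D_fix hb hd, hσi] at h7
    rw [← h7, h6]

/-- the elements of `E ∩ V_i` are the `v v^b`, `b ∈ A` fixing `i` -/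
theorem exists_b {e : G} (he : e ∈ EE (S : Subgroup G) P) (hei : e ∈ fac M {i}) :
    ∃ b ∈ AA (S : Subgroup G) P g, ∃ σ, Mv M b σ ∧ σ i = i ∧
      M.e (b * v * b⁻¹) i = M.e v i + M.e e i := by
  have hA := amb h
  have hf1P := AP h f hf1
  obtain ⟨a, ha, d, hd, hE⟩ := dec (M := M) h f he
  have haP := AP h f ha
  obtain ⟨σa, hσa⟩ := M.perm a haP
  have hva : a * v * a⁻¹ ∈ fac M {σa i} := conj_fac hA hσa haP hv
  have hdV := f.near.DV hd
  have hff := f.D_fix hf1 hd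
  rcases orbit h f hv hf1 hσ1 hij hne ha hσa with h1 | h1
  · refine ⟨a, ha, σa, hσa, h1, ?_⟩
    have h2 : M.e d j = 0 := by
      rw [hE, hv.2 j hne, hva.2 j (by rw [h1]; exact hne), hei.2 j hne]
      simp
    have h3 := supp_iff hA hσ1 hdV hff i
    rw [hij] at h3
    have h4 := h3.1 h2
    rw [hE] at h4
    have h5 := add_eq_zero_iff'.1 h4
    rw [← h5, ← add_assoc, show M.e v i + M.e v i = 0 from funext fun _ => CharTwo.add_self_eq_zero _, zero_add]
  · have h3 : M.e d i = M.e (v * e) i := by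
      rw [hE, hva.2 i (by rw [h1]; exact hne.symm), M.mul v hv.1 e hei.1, add_zero]
      rfl
    have h4 := comp_eq hA hσ1 hf1P hdV (mul_mem hv.1 hei.1) h3
    rw [hff, hij, hE, hv.2 j hne, hei.2 j hne, zero_add, add_zero] at h4
    have h5 : f1 * (v * e) * f1⁻¹ ∈ fac M {j} := hij ▸ conj_fac hA hσ1 hf1P (mul_mem hv hei)
    have h6 : a * v * a⁻¹ = f1 * (v * e) * f1⁻¹ := eq_of_comp (h1 ▸ hva) h5 h4
    refine ⟨f1 * a, mul_mem hf1 ha, σ1 * σa, mv_mul hA haP hσ1 hσa, ?_, ?_⟩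
    · rw [Equiv.Perm.mul_apply, h1]
      exact sigma_j h f hv hf1 hσ1 hij hne
    · have e1 : f1 * a * v * (f1 * a)⁻¹ = f1 * (a * v * a⁻¹) * f1⁻¹ := by group
      have e2 : f1 * (f1 * (v * e) * f1⁻¹) * f1⁻¹ = (f1 * f1) * (v * e) * (f1 * f1)⁻¹ := by group
      rw [e1, h6, e2, f.A_sq hf1, one_mul, inv_one, mul_one, M.mul v hv.1 e hei.1]
      rfl

/-- `|F| = 2` -/
theorem card_two (hL : Ln M ≤ EE (S : Subgroup G) P) (c : F) : c = 0 ∨ c = 1 := by
  have hA := amb h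
  obtain ⟨l, hl, hle⟩ := exists_fac M {i} fun _ => ![1, 0]
  have hle := hle i rfl
  have hlL : l ∈ Ln M := by
    refine ⟨hl.1, fun m => ?_⟩
    by_cases hm : m = i
    · rw [hm, hle]; rfl
    · rw [hl.2 m hm]; rfl
  obtain ⟨b, hb, σ, hσ, hσi, hbe⟩ := exists_b h f hv hf1 hσ1 hij hne (hL hlL) hl
  obtain ⟨L, τ, hs⟩ := exists_T hA (AP h f hb) hσ i
  have hLe : ∀ w ∈ zl (S : Subgroup G) P, M.e (b * w * b⁻¹) i = L (M.e w i) := by
    intro w hw
    have := hs.e w hw
    rwa [hσi] at this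
  have hv0 : M.e v i 1 ≠ 0 := by
    intro h0
    refine f.notMem (hL ⟨hv.1, fun m => ?_⟩ : v ∈ EE (S : Subgroup G) P).2
    by_cases hm : m = i
    · rw [hm, h0]
    · rw [hv.2 m hm]; rfl
  have hLv : L (M.e v i) = M.e v i + ![1, 0] := by rw [← hLe v hv.1, hbe, hle]
  have key : ∀ c : F, L (c • M.e v i) = c • M.e v i → c = 0 := by
    intro c hc
    rw [hs.smul, hLv] at hc
    have h1 := congrFun hc 1
    have h0 := congrFun hc 0
    simp only [Pi.smul_apply, Pi.add_apply, smul_eq_mul, Matrix.cons_val_one, Matrix.cons_val_zero, add_zero] at h0 h1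
    have h2 : τ c = c := mul_right_cancel₀ hv0 h1
    rw [h2, mul_add, mul_one] at h0
    exact left_eq_add.1 h0.symm
  obtain ⟨w, hw, hwe⟩ := exists_fac M {i} fun _ => c • M.e v i
  have hwe := hwe i rfl
  rcases cent_or h f hv hf1 hσ1 hij hne hw with h1 | h1
  · left
    have h2 := h1 b hb σ hσ hσi
    rw [hLe w hw.1, hwe] at h2
    exact key c h2
  · right
    have h2 := h1 b hb σ hσ hσi
    rw [hLe _ (mul_mem hv.1 hw.1), M.mul v hv.1 w hw.1, Pi.add_apply, hwe] at h2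
    have e1 : M.e v i + c • M.e v i = (1 + c) • M.e v i := by rw [add_smul, one_smul]
    rw [e1] at h2
    have h3 := key _ h2
    have h4 : (1 : F) + c + c = c := by rw [h3, zero_add]
    rw [add_assoc, CharTwo.add_self_eq_zero, add_zero] at h4
    exact h4.symm

/-- **`Q` moves a summand: `k = 2`.** -/
theorem k_two (hL : Ln M ≤ EE (S : Subgroup G) P) : k = 2 := by
  classical
  have hA := amb h
  have hF := card_two h f hv hf1 hσ1 hij hne hL
  have hF1 : ∀ c : F, c ≠ 0 → c = 1 := fun c hc => (hF c).resolve_left hc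
  by_contra hk
  have hf1P := AP h f hf1
  have hv1 := v_ne_one h f hv hf1 hσ1 hij hne
  have hvi := comp_ne_zero hv hv1
  have hv0 : M.e v i 1 ≠ 0 := by
    intro h0
    refine f.notMem (hL ⟨hv.1, fun m => ?_⟩ : v ∈ EE (S : Subgroup G) P).2
    by_cases hm : m = i
    · rw [hm, h0]
    · rw [hv.2 m hm]; rfl
  have hvf : f1 * v * f1⁻¹ ∈ fac M {j} := hij ▸ conj_fac hA hσ1 hf1P hv
  have hvf0 : M.e (f1 * v * f1⁻¹) j 1 ≠ 0 := by
    rw [← hij, Ne, line hA (f.A_le_S h hf1) hσ1 hv.1]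
    exact hv0
  -- the relation
  let R : Fin k → Fin k → Prop := fun a b => ∃ x ∈ fac M {a}, ∃ y ∈ fac M {b}, M.e x a 1 ≠ 0 ∧
    M.e y b 1 ≠ 0 ∧ x * y ∈ EE (S : Subgroup G) P
  have hprod : ∀ a, ∀ x ∈ fac M {a}, ∀ y ∈ fac M {a}, M.e x a 1 ≠ 0 → M.e y a 1 ≠ 0 →
      x * y ∈ EE (S : Subgroup G) P := by
    intro a x hx y hy hx1 hy1
    refine hL ⟨mul_mem hx.1 hy.1, fun m => ?_⟩
    rw [M.mul x hx.1 y hy.1, Pi.add_apply, Pi.add_apply]
    by_cases hm : m = a
    · rw [hm, hF1 _ hx1, hF1 _ hy1]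
      exact CharTwo.add_self_eq_zero 1
    · rw [hx.2 m hm, hy.2 m hm]
      simp
  have hrefl : ∀ a, R a a := by
    intro a
    obtain ⟨x, hx, hxe⟩ := exists_fac M {a} fun _ => ![0, 1]
    have hxe := hxe a rfl
    have h1 : M.e x a 1 ≠ 0 := by rw [hxe]; exact one_ne_zero
    exact ⟨x, hx, x, hx, h1, h1, hprod a x hx x hx h1 h1⟩
  have htrans : ∀ a b c, R a b → R b c → R a c := by
    rintro a b c ⟨x, hx, y, hy, hx1, hy1, hxy⟩ ⟨y', hy', z, hz, hy1', hz1, hyz⟩
    refine ⟨x, hx, z, hz, hx1, hz1, ?_⟩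
    have h1 := mul_mem (mul_mem hxy (hprod b y hy y' hy' hy1 hy1')) hyz
    have e1 : x * y * (y * y') * (y' * z) = x * (y * y) * (y' * y') * z := by group
    rw [e1, sq_self hA hy.1, sq_self hA hy'.1, mul_one, mul_one] at h1
    exact h1
  have hinv : ∀ t ∈ (S : Subgroup G), ∀ σ, Mv M t σ → ∀ a b, R a b → R (σ a) (σ b) := by
    rintro t ht σ hσ a b ⟨x, hx, y, hy, hx1, hy1, hxy⟩
    have htP := h.S_le ht
    refine ⟨t * x * t⁻¹, conj_fac hA hσ htP hx, t * y * t⁻¹, conj_fac hA hσ htP hy, ?_, ?_, ?_⟩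
    · rwa [Ne, line hA ht hσ hx.1]
    · rwa [Ne, line hA ht hσ hy.1]
    · have := E_conj h ht hxy
      have e1 : t * (x * y) * t⁻¹ = t * x * t⁻¹ * (t * y * t⁻¹) := by group
      rwa [e1] at this
  have hRij : R i j := ⟨v, hv, _, hvf, hv0, hvf0, f.comm_mem hv.1 hf1⟩
  have hclass : ∀ m, R i m → m = i ∨ m = j := by
    rintro m ⟨x, hx, y, hy, hx1, hy1, hxy⟩
    by_contra hcon
    push Not at hcon
    obtain ⟨hmi, hmj⟩ := hcon
    have he : v * y ∈ EE (S : Subgroup G) P := by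
      have h1 := mul_mem (hprod i v hv x hx hv0 hx1) hxy
      have e1 : v * x * (x * y) = v * (x * x) * y := by group
      rwa [e1, sq_self hA hx.1, mul_one] at h1
    obtain ⟨a, ha, d, hd, hE⟩ := dec (M := M) h f he
    have haP := AP h f ha
    obtain ⟨σa, hσa⟩ := M.perm a haP
    have hva : a * v * a⁻¹ ∈ fac M {σa i} := conj_fac hA hσa haP hv
    have hva0 : M.e (a * v * a⁻¹) (σa i) ≠ 0 := by rw [Ne, hσa v hv.1]; exact hvi
    have hdV := f.near.DV hd
    have hE' : ∀ m, M.e d m = M.e (a * v * a⁻¹) m + M.e y m := by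
      intro m
      rw [hE, M.mul v hv.1 y hy.1, Pi.add_apply]
      have e2 : ∀ x y z : Fin 2 → F, x + y + (x + z) = y + z := by
        intro x y z
        rw [add_add_add_comm, show x + x = 0 from funext fun _ => CharTwo.add_self_eq_zero _, zero_add]
      exact e2 _ _ _
    have h3 := supp_iff hA hσ1 hdV (f.D_fix hf1 hd) (σa i)
    rcases orbit h f hv hf1 hσ1 hij hne ha hσa with h1 | h1
    · rw [h1, hij, hE', hE', hy.2 i fun h' => hmi h'.symm, hy.2 j fun h' => hmj h'.symm,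
        hva.2 j (by rw [h1]; exact hne)] at h3
      rw [h1] at hva0
      apply hva0
      have := h3.1 (add_zero 0)
      rwa [add_zero] at this
    · rw [h1, sigma_j h f hv hf1 hσ1 hij hne, hE', hE', hy.2 i fun h' => hmi h'.symm,
        hy.2 j fun h' => hmj h'.symm, hva.2 i (by rw [h1]; exact hne.symm)] at h3
      rw [h1] at hva0
      apply hva0
      have := h3.1 (add_zero 0)
      rwa [add_zero] at this
  -- a third summand
  obtain ⟨m₀, hm₀⟩ : ∃ m₀, ¬ R i m₀ := by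
    by_contra hcon
    push Not at hcon
    have h1 : (Finset.univ : Finset (Fin k)) ⊆ {i, j} := by
      intro m _
      rw [Finset.mem_insert, Finset.mem_singleton]
      exact hclass m (hcon m)
    have h2 := Finset.card_le_card h1
    rw [Finset.card_univ, Fintype.card_fin] at h2
    have h3 : Finset.card ({i, j} : Finset (Fin k)) ≤ 2 := Finset.card_le_two
    have h4 : 2 ≤ k := by
      by_contra h5
      have h6 := i.2
      have h7 := j.2
      exact hne (Fin.ext (by omega))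
    omega
  obtain ⟨B, hB, hBi⟩ := exists_blk hA S.isPGroup' R hrefl htrans hinv hm₀
  have hiB := hBi i (hrefl i)
  have hjB := hBi j hRij
  -- the element of the lines with full support in `B`
  obtain ⟨l, hl, hle⟩ := exists_fac M B fun _ => ![1, 0]
  have hlL : l ∈ Ln M := by
    refine ⟨hl.1, fun m => ?_⟩
    by_cases hm : m ∈ B
    · rw [hle m hm]; rfl
    · rw [hl.2 m hm]; rfl
  have hlD : l ∈ DD (S : Subgroup G) P g := by
    obtain ⟨a, ha, d, hd, hE⟩ := dec (M := M) h f (hL hlL)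
    have haP := AP h f ha
    obtain ⟨σa, hσa⟩ := M.perm a haP
    have hva : a * v * a⁻¹ ∈ fac M {σa i} := conj_fac hA hσa haP hv
    have hdV := f.near.DV hd
    rcases orbit h f hv hf1 hσ1 hij hne ha hσa with h1 | h1
    · -- `v ^ a = v`
      have h2 := supp_iff hA hσ1 hdV (f.D_fix hf1 hd) i
      rw [hij, hE, hE, hl.2 i hiB, hl.2 j hjB, hv.2 j hne, hva.2 j (by rw [h1]; exact hne)] at h2
      have h3 := h2.1 (by simp)
      rw [add_zero] at h3
      have h4 : d = l := by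
        apply inj M hdV hl.1
        funext m
        rw [hE]
        by_cases hm : m = i
        · rw [hm, h3, zero_add]
        · rw [hv.2 m hm, hva.2 m (by rw [h1]; exact hm), zero_add, zero_add]
      rwa [← h4]
    · exfalso
      -- the component `v` of `d` would be centralised
      obtain ⟨l', hl', hle'⟩ := exists_fac M {i} fun _ => ![1, 0]
      have hle' := hle' i rfl
      have hlL' : l' ∈ Ln M := by
        refine ⟨hl'.1, fun m => ?_⟩
        by_cases hm : m = i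
        · rw [hm, hle']; rfl
        · rw [hl'.2 m hm]; rfl
      obtain ⟨b, hb, σ, hσ, hσi, hbe⟩ := exists_b h f hv hf1 hσ1 hij hne (hL hlL') hl'
      have h2 : M.e d i = M.e v i := by
        rw [hE, hva.2 i (by rw [h1]; exact hne.symm), hl.2 i hiB, add_zero, add_zero]
      have h3 := comp_eq hA hσ (AP h f hb) hdV hv.1 h2
      rw [f.D_fix hb hd, hσi, h2, hbe, hle'] at h3
      have h4 := congrFun h3 0
      rw [Pi.add_apply] at h4
      have h5 : (![1, 0] : Fin 2 → F) 0 = 0 := left_eq_add.1 h4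
      exact one_ne_zero h5
  have h6 := (app_nat h.ctx.char2 S hA hB hl fun m hm => by
    rw [hle m hm]
    intro h0
    exact one_ne_zero (congrFun h0 0)).1
  exact f.not_mem_o2_centralizer hlD (h6 ⟨hv.1, fun m hm => hv.2 m fun h' => hm (by
    rw [show m = i from h']
    exact hiB)⟩)

end swap

end Cfsg.Agent.Omega.NO1.Many

end

section


/-!
# The leaf N1, `V_P` a sum of `k ≥ 2` natural modules, `A` fixes the summand of `v` (text helper727 #14576 (3), (4))

`v ∈ V_i - E`, a frame at `v`, all elements of `A = E^g` fix `i`; the lines lie in `E` and `E` is not the sum of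
the lines.  `fix_false` : contradiction.
-/

set_option autoImplicit false
set_option linter.unusedSectionVars false

namespace Cfsg.Agent.Omega.NO1.Many

open Subgroup Cfsg Cfsg.Agent.ZN Cfsg.Agent.Omega.MinPar Cfsg.Agent.Omega.Frame Cfsg.Agent.Omega.FFThm
open Cfsg.Agent.Omega.NoFF.LinesPlug (CC NoOne)
open Cfsg.Agent.Omega.Half Cfsg.Agent.Omega.Half.NatA
open Cfsg.Agent.Lib.SL2Mat Cfsg.Agent.Omega.NatPair
open scoped Pointwise

universe u

variable {G : Type u} [Group G] {F : Type} [Field F]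

theorem add_self' [CharP F 2] (x : Fin 2 → F) : x + x = 0 := funext fun _ => CharTwo.add_self_eq_zero _

theorem decomp (x : Fin 2 → F) : x = x 0 • ![1, 0] + x 1 • ![0, 1] := by
  apply ext2
  · simp
  · simp

section lin

variable [CharP F 2] {T H V : Subgroup G} {k : ℕ} {M : NatK F T H V ⊥ k} (hA : Amb T H V) {a : G} (ha : a ∈ T)
  (ha2 : a * a = 1) {σ : Equiv.Perm (Fin k)} (hσ : Mv M a σ) {i : Fin k} (hσi : σ i = i)
  {L : (Fin 2 → F) → (Fin 2 → F)} {τ : F → F} (hs : Sem M a σ i L τ)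

include hA ha ha2 hσ hσi hs

theorem sem_e {w : G} (hw : w ∈ V) : M.e (a * w * a⁻¹) i = L (M.e w i) := by
  have := hs.e w hw
  rwa [hσi] at this

theorem sem_sq (x : Fin 2 → F) : L (L x) = x := by
  obtain ⟨w, hw, hx⟩ := exists_fac M {i} fun _ => x
  have hx := hx i rfl
  have h1 := sem_e hA ha ha2 hσ hσi hs hw.1
  have h2 := sem_e hA ha ha2 hσ hσi hs (hA.conj_mem (hA.TH ha) hw.1)
  have e : a * (a * w * a⁻¹) * a⁻¹ = (a * a) * w * (a * a)⁻¹ := by group
  rw [e, ha2, one_mul, inv_one, mul_one, h1, hx] at h2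
  exact h2.symm

theorem sem_line (x : Fin 2 → F) : L x 1 = 0 ↔ x 1 = 0 := by
  obtain ⟨w, hw, hx⟩ := exists_fac M {i} fun _ => x
  have hx := hx i rfl
  have h1 := line hA ha hσ hw.1 i
  rw [hs.e w hw.1, hx] at h1
  exact h1

/-- a linear involution of `A` acts as an upper unitriangular matrix -/
theorem sem_lin (hτ : ∀ c, τ c = c) : ∃ b : F, ∀ x : Fin 2 → F, L x = x + (x 1 * b) • ![1, 0] := by
  have hlin : ∀ (c : F) x, L (c • x) = c • L x := fun c x => by rw [hs.smul, hτ]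
  have h10 : L ![1, 0] 1 = 0 := (sem_line hA ha ha2 hσ hσi hs ![1, 0]).2 rfl
  have hL1 : L ![1, 0] = (L ![1, 0] 0) • ![1, 0] := by
    apply ext2
    · simp
    · rw [h10]; simp
  have hsq : ∀ c : F, c * c = 1 → c = 1 := by
    intro c hc
    have h1 : (c + 1) * (c + 1) = 0 := by
      have : (c + 1) * (c + 1) = c * c + 1 + (c + c) := by ring
      rw [this, hc, CharTwo.add_self_eq_zero, CharTwo.add_self_eq_zero, add_zero]
    have h2 : c + 1 = 0 := by
      rcases mul_eq_zero.1 h1 with h | h <;> exact h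
    have h3 : c + 1 + 1 = 1 := by rw [h2, zero_add]
    rwa [add_assoc, CharTwo.add_self_eq_zero, add_zero] at h3
  set c := L ![1, 0] 0 with hc
  have h2 := sem_sq hA ha ha2 hσ hσi hs ![1, 0]
  rw [hL1, hlin, hL1] at h2
  have h3 := congrFun h2 0
  simp only [Pi.smul_apply, smul_eq_mul, Matrix.cons_val_zero, mul_one] at h3
  have hc1 := hsq c h3
  rw [hc1, one_smul] at hL1
  -- the other basis vector
  have h4 := sem_sq hA ha ha2 hσ hσi hs ![0, 1]
  set b := L ![0, 1] 0 with hb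
  set d := L ![0, 1] 1 with hd
  have hL2 : L ![0, 1] = b • ![1, 0] + d • ![0, 1] := decomp (L ![0, 1])
  rw [hL2, hs.add, hlin, hlin, hL1, hL2] at h4
  have h5 := congrFun h4 1
  simp only [Pi.smul_apply, Pi.add_apply, smul_eq_mul, Matrix.cons_val_one, Matrix.cons_val_zero, mul_one, mul_zero,
    zero_add] at h5
  have hd1 := hsq d h5
  refine ⟨b, fun x => ?_⟩
  conv_lhs => rw [decomp x]
  rw [hs.add, hlin, hlin, hL1, hL2, hd1]
  apply ext2
  · simp
  · simp

end lin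

/-! ### All elements of `A` fix `i` -/

section fix

variable [Finite G] {S : Sylow 2 G} {P : Subgroup G} (h : Cfg S P) [CharP F 2] [Finite F] {k : ℕ}
  {M : NatK F (S : Subgroup G) P (zl (S : Subgroup G) P) ⊥ k} {v g : G} (f : Fam S P v g)
  {i : Fin k} (hv : v ∈ fac M {i})
  (hfix : ∀ a ∈ AA (S : Subgroup G) P g, ∀ σ, Mv M a σ → σ i = i)
  {e₀ : G} (he₀ : e₀ ∈ EE (S : Subgroup G) P) (he₀i : M.e e₀ i 1 ≠ 0)

include f in
/-- `A ≰ D` -/
theorem not_A_le : ¬ AA (S : Subgroup G) P g ≤ DD (S : Subgroup G) P g := by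
  intro hAD
  refine f.fin.ne (le_antisymm inf_le_left ?_)
  have h1 : AA (S : Subgroup G) P g ≤ EE (S : Subgroup G) P := hAD.trans inf_le_left
  have h2 : AA (S : Subgroup G) P g = EE (S : Subgroup G) P :=
    Subgroup.eq_of_le_of_card_ge h1 (by rw [NOne.Choice.card_conj])
  exact le_inf le_rfl h2.ge

include h f hv hfix he₀ he₀i

/-- some element of `A` acts nonlinearly on `V_i` -/
theorem exists_nonlin : ∃ a ∈ AA (S : Subgroup G) P g, ∃ σ, Mv M a σ ∧ σ i = i ∧
    ∃ L τ, Sem M a σ i L τ ∧ ∃ c, τ c ≠ c := by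
  have hA := amb h
  by_contra hcon
  push Not at hcon
  apply not_A_le f
  intro b hb
  have hlin : ∀ a ∈ AA (S : Subgroup G) P g, ∃ β : F, ∀ w ∈ zl (S : Subgroup G) P,
      M.e (a * w * a⁻¹) i = M.e w i + (M.e w i 1 * β) • ![1, 0] := by
    intro a ha
    obtain ⟨σ, hσ⟩ := M.perm a (AP h f ha)
    have hσi := hfix a ha σ hσ
    obtain ⟨L, τ, hs⟩ := exists_T hA (AP h f ha) hσ i
    obtain ⟨β, hβ⟩ := sem_lin hA (f.A_le_S h ha) (f.A_sq ha) hσ hσi hs (hcon a ha σ hσ hσi L τ hs)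
    refine ⟨β, fun w hw => ?_⟩
    rw [sem_e hA (f.A_le_S h ha) (f.A_sq ha) hσ hσi hs hw, hβ]
  obtain ⟨a, ha, d, hd, hE⟩ := dec (M := M) h f he₀
  have hdV := f.near.DV hd
  obtain ⟨α, hα⟩ := hlin a ha
  have h1 : M.e d i 1 ≠ 0 := by
    rw [hE, hα v hv.1, Pi.add_apply, Pi.add_apply, Pi.add_apply]
    simp only [Pi.smul_apply, smul_eq_mul, Matrix.cons_val_one, Matrix.cons_val_zero, mul_zero, add_zero]
    rw [CharTwo.add_self_eq_zero, zero_add]
    exact he₀i
  obtain ⟨β, hβ⟩ := hlin b hb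
  have h2 := hβ d hdV
  rw [f.D_fix hb hd] at h2
  have h3 := congrFun h2 0
  simp only [Pi.add_apply, Pi.smul_apply, smul_eq_mul, Matrix.cons_val_zero, mul_one] at h3
  have h4 : M.e d i 1 * β = 0 := left_eq_add.1 h3
  have h5 : β = 0 := (mul_eq_zero.1 h4).resolve_left h1
  refine f.mem_D hb ?_
  obtain ⟨σ, hσ⟩ := M.perm b (AP h f hb)
  have hσi := hfix b hb σ hσ
  have h6 : b * v * b⁻¹ ∈ fac M {i} := by
    have := conj_fac hA hσ (AP h f hb) hv
    rwa [hσi] at this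
  apply eq_of_comp h6 hv
  rw [hβ v hv.1, h5, mul_zero, zero_smul, add_zero]

/-- `D ∩ V_m ≠ 1` for `m ≠ i` -/
theorem exists_D (hL : Ln M ≤ EE (S : Subgroup G) P) {m : Fin k} (hm : m ≠ i) :
    ∃ x ∈ DD (S : Subgroup G) P g, x ∈ fac M {m} ∧ M.e x m ≠ 0 := by
  classical
  have hA := amb h
  obtain ⟨a, ha, σ, hσ, hσi, L, τ, hs, c, hc⟩ := exists_nonlin h f hv hfix he₀ he₀i
  have haP := AP h f ha
  have hLe : ∀ w ∈ zl (S : Subgroup G) P, M.e (a * w * a⁻¹) i = L (M.e w i) := fun w hw =>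
    sem_e hA (f.A_le_S h ha) (f.A_sq ha) hσ hσi hs hw
  -- an element of `E ∩ V_i` outside the line
  obtain ⟨e₁, he₁, he₁i, he₁1⟩ : ∃ e₁ ∈ EE (S : Subgroup G) P, e₁ ∈ fac M {i} ∧ M.e e₁ i 1 ≠ 0 := by
    have hx : ∃ x : Fin 2 → F, L x 1 ≠ x 1 := by
      by_contra hcon
      push Not at hcon
      apply hc
      have h1 := hcon (c • ![0, 1])
      rw [hs.smul, Pi.smul_apply, hcon, Pi.smul_apply] at h1
      simpa using h1
    obtain ⟨x, hx⟩ := hx
    obtain ⟨w, hw, hwx⟩ := exists_fac M {i} fun _ => x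
    have hwx := hwx i rfl
    have h1 : a * w * a⁻¹ ∈ fac M {i} := by
      have := conj_fac hA hσ haP hw
      rwa [hσi] at this
    refine ⟨w * (a * w * a⁻¹), f.comm_mem hw.1 ha, mul_mem hw h1, ?_⟩
    rw [M.mul w hw.1 _ h1.1, Pi.add_apply, Pi.add_apply, hLe w hw.1, hwx]
    intro h2
    apply hx
    have h3 : x 1 + L x 1 + L x 1 = L x 1 := by rw [h2, zero_add]
    rw [add_assoc, CharTwo.add_self_eq_zero, add_zero] at h3
    exact h3.symm
  -- an element of `E ∩ V_m` outside the line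
  obtain ⟨e₂, he₂, he₂m, he₂1⟩ : ∃ e₂ ∈ EE (S : Subgroup G) P, e₂ ∈ fac M {m} ∧ M.e e₂ m 1 ≠ 0 := by
    obtain ⟨t, ht, h1⟩ := M.trans i m
    obtain ⟨ρ, hρ⟩ := M.perm t (h.S_le ht)
    have h2 := Mv.unique M hA (σ := ρ) hρ (h.S_le ht) h1
    refine ⟨t * e₁ * t⁻¹, E_conj h ht he₁, h2 ▸ conj_fac hA hρ (h.S_le ht) he₁i, ?_⟩
    rw [← h2, Ne, line hA ht hρ he₁i.1]
    exact he₁1
  -- the elements of the line of `V_m`
  have hl : ∀ b : F, ∃ l ∈ EE (S : Subgroup G) P, l ∈ fac M {m} ∧ M.e l m = ![b, 0] := by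
    intro b
    obtain ⟨l, hl, hlb⟩ := exists_fac M {m} fun _ => ![b, 0]
    have hlb := hlb m rfl
    refine ⟨l, hL ⟨hl.1, fun n => ?_⟩, hl, hlb⟩
    by_cases hn : n = m
    · rw [hn, hlb]; rfl
    · rw [hl.2 n hn]; rfl
  choose l hlE hlm hlb using hl
  -- each element `e` of `E ∩ V_m` gives a fixed vector of `L`
  have hd : ∀ e ∈ EE (S : Subgroup G) P, e ∈ fac M {m} → ∃ d ∈ DD (S : Subgroup G) P g,
      L (M.e d i) = M.e d i ∧ M.e d m = M.e e m ∧ ∀ n, n ≠ i → n ≠ m → M.e d n = 0 := by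
    intro e he hem
    obtain ⟨b, hb, d, hd, hE⟩ := dec (M := M) h f he
    obtain ⟨ρ, hρ⟩ := M.perm b (AP h f hb)
    have hρi := hfix b hb ρ hρ
    have hvb : b * v * b⁻¹ ∈ fac M {i} := by
      have := conj_fac hA hρ (AP h f hb) hv
      rwa [hρi] at this
    refine ⟨d, hd, ?_, ?_, fun n hni hnm => ?_⟩
    · rw [← hLe d (f.near.DV hd), f.D_fix ha hd]
    · rw [hE, hv.2 m hm, hvb.2 m hm, zero_add, zero_add]
    · rw [hE, hv.2 n hni, hvb.2 n hni, hem.2 n hnm]
      simp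
  let ψ : Option F → G := fun o => o.elim e₂ l
  have hψE : ∀ o, ψ o ∈ EE (S : Subgroup G) P := by
    rintro (_ | b)
    · exact he₂
    · exact hlE b
  have hψm : ∀ o, ψ o ∈ fac M {m} := by
    rintro (_ | b)
    · exact he₂m
    · exact hlm b
  have hψi : ∀ o o', M.e (ψ o) m = M.e (ψ o') m → o = o' := by
    rintro (_ | b) (_ | b') h1
    · rfl
    · exfalso
      apply he₂1
      have h2 : M.e e₂ m = M.e (l b') m := h1
      rw [h2, hlb]
      rfl
    · exfalso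
      apply he₂1
      have h2 : M.e (l b) m = M.e e₂ m := h1
      rw [← h2, hlb]
      rfl
    · have h2 : M.e (l b) m = M.e (l b') m := h1
      rw [hlb, hlb] at h2
      have h3 : b = b' := congrFun h2 0
      rw [h3]
  choose δ hδD hδL hδm hδ0 using fun o => hd (ψ o) (hψE o) (hψm o)
  let C : Type := {x : Fin 2 → F // L x = x}
  have hfin : Finite C := Subtype.finite
  -- `|C| ≤ |F|`
  have hC : Nat.card C ≤ Nat.card F := by
    have hadd : ∀ x y : C, L (x.1 + y.1) = x.1 + y.1 := fun x y => by rw [hs.add, x.2, y.2]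
    have h1 : Function.Injective (fun p : C × C => (p.1.1 + c • p.2.1 : Fin 2 → F)) := by
      rintro ⟨x, y⟩ ⟨x', y'⟩ hxy
      have hxy : x.1 + c • y.1 = x'.1 + c • y'.1 := hxy
      have h2 : x.1 + x'.1 = c • (y.1 + y'.1) := by
        calc x.1 + x'.1 = (x.1 + c • y.1) + (x'.1 + c • y.1) := by
              rw [add_add_add_comm, add_self' (c • y.1), add_zero]
          _ = (x'.1 + c • y'.1) + (x'.1 + c • y.1) := by rw [hxy]
          _ = c • (y.1 + y'.1) := by
              rw [add_add_add_comm, add_self' x'.1, zero_add, smul_add, add_comm]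
      have h3 : L (x.1 + x'.1) = x.1 + x'.1 := hadd x x'
      rw [h2, hs.smul, hadd y y'] at h3
      have h4 : y.1 + y'.1 = 0 := by
        by_contra h0
        exact hc (smul_left_injective F h0 h3)
      have h5 : y = y' := Subtype.ext (add_eq_zero_iff'.1 h4)
      have h6 : x = x' := by
        rw [h4, smul_zero] at h2
        exact Subtype.ext (add_eq_zero_iff'.1 h2)
      rw [h5, h6]
    have h2 := Nat.card_le_card_of_injective _ h1
    rw [Nat.card_prod, Nat.card_fun, Nat.card_eq_fintype_card (α := Fin 2), Fintype.card_fin, pow_two] at h2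
    exact Nat.mul_self_le_mul_self_iff.1 h2
  have hlt : Nat.card C < Nat.card (Option F) := by
    rw [Finite.card_option]
    omega
  let χ : Option F → C := fun o => ⟨M.e (δ o) i, hδL o⟩
  obtain ⟨o, o', hne, heq⟩ : ∃ o o', o ≠ o' ∧ χ o = χ o' := by
    by_contra hcon
    push Not at hcon
    have h1 : Function.Injective χ := fun o o' h' => by
      by_contra h2
      exact hcon o o' h2 h'
    exact absurd (Nat.card_le_card_of_injective _ h1) (not_le.2 hlt)
  have heq' : M.e (δ o) i = M.e (δ o') i := congrArg Subtype.val heq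
  have hV : ∀ o, δ o ∈ zl (S : Subgroup G) P := fun o => f.near.DV (hδD o)
  refine ⟨δ o * δ o', mul_mem (hδD o) (hδD o'), ⟨mul_mem (hV o) (hV o'), fun n hn => ?_⟩, ?_⟩
  · rw [M.mul _ (hV o) _ (hV o'), Pi.add_apply]
    by_cases hni : n = i
    · rw [hni, heq', add_self']
    · rw [hδ0 o n hni hn, hδ0 o' n hni hn, add_zero]
  · rw [M.mul _ (hV o) _ (hV o'), Pi.add_apply, hδm, hδm]
    intro h0
    exact hne (hψi o o' (add_eq_zero_iff'.1 h0))

/-- **The elements of `A` cannot fix the summand of `v`, if `E` is not the sum of the lines.** -/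
theorem fix_false (hk : 2 ≤ k) (hL : Ln M ≤ EE (S : Subgroup G) P) : False := by
  classical
  have hA := amb h
  obtain ⟨m₀, hm₀⟩ : ∃ m₀ : Fin k, ¬ i = m₀ := by
    by_cases h0 : i = ⟨0, by omega⟩
    · exact ⟨⟨1, by omega⟩, fun h1 => by
        have h2 := congrArg Fin.val (h0.symm.trans h1)
        exact absurd h2 (by simp)⟩
    · exact ⟨_, h0⟩
  obtain ⟨B, hB, hBi⟩ := exists_blk (M := M) hA S.isPGroup' (fun a b : Fin k => a = b) (fun _ => rfl)
    (fun _ _ _ h1 h2 => h1.trans h2) (fun _ _ σ _ a b hab => congrArg σ hab) hm₀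
  have hiB : i ∉ B := hBi i rfl
  have hD : ∀ m : Fin k, m ∈ B → ∃ x ∈ DD (S : Subgroup G) P g, x ∈ fac M {m} ∧ M.e x m ≠ 0 := by
    intro m hm
    exact exists_D h f hv hfix he₀ he₀i hL fun h' => hiB (h' ▸ hm)
  choose! x hxD hxm hx0 using hD
  obtain ⟨u, hu, hue⟩ := exists_fac M B fun m => M.e (x m) m
  have huD : u ∈ DD (S : Subgroup G) P g := by
    refine mem_of_comps (M := M) hu.1 fun m => ?_
    by_cases hm : m ∈ B
    · exact ⟨x m, hxD m hm, hxm m hm, (hue m hm).symm⟩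
    · refine ⟨1, one_mem _, one_mem _, ?_⟩
      rw [hu.2 m hm, e_one]
      rfl
  have h6 := (app_nat h.ctx.char2 S hA hB hu fun m hm => by
    rw [hue m hm]
    exact hx0 m hm).1
  exact f.not_mem_o2_centralizer huD (h6 ⟨hv.1, fun m hm => hv.2 m fun h' => hm (by
    rw [show m = i from h']
    exact hiB)⟩)

end fix

end Cfsg.Agent.Omega.NO1.Many

end

section


/-!
# The leaf N1, `V_P` a sum of `k ≥ 2` natural modules: the trichotomy (text helper727 #14576, referee #15070)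

* `quad` : if `E ≤ Ln` (the sum of the lines) then `E = Ln`;
* `trich` : `E = Ln` or (`|F| = 2` and `k = 2`).
-/

set_option autoImplicit false
set_option linter.unusedSectionVars false

namespace Cfsg.Agent.Omega.NO1.Many

open Subgroup Cfsg Cfsg.Agent.ZN Cfsg.Agent.Omega.MinPar Cfsg.Agent.Omega.Frame Cfsg.Agent.Omega.FFThm
open Cfsg.Agent.Omega.NoFF.LinesPlug (CC NoOne)
open Cfsg.Agent.Omega.Half Cfsg.Agent.Omega.Half.NatA
open Cfsg.Agent.Lib.SL2Mat Cfsg.Agent.Omega.NatPair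
open scoped Pointwise

universe u

variable {G : Type u} [Group G] [Finite G] {S : Sylow 2 G} {P : Subgroup G} (h : Cfg S P)
  {F : Type} [Field F] [CharP F 2] {k : ℕ} {M : NatK F (S : Subgroup G) P (zl (S : Subgroup G) P) ⊥ k}

theorem eq_one_of_pow {F : Type} [Field F] [CharP F 2] : ∀ (n : ℕ) (c : F), c ^ 2 ^ n = 1 → c = 1 := by
  intro n
  induction n with
  | zero => intro c hc; rwa [pow_zero, pow_one] at hc
  | succ n ih =>
    intro c hc
    apply ih
    rw [pow_succ, pow_mul, pow_two] at hc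
    have h1 : (c ^ 2 ^ n + 1) * (c ^ 2 ^ n + 1) = 0 := by
      have : (c ^ 2 ^ n + 1) * (c ^ 2 ^ n + 1) = c ^ 2 ^ n * c ^ 2 ^ n + 1 + (c ^ 2 ^ n + c ^ 2 ^ n) := by ring
      rw [this, hc, CharTwo.add_self_eq_zero, CharTwo.add_self_eq_zero, add_zero]
    have h2 : c ^ 2 ^ n + 1 = 0 := by
      rcases mul_eq_zero.1 h1 with h | h <;> exact h
    have h3 : c ^ 2 ^ n + 1 + 1 = 1 := by rw [h2, zero_add]
    rwa [add_assoc, CharTwo.add_self_eq_zero, add_zero] at h3

include h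

/-- `[V, Q] ≤ E` -/
theorem comm_Q {q w : G} (hq : q ∈ o2 (CC (S : Subgroup G))) (hw : w ∈ zl (S : Subgroup G) P) :
    w * (q * w * q⁻¹) ∈ EE (S : Subgroup G) P := by
  have hA := amb h
  have hqw : q * w * q⁻¹ ∈ zl (S : Subgroup G) P := hA.conj_mem (h.S_le (h.Q_le_S hq)) hw
  refine mem_inf.2 ⟨mul_mem hw hqw, ?_⟩
  have h1 : w⁻¹ * q * w ∈ o2 (CC (S : Subgroup G)) := by
    have := (mem_normalizer_iff.1 (le_normalizer_o2 _ (inv_mem (h.V_le_CC hw))) q).1 hq
    rwa [inv_inv] at this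
  have h2 : w * (q * w * q⁻¹) = (w⁻¹ * q * w) * q⁻¹ := by
    rw [self_inv hA hw]
    group
  rw [h2]
  exact mul_mem h1 (inv_mem hq)

/-- if `E` is in the sum of the lines then it is the sum of the lines -/
theorem quad (hE : ∀ e ∈ EE (S : Subgroup G) P, ∀ i, M.e e i 1 = 0) :
    Ln M ≤ o2 (CC (S : Subgroup G)) := by
  have hA := amb h
  intro y hy
  refine h.char2C (mem_inf.2 ⟨h.V_le_CC hy.1, mem_centralizer_iff.2 fun q hq => ?_⟩)
  have hqS : q ∈ (S : Subgroup G) := h.Q_le_S hq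
  have hqP := h.S_le hqS
  -- `q` fixes the second coordinates
  have h1 : ∀ w ∈ zl (S : Subgroup G) P, ∀ m, M.e (q * w * q⁻¹) m 1 = M.e w m 1 := by
    intro w hw m
    have h2 := hE _ (comm_Q h hq hw) m
    rw [M.mul w hw _ (hA.conj_mem hqP hw), Pi.add_apply, Pi.add_apply] at h2
    have h3 : M.e w m 1 + M.e (q * w * q⁻¹) m 1 + M.e (q * w * q⁻¹) m 1 = M.e (q * w * q⁻¹) m 1 := by
      rw [h2, zero_add]
    rw [add_assoc, CharTwo.add_self_eq_zero, add_zero] at h3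
    exact h3.symm
  obtain ⟨σ, hσ⟩ := M.perm q hqP
  have hσi : ∀ i, σ i = i := by
    intro i
    obtain ⟨w, hw, hwe⟩ := exists_fac M {i} fun _ => ![0, 1]
    have hwe := hwe i rfl
    refine mv_apply_eq hA hσ hqP hw fun h0 => ?_
    have h2 := h1 w hw.1 i
    rw [h0, hwe] at h2
    exact zero_ne_one h2
  have hfix : ∀ i, M.e (q * y * q⁻¹) i = M.e y i := by
    intro i
    obtain ⟨L, τ, hs⟩ := exists_T hA hqP hσ i
    have hLe : ∀ w ∈ zl (S : Subgroup G) P, M.e (q * w * q⁻¹) i = L (M.e w i) := by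
      intro w hw
      have := hs.e w hw
      rwa [hσi] at this
    have hL1 : ∀ x : Fin 2 → F, L x 1 = x 1 := by
      intro x
      obtain ⟨w, hw, hwe⟩ := exists_fac M {i} fun _ => x
      have hwe := hwe i rfl
      rw [← hwe, ← hLe w hw.1]
      exact h1 w hw.1 i
    have hτ : ∀ c, τ c = c := by
      intro c
      have h2 := hL1 (c • ![0, 1])
      rw [hs.smul, Pi.smul_apply, hL1, Pi.smul_apply] at h2
      simpa using h2
    have hL2 : L ![1, 0] = (L ![1, 0] 0) • ![1, 0] := by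
      apply ext2
      · simp
      · rw [hL1]; simp
    set c := L ![1, 0] 0 with hc
    -- `c = 1`
    obtain ⟨w, hw, hwe⟩ := exists_fac M {i} fun _ => ![1, 0]
    have hwe := hwe i rfl
    have hpow : ∀ n : ℕ, q ^ n * w * (q ^ n)⁻¹ ∈ zl (S : Subgroup G) P ∧
        M.e (q ^ n * w * (q ^ n)⁻¹) i = c ^ n • ![1, 0] := by
      intro n
      induction n with
      | zero => rw [pow_zero, one_mul, inv_one, mul_one, pow_zero, one_smul]; exact ⟨hw.1, hwe⟩
      | succ n ih =>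
        have e1 : q ^ (n + 1) * w * (q ^ (n + 1))⁻¹ = q * (q ^ n * w * (q ^ n)⁻¹) * q⁻¹ := by
          rw [pow_succ']; group
        rw [e1]
        refine ⟨hA.conj_mem hqP ih.1, ?_⟩
        rw [hLe _ ih.1, ih.2, hs.smul, hτ, hL2, smul_smul, pow_succ]
    obtain ⟨n, hn⟩ : ∃ n : ℕ, q ^ 2 ^ n = 1 := by
      obtain ⟨n, hn⟩ := S.isPGroup' ⟨q, hqS⟩
      exact ⟨n, congrArg Subtype.val hn⟩
    have h4 := (hpow (2 ^ n)).2
    rw [hn, one_mul, inv_one, mul_one, hwe] at h4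
    have h5 := congrFun h4 0
    simp only [Pi.smul_apply, smul_eq_mul, Matrix.cons_val_zero, mul_one] at h5
    have hc1 := eq_one_of_pow n c h5.symm
    rw [hc1, one_smul] at hL2
    rw [hLe y hy.1, decomp (M.e y i), hy.2 i, zero_smul, add_zero, hs.smul, hτ, hL2]
  have h6 : q * y * q⁻¹ = y := inj M (hA.conj_mem hqP hy.1) hy.1 (funext hfix)
  calc q * y = q * y * q⁻¹ * q := by group
    _ = y * q := by rw [h6]

/-- **The trichotomy of NatMany.** -/
theorem trich [Finite F] (M : NatK F (S : Subgroup G) P (zl (S : Subgroup G) P) ⊥ k) (hk : 2 ≤ k) :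
    (∀ v ∈ zl (S : Subgroup G) P, v ∈ o2 (CC (S : Subgroup G)) ↔ ∀ i, M.e v i 1 = 0) ∨
      (Nat.card F = 2 ∧ k = 2) := by
  have hA := amb h
  by_cases hE : ∀ e ∈ EE (S : Subgroup G) P, ∀ i, M.e e i 1 = 0
  · left
    intro v hv
    constructor
    · intro hvQ
      exact hE v (mem_inf.2 ⟨hv, hvQ⟩)
    · intro h1
      exact quad h hE ⟨hv, h1⟩
  · right
    push Not at hE
    obtain ⟨e₁, he₁, i₁, hi₁⟩ := hE
    have hL := Ln_le hA (E := EE (S : Subgroup G) P) inf_le_left (fun t ht e he => E_conj h ht he) he₁ hi₁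
    -- a summand not contained in `Q`
    obtain ⟨i, v, hv, hvQ⟩ : ∃ i, ∃ v ∈ fac M {i}, v ∉ o2 (CC (S : Subgroup G)) := by
      by_contra hcon
      push Not at hcon
      obtain ⟨v, hv, hvQ⟩ := h.exists_v
      apply hvQ
      refine mem_of_comps (M := M) hv fun i => ?_
      obtain ⟨x, hx, hxe⟩ := exists_fac M {i} (M.e v)
      exact ⟨x, hcon i x hx, hx, hxe i rfl⟩
    -- move `e₁` to `i`
    obtain ⟨t, ht, h1⟩ := M.trans i₁ i
    obtain ⟨ρ, hρ⟩ := M.perm t (h.S_le ht)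
    have h2 := Mv.unique M hA (σ := ρ) hρ (h.S_le ht) h1
    have he₀ : t * e₁ * t⁻¹ ∈ EE (S : Subgroup G) P := E_conj h ht he₁
    have he₀i : M.e (t * e₁ * t⁻¹) i 1 ≠ 0 := by
      rw [← h2, Ne, line hA ht hρ he₁.1]
      exact hi₁
    obtain ⟨g, f⟩ := exists_fam h hv.1 hvQ
    by_cases hfix : ∀ a ∈ AA (S : Subgroup G) P g, ∀ σ, Mv M a σ → σ i = i
    · exact (fix_false h f hv hfix he₀ he₀i hk hL).elim
    · push Not at hfix
      obtain ⟨f1, hf1, σ1, hσ1, hne⟩ := hfix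
      refine ⟨?_, k_two h f hv hf1 hσ1 rfl hne hL⟩
      have hF := card_two h f hv hf1 hσ1 rfl hne hL
      have h3 : Nat.card F = Nat.card (Fin 2) := by
        refine Nat.card_congr (Equiv.symm (Equiv.ofBijective (fun n : Fin 2 => if n = 0 then (0 : F) else 1) ⟨?_, ?_⟩))
        · intro a b hab
          fin_cases a <;> fin_cases b <;> simp_all
        · intro c
          rcases hF c with rfl | rfl
          · exact ⟨0, by simp⟩
          · exact ⟨1, by simp⟩
      rw [h3, Nat.card_eq_fintype_card, Fintype.card_fin]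

end Cfsg.Agent.Omega.NO1.Many

end

section


/-!
# The affine group of `Fin 3` and the nonzero vectors of `F₂²`

* `exists_perm`, `exists_perm'` : a pair of permutations of `Fin 3` acting on `(i + j, i - j)` acts on `(i, j)`
  by a pair of permutations, possibly with an interchange;
* `av` : the three nonzero vectors, `exists_sl` : `SL₂(2)` induces all permutations of them.
-/

set_option autoImplicit false
set_option linter.unusedSectionVars false

namespace Cfsg.Agent.Omega.NO1.Many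

open Cfsg.Agent.Lib.SL2Mat Cfsg.Agent.Omega.NatPair

/-- `x ↦ α x + β` -/
def aff (α β : Fin 3) (h : α ≠ 0) : Equiv.Perm (Fin 3) where
  toFun x := α * x + β
  invFun x := α * (x - β)
  left_inv := by revert α β; decide
  right_inv := by revert α β; decide

theorem aff_apply (α β : Fin 3) (h : α ≠ 0) (x : Fin 3) : aff α β h x = α * x + β := rfl

theorem exists_aff : ∀ φ : Fin 3 → Fin 3, Function.Injective φ →
    ∃ α β : Fin 3, α ≠ 0 ∧ ∀ x, φ x = α * x + β := by
  intro φ hφ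
  have h01 : φ 0 ≠ φ 1 := fun h => absurd (hφ h) (by decide)
  have h02 : φ 0 ≠ φ 2 := fun h => absurd (hφ h) (by decide)
  have h12 : φ 1 ≠ φ 2 := fun h => absurd (hφ h) (by decide)
  have key : ∀ a b c : Fin 3, a ≠ b → a ≠ c → b ≠ c → ∃ α β : Fin 3, α ≠ 0 ∧
      a = α * 0 + β ∧ b = α * 1 + β ∧ c = α * 2 + β := by decide
  obtain ⟨α, β, h, h0, h1, h2⟩ := key _ _ _ h01 h02 h12
  refine ⟨α, β, h, fun x => ?_⟩
  fin_cases x
  · exact h0
  · exact h1
  · exact h2

theorem eq_or : ∀ α γ : Fin 3, α ≠ 0 → γ ≠ 0 → γ = α ∨ γ = 2 * α := by decide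

/-- without interchange of the two lines -/
theorem exists_perm {φ ψ : Fin 3 → Fin 3} (hφ : Function.Injective φ) (hψ : Function.Injective ψ) :
    ∃ σ τ : Equiv.Perm (Fin 3), (∀ i j, σ i + τ j = φ (i + j) ∧ σ i - τ j = ψ (i - j)) ∨
      ∀ i j, σ j + τ i = φ (i + j) ∧ σ j - τ i = ψ (i - j) := by
  obtain ⟨α, β, hα, h1⟩ := exists_aff φ hφ
  obtain ⟨γ, δ, hγ, h2⟩ := exists_aff ψ hψ
  refine ⟨aff α (2 * (β + δ)) hα, aff α (δ - β) hα, ?_⟩
  simp only [aff_apply, h1, h2]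
  rcases eq_or α γ hα hγ with rfl | rfl
  · left
    clear hα hγ h1 h2 hφ hψ
    revert γ β δ
    decide
  · right
    clear hα hγ h1 h2 hφ hψ
    revert α β δ
    decide

/-- with interchange of the two lines -/
theorem exists_perm' {φ ψ : Fin 3 → Fin 3} (hφ : Function.Injective φ) (hψ : Function.Injective ψ) :
    ∃ σ τ : Equiv.Perm (Fin 3), (∀ i j, σ i + τ j = ψ (i - j) ∧ σ i - τ j = φ (i + j)) ∨
      ∀ i j, σ j + τ i = ψ (i - j) ∧ σ j - τ i = φ (i + j) := by
  obtain ⟨α, β, hα, h1⟩ := exists_aff φ hφ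
  obtain ⟨γ, δ, hγ, h2⟩ := exists_aff ψ hψ
  have h2α : 2 * α ≠ 0 := by
    clear h1
    revert α
    decide
  refine ⟨aff α (2 * (β + δ)) hα, aff (2 * α) (β - δ) h2α, ?_⟩
  simp only [aff_apply, h1, h2]
  rcases eq_or α γ hα hγ with rfl | rfl
  · left
    clear hα hγ h1 h2 hφ hψ h2α
    revert γ β δ
    decide
  · right
    clear hα hγ h1 h2 hφ hψ h2α
    revert α β δ
    decide

/-- the converse: a pair of permutations of `(i, j)` acts on `(i + j, i - j)` -/
theorem exists_split (σ τ : Equiv.Perm (Fin 3)) :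
    ∃ φ ψ : Fin 3 → Fin 3, Function.Injective φ ∧ Function.Injective ψ ∧
      ((∀ i j, σ i + τ j = φ (i + j) ∧ σ i - τ j = ψ (i - j)) ∨
        ∀ i j, σ i + τ j = ψ (i - j) ∧ σ i - τ j = φ (i + j)) := by
  obtain ⟨α, s, hα, h1⟩ := exists_aff σ σ.injective
  obtain ⟨γ, t, hγ, h2⟩ := exists_aff τ τ.injective
  rcases eq_or α γ hα hγ with rfl | rfl
  · refine ⟨aff γ (s + t) hα, aff γ (s - t) hα, Equiv.injective _, Equiv.injective _, Or.inl ?_⟩
    simp only [aff_apply, h1, h2]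
    clear hα hγ h1 h2
    revert γ s t
    decide
  · refine ⟨aff α (s - t) hα, aff α (s + t) hα, Equiv.injective _, Equiv.injective _, Or.inr ?_⟩
    simp only [aff_apply, h1, h2]
    clear hα hγ h1 h2
    revert α s t
    decide

section vec

variable {F : Type*} [Field F]

/-- the three nonzero vectors of `F₂²` -/
def av (F : Type*) [Field F] : Fin 3 → Fin 2 → F := ![![1, 0], ![0, 1], ![1, 1]]

variable [CharP F 2]

theorem av_add : ∀ i j : Fin 3, i ≠ j → av F i + av F j = av F (2 * (i + j)) := by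
  have h2 : (1 : F) + 1 = 0 := CharTwo.add_self_eq_zero 1
  intro i j hij
  fin_cases i <;> fin_cases j <;> first | exact absurd rfl hij | skip
  all_goals
    funext x
    fin_cases x <;> simp [av, h2]

theorem av_ne_zero (i : Fin 3) : av F i ≠ 0 := by
  intro h
  fin_cases i
  · exact one_ne_zero (congrFun h 0)
  · exact one_ne_zero (congrFun h 1)
  · exact one_ne_zero (congrFun h 0)

theorem av_injective : Function.Injective (av F) := by
  intro i j h
  by_contra hij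
  have h1 := av_add (F := F) i j hij
  rw [h] at h1
  have h3 : av F j + av F j = 0 := by
    funext x
    exact CharTwo.add_self_eq_zero _
  rw [h3] at h1
  exact av_ne_zero _ h1.symm

theorem exists_av (hF : ∀ c : F, c = 0 ∨ c = 1) {x : Fin 2 → F} (hx : x ≠ 0) : ∃ i, x = av F i := by
  rcases hF (x 0) with h0 | h0 <;> rcases hF (x 1) with h1 | h1
  · exact absurd (ext2 h0 h1) hx
  · exact ⟨1, ext2 h0 h1⟩
  · exact ⟨0, ext2 h0 h1⟩
  · exact ⟨2, ext2 h0 h1⟩

/-- `SL₂(2)` induces all permutations of the three vectors -/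
theorem exists_sl {φ : Fin 3 → Fin 3} (hφ : Function.Injective φ) :
    ∃ A : Matrix.SpecialLinearGroup (Fin 2) F, ∀ i, ap A (av F i) = av F (φ i) := by
  have h2 : (1 : F) + 1 = 0 := CharTwo.add_self_eq_zero 1
  have hneg : (-1 : F) = 1 := neg_eq_of_add_eq_zero_right h2
  have hdet : ∀ i j : Fin 3, i ≠ j → av F i 0 * av F j 1 - av F j 0 * av F i 1 = 1 := by
    intro i j hij
    fin_cases i <;> fin_cases j <;> first | exact absurd rfl hij | skip
    all_goals simp [av, hneg]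
  have h01 : φ 0 ≠ φ 1 := fun h => absurd (hφ h) (by decide)
  have h02 : φ 0 ≠ φ 2 := fun h => absurd (hφ h) (by decide)
  have h12 : φ 1 ≠ φ 2 := fun h => absurd (hφ h) (by decide)
  refine ⟨mk (av F (φ 0) 0) (av F (φ 1) 0) (av F (φ 0) 1) (av F (φ 1) 1) (hdet _ _ h01), fun i => ?_⟩
  fin_cases i
  · apply ext2
    · rw [ap_zero']; simp [av]
    · rw [ap_one']; simp [av]
  · apply ext2
    · rw [ap_zero']; simp [av]
    · rw [ap_one']; simp [av]
  · have h3 := av_add (F := F) _ _ h01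
    have h4 : 2 * (φ 0 + φ 1) = φ 2 := by
      have key : ∀ a b c : Fin 3, a ≠ b → a ≠ c → b ≠ c → 2 * (a + b) = c := by decide
      exact key _ _ _ h01 h02 h12
    rw [h4] at h3
    change ap _ (av F 2) = av F (φ 2)
    rw [← h3]
    apply ext2
    · rw [ap_zero']; simp [av]
    · rw [ap_one']; simp [av]

end vec

end Cfsg.Agent.Omega.NO1.Many

end

end

-- merged: Cfsg.Agent.Mrg.Omega.NO1.Many.Plus
section

/-!
# `V_P` the sum of two natural `SL₂(2)`-modules: type `Plus2`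

`plus2_of` : `Cfg S P`, `NatK F S P V (cv S P) 2`, `|F| = 2` imply `∃ z, Plus2 S P z`.
The nine vectors are `z i j = A (i + j) B (i - j)`, `A`, `B` the nonzero vectors of the summands.
-/

set_option autoImplicit false
set_option linter.unusedSectionVars false

namespace Cfsg.Agent.Omega.NO1.Many

open Subgroup Cfsg Cfsg.Agent.ZN Cfsg.Agent.Omega.MinPar Cfsg.Agent.Omega.Frame
open Cfsg.Agent.Omega.FFThm (NatK)
open Cfsg.Agent.Omega.FrameFF (cv)
open Cfsg.Agent.Omega.Half Cfsg.Agent.Omega.Half.NatA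
open Cfsg.Agent.Lib.SL2Mat Cfsg.Agent.Omega.NatPair

universe u

section abs

variable {G : Type u} [Group G] {F : Type} [Field F] [CharP F 2] {T H V : Subgroup G}
  (M : NatK F T H V ⊥ 2)

/-- the vector with coordinates `x`, `y` -/
noncomputable def vc (x y : Fin 2 → F) : G := (M.surj ![x, y]).choose

theorem vc_mem (x y : Fin 2 → F) : vc M x y ∈ V := (M.surj ![x, y]).choose_spec.1

theorem e_vc (x y : Fin 2 → F) : M.e (vc M x y) = ![x, y] := (M.surj ![x, y]).choose_spec.2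

theorem vc_add (x y x' y' : Fin 2 → F) : vc M x y * vc M x' y' = vc M (x + x') (y + y') := by
  apply inj M (mul_mem (vc_mem M _ _) (vc_mem M _ _)) (vc_mem M _ _)
  rw [M.mul _ (vc_mem M _ _) _ (vc_mem M _ _), e_vc, e_vc, e_vc]
  funext i
  fin_cases i <;> rfl

theorem vc_inj {x y x' y' : Fin 2 → F} (h : vc M x y = vc M x' y') : x = x' ∧ y = y' := by
  have h1 := congrArg M.e h
  rw [e_vc, e_vc] at h1
  exact ⟨congrFun h1 0, congrFun h1 1⟩

theorem vc_zero : vc M 0 0 = 1 := by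
  apply eq_one M (vc_mem M _ _)
  rw [e_vc]
  funext i
  fin_cases i <;> rfl

theorem eq_vc {v : G} (hv : v ∈ V) : v = vc M (M.e v 0) (M.e v 1) := by
  apply inj M hv (vc_mem M _ _)
  rw [e_vc]
  funext i
  fin_cases i <;> rfl

/-- the nine singular vectors -/
noncomputable def zz (i j : Fin 3) : G := vc M (av F (i + j)) (av F (i - j))

theorem zz_mem (i j : Fin 3) : zz M i j ∈ V := vc_mem M _ _

/-- `m` acts without interchange of the summands -/
def ActN (m : G) (φ ψ : Fin 3 → Fin 3) : Prop :=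
  ∀ p r, m * vc M (av F p) (av F r) * m⁻¹ = vc M (av F (φ p)) (av F (ψ r))

/-- `m` acts with interchange of the summands -/
def ActS (m : G) (φ ψ : Fin 3 → Fin 3) : Prop :=
  ∀ p r, m * vc M (av F p) (av F r) * m⁻¹ = vc M (av F (ψ r)) (av F (φ p))

variable (hA : Amb T H V) (hF : ∀ c : F, c = 0 ∨ c = 1)

include hA in
theorem vc_comm (x y x' y' : Fin 2 → F) : vc M x y * vc M x' y' = vc M x' y' * vc M x y :=
  hA.comm _ (vc_mem M _ _) _ (vc_mem M _ _)

theorem add_self (x : Fin 2 → F) : x + x = 0 := by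
  funext i
  exact CharTwo.add_self_eq_zero _

include hA in
/-- each permutation pair is induced -/
theorem exists_actN {φ ψ : Fin 3 → Fin 3} (hφ : Function.Injective φ) (hψ : Function.Injective ψ) :
    ∃ m ∈ H, ActN M m φ ψ := by
  obtain ⟨A, hA1⟩ := exists_sl (F := F) hφ
  obtain ⟨B, hB1⟩ := exists_sl (F := F) hψ
  obtain ⟨g, hg, hgA, -⟩ := M.lift ![A, B]
  refine ⟨g, hg, fun p r => ?_⟩
  have h1 : M.e (g * vc M (av F p) (av F r) * g⁻¹) = ![av F (φ p), av F (ψ r)] := by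
    funext i
    rw [hgA _ (vc_mem M _ _) i, e_vc]
    fin_cases i
    · exact hA1 p
    · exact hB1 r
  have hV : g * vc M (av F p) (av F r) * g⁻¹ ∈ V := hA.conj_mem hg (vc_mem M _ _)
  apply inj M hV (vc_mem M _ _)
  rw [h1, e_vc]

include hA hF

/-- every element of `H` acts by a pair of permutations -/
theorem exists_act {m : G} (hm : m ∈ H) : ∃ φ ψ : Fin 3 → Fin 3,
    Function.Injective φ ∧ Function.Injective ψ ∧ (ActN M m φ ψ ∨ ActS M m φ ψ) := by
  obtain ⟨π, hπ⟩ := M.perm m hm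
  have hcj : ∀ v ∈ V, m * v * m⁻¹ ∈ V := fun v hv => hA.conj_mem hm hv
  -- images of the vectors of the two summands
  have hA0 : ∀ p, M.e (m * vc M (av F p) 0 * m⁻¹) (π 0) ≠ 0 ∧ M.e (m * vc M (av F p) 0 * m⁻¹) (π 1) = 0 := by
    intro p
    rw [Ne, hπ _ (vc_mem M _ _) 0, hπ _ (vc_mem M _ _) 1, e_vc]
    exact ⟨av_ne_zero p, rfl⟩
  have hB0 : ∀ r, M.e (m * vc M 0 (av F r) * m⁻¹) (π 0) = 0 ∧ M.e (m * vc M 0 (av F r) * m⁻¹) (π 1) ≠ 0 := by
    intro r
    rw [Ne, hπ _ (vc_mem M _ _) 0, hπ _ (vc_mem M _ _) 1, e_vc]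
    exact ⟨rfl, av_ne_zero r⟩
  have h1 : ∀ p, ∃ q, M.e (m * vc M (av F p) 0 * m⁻¹) (π 0) = av F q := fun p => exists_av hF (hA0 p).1
  have h2 : ∀ r, ∃ q, M.e (m * vc M 0 (av F r) * m⁻¹) (π 1) = av F q := fun r => exists_av hF (hB0 r).2
  choose φ hφ using h1
  choose ψ hψ using h2
  have hsplit : ∀ x y : Fin 2 → F, m * vc M x y * m⁻¹ = (m * vc M x 0 * m⁻¹) * (m * vc M 0 y * m⁻¹) := by
    intro x y
    have h := vc_add M x 0 0 y
    rw [add_zero, zero_add] at h
    rw [← h]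
    group
  have hcases : (π 0 = 0 ∧ π 1 = 1) ∨ (π 0 = 1 ∧ π 1 = 0) := by
    have hne : π 0 ≠ π 1 := fun h => absurd (π.injective h) (by decide)
    generalize π 0 = a at hne
    generalize π 1 = b at hne
    revert a b
    decide
  have hmain : ∀ p r, M.e (m * vc M (av F p) (av F r) * m⁻¹) (π 0) = av F (φ p) ∧
      M.e (m * vc M (av F p) (av F r) * m⁻¹) (π 1) = av F (ψ r) := by
    intro p r
    rw [hsplit, M.mul _ (hcj _ (vc_mem M _ _)) _ (hcj _ (vc_mem M _ _)), Pi.add_apply, Pi.add_apply,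
      hφ, hψ, (hA0 p).2, (hB0 r).1, add_zero, zero_add]
    exact ⟨rfl, rfl⟩
  have hact : ActN M m φ ψ ∨ ActS M m φ ψ := by
    rcases hcases with ⟨h0, h1⟩ | ⟨h0, h1⟩
    · left
      intro p r
      apply inj M (hcj _ (vc_mem M _ _)) (vc_mem M _ _)
      rw [e_vc]
      have h3 := hmain p r
      rw [h0, h1] at h3
      funext i
      fin_cases i
      · exact h3.1
      · exact h3.2
    · right
      intro p r
      apply inj M (hcj _ (vc_mem M _ _)) (vc_mem M _ _)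
      rw [e_vc]
      have h3 := hmain p r
      rw [h0, h1] at h3
      funext i
      fin_cases i
      · exact h3.2
      · exact h3.1
  have hφi : Function.Injective φ := by
    intro p p' h
    rcases hact with ha | ha
    · have h3 := ha p 0
      have h4 := ha p' 0
      rw [h] at h3
      have h5 := mul_left_cancel (mul_right_cancel (h3.trans h4.symm))
      exact av_injective (vc_inj M h5).1
    · have h3 := ha p 0
      have h4 := ha p' 0
      rw [h] at h3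
      have h5 := mul_left_cancel (mul_right_cancel (h3.trans h4.symm))
      exact av_injective (vc_inj M h5).1
  have hψi : Function.Injective ψ := by
    intro p p' h
    rcases hact with ha | ha
    · have h3 := ha 0 p
      have h4 := ha 0 p'
      rw [h] at h3
      have h5 := mul_left_cancel (mul_right_cancel (h3.trans h4.symm))
      exact av_injective (vc_inj M h5).2
    · have h3 := ha 0 p
      have h4 := ha 0 p'
      rw [h] at h3
      have h5 := mul_left_cancel (mul_right_cancel (h3.trans h4.symm))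
      exact av_injective (vc_inj M h5).2
  exact ⟨φ, ψ, hφi, hψi, hact⟩

/-- each permutation pair with interchange is induced -/
theorem exists_actS {φ ψ : Fin 3 → Fin 3} (hφ : Function.Injective φ) (hψ : Function.Injective ψ) :
    ∃ m ∈ H, ActS M m φ ψ := by
  obtain ⟨t, ht, h1⟩ := M.trans 0 1
  have htH := hA.TH ht
  obtain ⟨α, β, hα, hβ, ha⟩ := exists_act M hA hF htH
  have ha' : ActS M t α β := by
    rcases ha with ha | ha
    · exfalso
      -- then `t` fixes the summand 0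
      obtain ⟨π, hπ⟩ := M.perm t htH
      have h2 : π 0 = 1 := Mv.unique M hA (σ := π) hπ htH h1
      have e1 := ha 0 0
      have e2 := ha 0 1
      -- `t (0, a₀ + a₁) t⁻¹`
      have h3 : vc M (av F 0) (av F 0) * vc M (av F 0) (av F 1) = vc M 0 (av F 2) := by
        rw [vc_add, add_self, av_add 0 1 (by decide)]
        rfl
      have h4 : t * vc M 0 (av F 2) * t⁻¹ = vc M 0 (av F (β 0) + av F (β 1)) := by
        rw [← h3]
        calc t * (vc M (av F 0) (av F 0) * vc M (av F 0) (av F 1)) * t⁻¹ =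
            (t * vc M (av F 0) (av F 0) * t⁻¹) * (t * vc M (av F 0) (av F 1) * t⁻¹) := by group
          _ = _ := by rw [e1, e2, vc_add, add_self]
      have h5 := hπ (vc M 0 (av F 2)) (vc_mem M _ _) 0
      rw [h2, h4, e_vc, e_vc] at h5
      have h6 : av F (β 0) + av F (β 1) = 0 := h5.2 rfl
      have h7 : β 0 ≠ β 1 := fun h => absurd (hβ h) (by decide)
      rw [av_add _ _ h7] at h6
      exact av_ne_zero _ h6
    · exact ha
  -- correct by an element of the first kind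
  have hinv : ∀ α : Fin 3 → Fin 3, Function.Injective α → ∃ α' : Fin 3 → Fin 3, Function.Injective α' ∧
      ∀ x, α' (α x) = x := by
    intro α hα
    let e := Equiv.ofBijective α (Finite.injective_iff_bijective.1 hα)
    exact ⟨e.symm, e.symm.injective, fun x => e.symm_apply_apply x⟩
  obtain ⟨α', hα', h3⟩ := hinv α hα
  obtain ⟨β', hβ', h4⟩ := hinv β hβ
  obtain ⟨n, hn, hn1⟩ := exists_actN M hA (φ := ψ ∘ β') (ψ := φ ∘ α') (hψ.comp hβ') (hφ.comp hα')
  refine ⟨n * t, mul_mem hn htH, fun p r => ?_⟩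
  calc n * t * vc M (av F p) (av F r) * (n * t)⁻¹ = n * (t * vc M (av F p) (av F r) * t⁻¹) * n⁻¹ := by group
    _ = n * vc M (av F (β r)) (av F (α p)) * n⁻¹ := by rw [ha' p r]
    _ = vc M (av F (ψ r)) (av F (φ p)) := by
      rw [hn1, Function.comp_apply, Function.comp_apply, h3, h4]

omit hA hF in
theorem zz_row (i : Fin 3) : zz M i 0 * zz M i 1 * zz M i 2 = 1 := by
  rw [zz, zz, zz, vc_add, vc_add, ← vc_zero M]
  have h1 : av F (i + 0) + av F (i + 1) + av F (i + 2) = 0 := by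
    rw [av_add _ _ (by clear * -; revert i; decide)]
    have : (2 : Fin 3) * (i + 0 + (i + 1)) = i + 2 := by clear * -; revert i; decide
    rw [this, add_self]
  have h2 : av F (i - 0) + av F (i - 1) + av F (i - 2) = 0 := by
    rw [av_add _ _ (by clear * -; revert i; decide)]
    have : (2 : Fin 3) * (i - 0 + (i - 1)) = i - 2 := by clear * -; revert i; decide
    rw [this, add_self]
  rw [h1, h2]

omit hA hF in
theorem zz_col (j : Fin 3) : zz M 0 j * zz M 1 j * zz M 2 j = 1 := by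
  rw [zz, zz, zz, vc_add, vc_add, ← vc_zero M]
  have h1 : av F (0 + j) + av F (1 + j) + av F (2 + j) = 0 := by
    rw [av_add _ _ (by clear * -; revert j; decide)]
    have : (2 : Fin 3) * (0 + j + (1 + j)) = 2 + j := by clear * -; revert j; decide
    rw [this, add_self]
  have h2 : av F (0 - j) + av F (1 - j) + av F (2 - j) = 0 := by
    rw [av_add _ _ (by clear * -; revert j; decide)]
    have : (2 : Fin 3) * (0 - j + (1 - j)) = 2 - j := by clear * -; revert j; decide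
    rw [this, add_self]
  rw [h1, h2]

omit hA in
theorem zz_gen : closure (Set.range fun x : Fin 3 × Fin 3 => zz M x.1 x.2) = V := by
  set K := closure (Set.range fun x : Fin 3 × Fin 3 => zz M x.1 x.2) with hK
  have hz : ∀ i j, zz M i j ∈ K := fun i j => subset_closure ⟨(i, j), rfl⟩
  have hpr : ∀ p r, vc M (av F p) (av F r) ∈ K := by
    intro p r
    have h1 := hz (2 * (p + r)) (r - (r - (2 * (p + r) - r)) - (2 * (p + r) - r) + (p - 2 * (p + r)))
    have h2 : zz M (2 * (p + r)) (r - (r - (2 * (p + r) - r)) - (2 * (p + r) - r) + (p - 2 * (p + r))) =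
        vc M (av F p) (av F r) := by
      rw [zz]
      congr 2
      · clear h1; revert p r; decide
      · clear h1; revert p r; decide
    rwa [h2] at h1
  have h0 : ∀ p, vc M (av F p) 0 ∈ K := by
    intro p
    have h := mul_mem (mul_mem (hpr p 0) (hpr p 1)) (hpr p 2)
    rw [vc_add, vc_add, add_self, zero_add, av_add 0 1 (by decide)] at h
    have e : (2 : Fin 3) * (0 + 1) = 2 := by decide
    rwa [e, add_self] at h
  have h1 : ∀ p, vc M 0 (av F p) ∈ K := by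
    intro p
    have h := mul_mem (mul_mem (hpr 0 p) (hpr 1 p)) (hpr 2 p)
    rw [vc_add, vc_add, add_self, zero_add, av_add 0 1 (by decide)] at h
    have e : (2 : Fin 3) * (0 + 1) = 2 := by decide
    rwa [e, add_self] at h
  apply le_antisymm
  · rw [hK, closure_le]
    rintro _ ⟨x, rfl⟩
    exact zz_mem M _ _
  · intro v hv
    rw [eq_vc M hv]
    by_cases ha : M.e v 0 = 0 <;> by_cases hb : M.e v 1 = 0
    · rw [ha, hb, vc_zero]
      exact one_mem K
    · obtain ⟨q, hq⟩ := exists_av hF hb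
      rw [ha, hq]
      exact h1 q
    · obtain ⟨q, hq⟩ := exists_av hF ha
      rw [hb, hq]
      exact h0 q
    · obtain ⟨q, hq⟩ := exists_av hF ha
      obtain ⟨r, hr⟩ := exists_av hF hb
      rw [hq, hr]
      exact hpr q r

/-- The fixed vectors of `T`. -/
theorem fix_eq {v : G} (hv : v ∈ V) (hv1 : v ≠ 1) (hc : ∀ t ∈ T, t * v = v * t) : v = zz M 0 0 := by
  have hc' : ∀ t ∈ T, t * v * t⁻¹ = v := fun t ht => by rw [hc t ht, mul_inv_cancel_right]
  obtain ⟨t, ht, hta, -⟩ := M.unip fun _ => 1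
  have h1 : ∀ i, M.e v i 1 = 0 := by
    intro i
    have h := hta v hv i
    rw [hc' t ht] at h
    have h2 := congrFun h 0
    rw [ap_zero', up_00, up_01, one_mul, one_mul] at h2
    exact left_eq_add.1 h2
  have h2 : ∀ i j, M.e v j = 0 ↔ M.e v i = 0 := by
    intro i j
    obtain ⟨s, hs, h⟩ := M.trans i j
    have := h v hv
    rwa [hc' s hs] at this
  have h3 : ∀ i, M.e v i ≠ 0 := by
    intro i h0
    apply hv1
    apply eq_one M hv
    funext j
    exact (h2 i j).2 h0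
  have h4 : ∀ i, M.e v i = av F 0 := by
    intro i
    have h5 : M.e v i 0 = 1 := (hF _).resolve_left fun h => h3 i (ext2 h (h1 i))
    exact ext2 h5 (h1 i)
  rw [eq_vc M hv, h4, h4]
  rfl

end abs

section main

variable {G : Type u} [Group G] [Finite G] {S : Sylow 2 G} {P : Subgroup G}

theorem plus2_of_bot (h : Cfg S P) {F : Type} [Field F] [CharP F 2] (hF : Nat.card F = 2)
    (M : NatK F (S : Subgroup G) P (zl (S : Subgroup G) P) ⊥ 2) :
    Plus2 (S : Subgroup G) P (zz M) := by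
  have hA : Amb (S : Subgroup G) P (zl (S : Subgroup G) P) := amb_of_loc h.ctx.char2 S h.loc
  have hF' : ∀ c : F, c = 0 ∨ c = 1 := by
    obtain ⟨a, b, hab, huniv⟩ := Nat.card_eq_two_iff.1 hF
    intro c
    have h0 : (0 : F) ∈ ({a, b} : Set F) := huniv ▸ Set.mem_univ _
    have h1 : (1 : F) ∈ ({a, b} : Set F) := huniv ▸ Set.mem_univ _
    have hc : c ∈ ({a, b} : Set F) := huniv ▸ Set.mem_univ _
    simp only [Set.mem_insert_iff, Set.mem_singleton_iff] at h0 h1 hc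
    have h01 : (0 : F) ≠ 1 := zero_ne_one
    rcases h0 with h0 | h0 <;> rcases h1 with h1 | h1 <;> rcases hc with hc | hc
    · exact absurd (h0.trans h1.symm) h01
    · exact absurd (h0.trans h1.symm) h01
    · left; rw [hc, h0]
    · right; rw [hc, h1]
    · right; rw [hc, h1]
    · left; rw [hc, h0]
    · exact absurd (h0.trans h1.symm) h01
    · exact absurd (h0.trans h1.symm) h01
  have hsplit : ∀ i j k l : Fin 3, i + j = k + l → i - j = k - l → i = k ∧ j = l := by decide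
  exact
    { inj := fun i j k l hz => by
        obtain ⟨h1, h2⟩ := vc_inj M hz
        exact hsplit _ _ _ _ (av_injective h1) (av_injective h2)
      ne_one := fun i j h1 => by
        rw [zz, ← vc_zero M] at h1
        exact av_ne_zero _ (vc_inj M h1).1
      sq := fun i j => by
        have := hA.sq _ (zz_mem M i j)
        rwa [pow_two] at this
      comm := fun i j k l => hA.comm _ (zz_mem M i j) _ (zz_mem M k l)
      row := zz_row M
      col := zz_col M
      gen := zz_gen M hF'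
      Z := by
        have hne : zc (S : Subgroup G) ≠ ⊥ := MinSimple.Basic.zc_ne_bot S.isPGroup' (h.ctx.sylow_ne_bot S)
        have hall : ∀ v ∈ zc (S : Subgroup G), v ≠ 1 → v = zz M 0 0 := fun v hv hv1 =>
          fix_eq M hA hF' (hA.zc hv) hv1 (MinSimple.VModule.mem_zc.1 hv).2.1
        obtain ⟨⟨v, hv⟩, hv1⟩ := ne_bot_iff_exists_ne_one.1 hne
        have hv1' : v ≠ 1 := fun h1 => hv1 (Subtype.ext h1)
        have hz : zz M 0 0 ∈ zc (S : Subgroup G) := hall v hv hv1' ▸ hv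
        apply le_antisymm
        · intro w hw
          by_cases hw1 : w = 1
          · rw [hw1]; exact one_mem _
          · rw [hall w hw hw1]; exact mem_zpowers _
        · exact zpowers_le.2 hz
      perm := fun m hm => by
        obtain ⟨φ, ψ, hφ, hψ, ha | ha⟩ := exists_act M hA hF' hm
        · obtain ⟨σ, τ, h1 | h1⟩ := exists_perm hφ hψ
          · refine ⟨σ, τ, Or.inl fun i j => ?_⟩
            rw [zz, ha, zz, (h1 i j).1, (h1 i j).2]
          · refine ⟨σ, τ, Or.inr fun i j => ?_⟩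
            rw [zz, ha, zz, (h1 i j).1, (h1 i j).2]
        · obtain ⟨σ, τ, h1 | h1⟩ := exists_perm' hφ hψ
          · refine ⟨σ, τ, Or.inl fun i j => ?_⟩
            rw [zz, ha, zz, (h1 i j).1, (h1 i j).2]
          · refine ⟨σ, τ, Or.inr fun i j => ?_⟩
            rw [zz, ha, zz, (h1 i j).1, (h1 i j).2]
      full := fun σ τ => by
        obtain ⟨φ, ψ, hφ, hψ, h1 | h1⟩ := exists_split σ τ
        · obtain ⟨m, hm, ha⟩ := exists_actN M hA hφ hψ
          refine ⟨m, hm, fun i j => ?_⟩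
          rw [zz, ha, zz, (h1 i j).1, (h1 i j).2]
        · obtain ⟨m, hm, ha⟩ := exists_actS M hA hF' hφ hψ
          refine ⟨m, hm, fun i j => ?_⟩
          rw [zz, ha, zz, (h1 i j).1, (h1 i j).2]
      swap := by
        obtain ⟨m, hm, ha⟩ := exists_actN M hA (φ := id) (ψ := fun x => -x) Function.injective_id
          neg_injective
        refine ⟨m, hm, fun i j => ?_⟩
        rw [zz, ha, zz]
        congr 2
        · rw [id, add_comm]
        · exact neg_sub i j }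

/-- **The output of `NatMany`, `k = 2`, `q = 2`.** -/
theorem plus2_of (h : Cfg S P) {F : Type} [Field F] [CharP F 2] (hF : Nat.card F = 2)
    (M : NatK F (S : Subgroup G) P (zl (S : Subgroup G) P) (cv (S : Subgroup G) P) 2) :
    ∃ z : Fin 3 → Fin 3 → G, Plus2 (S : Subgroup G) P z := by
  have hcv : cv (S : Subgroup G) P = ⊥ := h.one.cen
  rw [hcv] at M
  exact ⟨_, plus2_of_bot h hF M⟩

theorem ty_of_two (h : Cfg S P) {F : Type} [Field F] [CharP F 2] (hF : Nat.card F = 2)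
    (M : NatK F (S : Subgroup G) P (zl (S : Subgroup G) P) (cv (S : Subgroup G) P) 2) :
    Ty (S : Subgroup G) P := by
  obtain ⟨z, hz⟩ := plus2_of h hF M
  exact Ty.plus2 z hz

end main

end Cfsg.Agent.Omega.NO1.Many

end

-- merged: Cfsg.Agent.Mrg.Omega.NO1.NSix.Spread
section

/-!
# (N6) of THEOREM WR (#15037, helper675), steps 1-4: the spread

`U ≤ V` a summand with the line `L = {l x}`, `U ∩ Q = L`; `[U, Q] = L` with `[u, w] = l (br u * nu w)`,
`E = V ∩ Q` central in `Q = O₂(C)`, `U ≰ Q`.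

`spread`: there are `D ≤ E` with `E = L D`, `L ∩ D = 1`, and for every `a ≠ 0` an element `ρ ∈ C` which
centralises `D` and acts on `L` as the scalar `a`.
-/

set_option autoImplicit false
set_option linter.unusedSectionVars false

namespace Cfsg.Agent.Omega.NO1.NSix

open Subgroup Cfsg Cfsg.Agent.Omega.NoFF.Basic Cfsg.Agent.Omega.NOne.Frame
open Cfsg.Agent.Omega.NOne.NearFF Cfsg.Agent.Omega.NOne
open Cfsg.Agent.ZN (o2)
open Cfsg.Agent.MinSimple.VModule (le_normalizer_o2 o2_isPGroup o2_le le_o2)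
open scoped Pointwise

universe u

variable {G : Type u} [Group G]

/-- A summand `U` of `V` with its line `L = {l x}`. -/
structure Sp (F : Type) [Field F] (V Q U : Subgroup G) where
  l : F → G
  br : G → F
  nu : G → F
  UV : U ≤ V
  l_add : ∀ x y, l (x + y) = l x * l y
  l_one : ∀ x, l x = 1 → x = 0
  l_U : ∀ x, l x ∈ U
  l_Q : ∀ x, l x ∈ Q
  br_surj : ∀ a, ∃ u ∈ U, br u = a
  nu_mul : ∀ w ∈ Q, ∀ f ∈ Q, nu (w * f) = nu w + nu f
  act : ∀ u ∈ U, ∀ w ∈ Q, u * w * u⁻¹ * w⁻¹ = l (br u * nu w)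
  cent : ∀ e ∈ V ⊓ Q, ∀ w ∈ Q, w * e = e * w

/-- The ambient facts. -/
structure Am (C V : Subgroup G) : Prop where
  VC : V ≤ C
  Vc : V ≤ centralizer (V : Set G)
  V2 : ∀ w ∈ V, w ^ 2 = 1
  QV : o2 C ≤ normalizer (V : Set G)

/-- The frame. -/
structure Fm {F : Type} [Field F] {C V U : Subgroup G} (M : Sp F V (o2 C) U) (y : G) : Prop where
  yC : y ∈ C
  yX : y ∈ X U y
  min : ∀ x ∈ C, Nat.card (X U x) < Nat.card (X U y) → IsPGroup 2 (X U x)
  inj : ∀ f ∈ MulAut.conj y • (V ⊓ o2 C), M.nu f = 0 → f ∈ V ⊓ o2 C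
  gen : ∀ e ∈ V ⊓ o2 C, ∃ x, M.l x * e⁻¹ ∈ (V ⊓ o2 C) ⊓ MulAut.conj y • (V ⊓ o2 C)
  tri : ∀ x, M.l x ∈ MulAut.conj y • (V ⊓ o2 C) → x = 0

section

variable {F : Type} [Field F] {C V U : Subgroup G}

section basic

variable (M : Sp F V (o2 C) U)
include M

theorem l_zero : M.l 0 = 1 := by
  have h := M.l_add 0 0
  rw [add_zero] at h
  exact left_eq_mul.1 h

theorem l_E (x : F) : M.l x ∈ V ⊓ o2 C := ⟨M.UV (M.l_U x), M.l_Q x⟩

theorem l_inv (x : F) : (M.l x)⁻¹ = M.l (-x) := by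
  rw [inv_eq_iff_mul_eq_one, ← M.l_add, add_neg_cancel, l_zero]

end basic

variable {M : Sp F V (o2 C) U} (h : Am C V)
include h

theorem Am.comm {a b : G} (ha : a ∈ V) (hb : b ∈ V) : a * b = b * a := comm_of_le_centralizer h.Vc ha hb

theorem Am.U_le_C (M : Sp F V (o2 C) U) : U ≤ C := M.UV.trans h.VC

theorem norm_Q {x w : G} (hx : x ∈ C) (hw : w ∈ o2 C) : x * w * x⁻¹ ∈ o2 C :=
  norm_mem (le_normalizer_o2 C hx) hw

theorem norm_Q' {x w : G} (hx : x ∈ C) (hw : w ∈ o2 C) : x⁻¹ * w * x ∈ o2 C :=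
  norm_mem' (le_normalizer_o2 C hx) hw

theorem conj_E_le {x : G} (hx : x ∈ C) : MulAut.conj x • (V ⊓ o2 C) ≤ o2 C := by
  intro e he
  obtain ⟨a, ha, rfl⟩ := mem_conj'.1 he
  exact norm_Q h hx ha.2

/-- the conjugates of `E` are central in `Q` -/
theorem conj_cent (M : Sp F V (o2 C) U) {x e w : G} (hx : x ∈ C) (he : e ∈ MulAut.conj x • (V ⊓ o2 C))
    (hw : w ∈ o2 C) : w * e = e * w := by
  obtain ⟨a, ha, rfl⟩ := mem_conj'.1 he
  have h1 := M.cent a ha _ (norm_Q' h hx hw)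
  calc w * (x * a * x⁻¹) = x * (x⁻¹ * w * x * a) * x⁻¹ := by group
    _ = x * (a * (x⁻¹ * w * x)) * x⁻¹ := by rw [h1]
    _ = x * a * x⁻¹ * w := by group

/-- the action of a conjugate of `U` on `Q` -/
theorem act_conj (M : Sp F V (o2 C) U) {x u w : G} (hx : x ∈ C) (hu : u ∈ U) (hw : w ∈ o2 C) :
    x * u * x⁻¹ * w * (x * u * x⁻¹)⁻¹ * w⁻¹ = x * M.l (M.br u * M.nu (x⁻¹ * w * x)) * x⁻¹ := by
  rw [← M.act u hu _ (norm_Q' h hx hw)]
  group

theorem nu_E (M : Sp F V (o2 C) U) {e : G} (he : e ∈ V ⊓ o2 C) : M.nu e = 0 := by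
  obtain ⟨u, hu, h1⟩ := M.br_surj 1
  have h2 := M.act u hu e he.2
  rw [h1, one_mul, h.comm (M.UV hu) he.1, mul_inv_cancel_right, mul_inv_cancel] at h2
  exact M.l_one _ h2.symm

/-- `W = E E^y` -/
theorem mem_W {y w : G} (hy : y ∈ C)
    (hw : w ∈ (V ⊓ o2 C) ⊔ MulAut.conj y • (V ⊓ o2 C)) (M : Sp F V (o2 C) U) :
    ∃ e ∈ V ⊓ o2 C, ∃ f ∈ MulAut.conj y • (V ⊓ o2 C), e * f = w := by
  have h1 : MulAut.conj y • (V ⊓ o2 C) ≤ normalizer ((V ⊓ o2 C : Subgroup G) : Set G) := by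
    refine le_normalizer_of_comm fun a ha b hb => ?_
    rw [M.cent b hb a (conj_E_le h hy ha), mul_inv_cancel_right, mul_inv_cancel]
    exact one_mem _
  have h3 : w ∈ (((V ⊓ o2 C) ⊔ MulAut.conj y • (V ⊓ o2 C) : Subgroup G) : Set G) := hw
  rw [Subgroup.coe_mul_of_right_le_normalizer_left _ _ h1] at h3
  obtain ⟨e, he, f, hf, rfl⟩ := h3
  exact ⟨e, he, f, hf, rfl⟩

namespace Fm

variable {y : G} (K : Fm M y)
include K

/-- `W = E E^y` -/
def W (_ : Fm M y) : Subgroup G := (V ⊓ o2 C) ⊔ MulAut.conj y • (V ⊓ o2 C)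

/-- `D = E ∩ E^y` -/
def D (_ : Fm M y) : Subgroup G := (V ⊓ o2 C) ⊓ MulAut.conj y • (V ⊓ o2 C)

theorem X_le_C : X U y ≤ C := sup_le (h.U_le_C M) (Choice.conj_le_of_mem (h.U_le_C M) K.yC)

theorem W_le_Q : K.W ≤ o2 C := sup_le inf_le_right (conj_E_le h K.yC)

omit h in
theorem E_le_W : V ⊓ o2 C ≤ K.W := le_sup_left

omit h in
theorem E'_le_W : MulAut.conj y • (V ⊓ o2 C) ≤ K.W := le_sup_right

/-- `X` centralises `D` -/
theorem cent_D {x d : G} (hx : x ∈ X U y) (hd : d ∈ K.D) : x * d = d * x :=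
  cent_of_fr h.Vc x (sup_le_sup M.UV (conj_le_iff.2 M.UV) hx) d hd

/-- `W` is abelian -/
theorem W_comm {a b : G} (ha : a ∈ K.W) (hb : b ∈ K.W) : a * b = b * a := by
  obtain ⟨e, he, f, hf, rfl⟩ := mem_W h K.yC ha M
  have hbQ := K.W_le_Q h hb
  have h1 := M.cent e he b hbQ
  have h2 := conj_cent h M K.yC hf hbQ
  rw [mul_assoc, ← h2, ← mul_assoc, ← h1, mul_assoc]

/-- `X` normalises `W` -/
theorem X_norm_W : X U y ≤ normalizer (K.W : Set G) := by
  have key : ∀ x ∈ C, MulAut.conj x • (V ⊓ o2 C) ≤ K.W → MulAut.conj x • U ≤ normalizer (K.W : Set G) := by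
    intro x hx hxW
    refine le_normalizer_of_comm fun a ha w hw => ?_
    obtain ⟨u, hu, rfl⟩ := mem_conj'.1 ha
    rw [act_conj h M hx hu (K.W_le_Q h hw)]
    exact hxW (Frame.conj_mem (l_E M _))
  refine sup_le ?_ (key y K.yC K.E'_le_W)
  have h1 := key 1 (one_mem C) (by rw [map_one, one_smul]; exact K.E_le_W)
  rwa [map_one, one_smul] at h1

theorem conj_W {x w : G} (hx : x ∈ X U y) (hw : w ∈ K.W) : x * w * x⁻¹ ∈ K.W :=
  norm_mem (K.X_norm_W h hx) hw

theorem conj_W' {x w : G} (hx : x ∈ X U y) (hw : w ∈ K.W) : x⁻¹ * w * x ∈ K.W :=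
  norm_mem' (K.X_norm_W h hx) hw

theorem conj_E_le_W {x : G} (hx : x ∈ X U y) : MulAut.conj x • (V ⊓ o2 C) ≤ K.W := by
  intro e he
  obtain ⟨a, ha, rfl⟩ := mem_conj'.1 he
  exact K.conj_W h hx (K.E_le_W ha)

/-- the kernel of `ν` on `W` is `E` -/
theorem mem_E_of_nu {w : G} (hw : w ∈ K.W) (h0 : M.nu w = 0) : w ∈ V ⊓ o2 C := by
  obtain ⟨e, he, f, hf, rfl⟩ := mem_W h K.yC hw M
  rw [M.nu_mul e he.2 f (conj_E_le h K.yC hf), nu_E h M he, zero_add] at h0
  exact mul_mem he (K.inj f hf h0)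

/-- `D ≤ E^x` for `x ∈ X` -/
theorem D_le {x : G} (hx : x ∈ X U y) : K.D ≤ MulAut.conj x • (V ⊓ o2 C) := by
  intro d hd
  rw [mem_conj, mul_assoc, ← K.cent_D h hx hd, inv_mul_cancel_left]
  exact hd.1

/-- `[w, U^x] = L^x` for `w ∈ W - E^x` -/
theorem exists_u {x w : G} (hx : x ∈ X U y) (hw : w ∈ K.W) (hwE : w ∉ MulAut.conj x • (V ⊓ o2 C)) (c : F) :
    ∃ u ∈ U, x * u * x⁻¹ * w * (x * u * x⁻¹)⁻¹ * w⁻¹ = x * M.l c * x⁻¹ := by
  have h1 : M.nu (x⁻¹ * w * x) ≠ 0 := fun h0 => hwE (mem_conj.2 (K.mem_E_of_nu h (K.conj_W' h hx hw) h0))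
  obtain ⟨u, hu, hu1⟩ := M.br_surj (c / M.nu (x⁻¹ * w * x))
  refine ⟨u, hu, ?_⟩
  rw [act_conj h M (K.X_le_C h hx) hu (K.W_le_Q h hw), hu1, div_mul_cancel₀ _ h1]

/-- `E^x ≤ A` if `L^x ≤ A` and `D ≤ A` -/
theorem conj_le_of {x : G} (hx : x ∈ X U y) {A : Subgroup G} (hA : ∀ c, x * M.l c * x⁻¹ ∈ A) (hD : K.D ≤ A) :
    MulAut.conj x • (V ⊓ o2 C) ≤ A := by
  intro e he
  obtain ⟨a, ha, rfl⟩ := mem_conj'.1 he
  obtain ⟨c, hc⟩ := K.gen a ha
  have h1 : x * (M.l c * a⁻¹) * x⁻¹ ∈ A := by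
    rw [K.cent_D h hx hc, mul_inv_cancel_right]
    exact hD hc
  have h2 := mul_mem (inv_mem h1) (hA c)
  have e1 : (x * (M.l c * a⁻¹) * x⁻¹)⁻¹ * (x * M.l c * x⁻¹) = x * a * x⁻¹ := by group
  rwa [e1] at h2

/-- **SPREAD.** -/
theorem spread [Finite G] {x a : G} (hx : x ∈ X U y) (ha : a ∈ V ⊓ o2 C)
    (hax : a ∈ MulAut.conj x • (V ⊓ o2 C)) (haD : a ∉ K.D) : MulAut.conj x • (V ⊓ o2 C) = V ⊓ o2 C := by
  have : Fact (Nat.Prime 2) := ⟨Nat.prime_two⟩
  have hxC := K.X_le_C h hx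
  have hTX : X U x ≤ X U y := sup_le le_sup_left (Choice.conj_le_of_mem le_sup_left hx)
  -- `A = E ∩ E^x` is centralised by `T`
  have hAT : ∀ b ∈ V ⊓ o2 C, b ∈ MulAut.conj x • (V ⊓ o2 C) → ∀ t ∈ X U x, t * b = b * t := fun b hb hbx t ht =>
    cent_of_fr h.Vc t (sup_le_sup M.UV (conj_le_iff.2 M.UV) ht) b ⟨hb, hbx⟩
  by_cases hT : IsPGroup 2 (X U x)
  · by_contra hne
    have hcard : Nat.card (MulAut.conj x • (V ⊓ o2 C) : Subgroup G) = Nat.card (V ⊓ o2 C : Subgroup G) :=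
      Choice.card_conj _ _
    have hn1 : ¬ V ⊓ o2 C ≤ MulAut.conj x • (V ⊓ o2 C) := fun h1 =>
      hne (Subgroup.eq_of_le_of_card_ge h1 hcard.le).symm
    have hn2 : ¬ MulAut.conj x • (V ⊓ o2 C) ≤ V ⊓ o2 C := fun h1 =>
      hne (Subgroup.eq_of_le_of_card_ge h1 hcard.ge)
    have hTW : X U x ≤ normalizer (K.W : Set G) := hTX.trans (K.X_norm_W h)
    have hW2 : IsPGroup 2 K.W := (o2_isPGroup C).to_le (K.W_le_Q h)
    have hY2 : IsPGroup 2 (X U x ⊔ K.W : Subgroup G) := hT.to_sup_of_normal_right' hW2 hTW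
    have hYW : X U x ⊔ K.W ≤ normalizer (K.W : Set G) := sup_le hTW le_normalizer
    have hA' : X U x ⊔ K.W ≤ centralizer (((V ⊓ o2 C) ⊓ MulAut.conj x • (V ⊓ o2 C) : Subgroup G) : Set G) := by
      refine sup_le (fun t ht => mem_centralizer_iff.2 fun b hb => ?_)
        (fun w hw => mem_centralizer_iff.2 fun b hb => ?_)
      · exact (hAT b hb.1 hb.2 t ht).symm
      · exact K.W_comm h (K.E_le_W hb.1) hw
    obtain ⟨e0, he0, he0x⟩ := SetLike.not_le_iff_exists.1 hn1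
    obtain ⟨n, hnW, hnA, hn⟩ := Cfsg.Agent.GTwoFour.Tools.exists_fixed_mod
      (M := (V ⊓ o2 C) ⊓ MulAut.conj x • (V ⊓ o2 C)) hY2 (le_sup_right : K.W ≤ X U x ⊔ K.W)
      (fun t ht w hw => norm_mem (hYW ht) hw)
      (fun t ht b hb => by
        have h1 := mem_centralizer_iff.1 (hA' ht) b hb
        rw [← h1, mul_inv_cancel_right]
        exact hb) ⟨e0, K.E_le_W he0, fun h1 => he0x h1.2⟩
    by_cases hnE : n ∈ V ⊓ o2 C
    · have hnx : n ∉ MulAut.conj x • (V ⊓ o2 C) := fun h1 => hnA ⟨hnE, h1⟩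
      refine hn2 ((K.conj_le_of h hx (A := (V ⊓ o2 C) ⊓ MulAut.conj x • (V ⊓ o2 C)) (fun c => ?_)
        (le_inf inf_le_left (K.D_le h hx))).trans inf_le_left)
      obtain ⟨u, hu, h1⟩ := K.exists_u h hx hnW hnx c
      rw [← h1]
      exact hn _ (mem_sup_left (mem_sup_right (Frame.conj_mem hu)))
    · have h1x : (1 : G) ∈ X U y := one_mem _
      have e1 : MulAut.conj (1 : G) • (V ⊓ o2 C) = V ⊓ o2 C := by rw [map_one, one_smul]
      have h2 := K.conj_le_of h h1x (A := (V ⊓ o2 C) ⊓ MulAut.conj x • (V ⊓ o2 C)) (fun c => ?_)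
        (le_inf inf_le_left (K.D_le h hx))
      · rw [e1] at h2
        exact hn1 (h2.trans inf_le_right)
      · obtain ⟨u, hu, h1⟩ := K.exists_u h h1x hnW (by rw [e1]; exact hnE) c
        rw [← h1]
        refine hn _ (mem_sup_left (mem_sup_left ?_))
        rw [one_mul, inv_one, mul_one]
        exact hu
  · -- `T = X`
    exfalso
    have h1 : X U x = X U y := Subgroup.eq_of_le_of_card_ge hTX (by
      by_contra hlt
      exact hT (K.min x hxC (not_le.1 hlt)))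
    have hy : y ∈ X U x := by rw [h1]; exact K.yX
    have h2 := hAT a ha hax y hy
    refine haD ⟨ha, mem_conj.2 ?_⟩
    rw [mul_assoc, ← h2, inv_mul_cancel_left]
    exact ha

/-- an element of `L^y` is not in `E` -/
theorem eq_zero_of_mem {c : F} (hc : y * M.l c * y⁻¹ ∈ V ⊓ o2 C) : c = 0 := by
  apply K.tri
  have h1 : y * M.l c * y⁻¹ ∈ K.D := ⟨hc, Frame.conj_mem (l_E M c)⟩
  have h2 := K.cent_D h K.yX h1
  have h3 : M.l c = y * M.l c * y⁻¹ := by
    have h4 : y * (y * M.l c * y⁻¹) * y⁻¹ = y * M.l c * y⁻¹ := by rw [h2, mul_inv_cancel_right]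
    have h5 : y⁻¹ * (y * (y * M.l c * y⁻¹) * y⁻¹) * y = y⁻¹ * (y * M.l c * y⁻¹) * y := by rw [h4]
    have e1 : y⁻¹ * (y * (y * M.l c * y⁻¹) * y⁻¹) * y = y * M.l c * y⁻¹ := by group
    have e2 : y⁻¹ * (y * M.l c * y⁻¹) * y = M.l c := by group
    rw [e1, e2] at h5
    exact h5.symm
  rw [h3]
  exact Frame.conj_mem (l_E M c)

/-- **Step 4.**  For `a ≠ 0` there is `n ∈ X` with `n f n⁻¹ = l (a ν(f))` for `f ∈ L^y`. -/
theorem exists_n [Finite G] {a : F} (ha : a ≠ 0) :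
    ∃ n ∈ X U y, ∀ c, n * (y * M.l c * y⁻¹) * n⁻¹ = M.l (a * M.nu (y * M.l c * y⁻¹)) := by
  obtain ⟨v, hv, hva⟩ := M.br_surj a
  have hvX : v ∈ X U y := mem_sup_left hv
  -- `[v, f] = l (a ν f)`
  have hvf : ∀ w ∈ o2 C, v * w * v⁻¹ = M.l (a * M.nu w) * w := fun w hw => by
    rw [← hva, ← M.act v hv w hw, inv_mul_cancel_right]
  have hf : ∀ c, y * M.l c * y⁻¹ ∈ MulAut.conj y • (V ⊓ o2 C) := fun c => Frame.conj_mem (l_E M c)
  have hfW : ∀ c, y * M.l c * y⁻¹ ∈ K.W := fun c => K.E'_le_W (hf c)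
  have hfQ : ∀ c, y * M.l c * y⁻¹ ∈ o2 C := fun c => K.W_le_Q h (hfW c)
  have hlW : ∀ c, M.l c ∈ K.W := fun c => K.E_le_W (l_E M c)
  -- the elements `f₀`, `l₀`
  have hf0 : M.nu (y * M.l 1 * y⁻¹) ≠ 0 := fun h0 =>
    one_ne_zero (K.eq_zero_of_mem h (K.mem_E_of_nu h (hfW 1) h0))
  have hl0 : M.l (a * M.nu (y * M.l 1 * y⁻¹)) ∉ MulAut.conj y • (V ⊓ o2 C) := fun h1 =>
    mul_ne_zero ha hf0 (K.tri _ h1)
  obtain ⟨u, hu, hu1⟩ := K.exists_u h K.yX (hlW _) hl0 1
  have hu' : y * u * y⁻¹ ∈ MulAut.conj y • U := Frame.conj_mem hu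
  have huX : y * u * y⁻¹ ∈ X U y := mem_sup_right hu'
  generalize htdef : y * u * y⁻¹ = t at hu1 hu' huX
  set l₀ := M.l (a * M.nu (y * M.l 1 * y⁻¹)) with hl0def
  set f₀ := y * M.l 1 * y⁻¹ with hf0def
  have hul : t * l₀ * t⁻¹ = f₀ * l₀ := by rw [← hu1, inv_mul_cancel_right]
  have hx : t⁻¹ * v * y ∈ X U y := mul_mem (mul_mem (inv_mem huX) hvX) K.yX
  have hvf0 : v * f₀ * v⁻¹ = l₀ * f₀ := hvf f₀ (hfQ 1)
  have hsp := K.spread h hx (a := l₀) (l_E M _) (by
    rw [mem_conj]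
    have e1 : (t⁻¹ * v * y)⁻¹ * l₀ * (t⁻¹ * v * y) = y⁻¹ * (v⁻¹ * (t * l₀ * t⁻¹) * v) * y := by group
    rw [e1, hul, ← K.W_comm h (hlW _) (hfW 1), ← hvf0]
    have e2 : y⁻¹ * (v⁻¹ * (v * f₀ * v⁻¹) * v) * y = M.l 1 := by rw [hf0def]; group
    rw [e2]
    exact l_E M 1) (fun h1 => hl0 h1.2)
  -- `t (l f) t⁻¹`
  have hmain : ∀ c, t * M.l (a * M.nu (y * M.l c * y⁻¹)) * t⁻¹ =
      y * M.l c * y⁻¹ * M.l (a * M.nu (y * M.l c * y⁻¹)) := by
    intro c
    generalize hfdef : y * M.l c * y⁻¹ = f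
    have hfc := hf c
    have hfcW := hfW c
    have hfcQ := hfQ c
    rw [hfdef] at hfc hfcW hfcQ
    generalize hldef : M.l (a * M.nu f) = l
    have hlc : l ∈ V ⊓ o2 C := by rw [← hldef]; exact l_E M _
    have hlcW : l ∈ K.W := K.E_le_W hlc
    have hvfc : v * f * v⁻¹ = l * f := by rw [hvf f hfcQ, hldef]
    -- `t⁻¹ (l f) t ∈ E`
    have h1 : t⁻¹ * (l * f) * t ∈ V ⊓ o2 C := by
      rw [← hvfc, ← hsp, mem_conj, ← hfdef]
      have e1 : (t⁻¹ * v * y)⁻¹ * (t⁻¹ * (v * (y * M.l c * y⁻¹) * v⁻¹) * t) * (t⁻¹ * v * y) = M.l c := by group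
      rw [e1]
      exact l_E M c
    -- `t` centralises `f`
    have htf : t * f = f * t :=
      comm_of_le_centralizer (conj_le_centralizer h.Vc) (conj_le_iff.2 M.UV hu') (conj_le_iff.2 inf_le_left hfc)
    -- `t⁻¹ l t l⁻¹ ∈ L^y`
    obtain ⟨c', hc'⟩ : ∃ c', t⁻¹ * l * t * l⁻¹ = y * M.l c' * y⁻¹ := by
      have h2 := act_conj h M K.yC (inv_mem hu) (K.W_le_Q h hlcW)
      refine ⟨M.br u⁻¹ * M.nu (y⁻¹ * l * y), ?_⟩
      rw [← h2, ← htdef]
      group
    have h3 : t⁻¹ * (l * f) * t = t⁻¹ * l * t * l⁻¹ * l * f := by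
      have e1 : t⁻¹ * (l * f) * t = t⁻¹ * l * (f * t) := by group
      rw [e1, ← htf]
      group
    rw [h3, hc'] at h1
    have h4 : y * M.l c' * y⁻¹ * f ∈ V ⊓ o2 C := by
      have e1 : y * M.l c' * y⁻¹ * l * f = l * (y * M.l c' * y⁻¹ * f) := by
        rw [K.W_comm h (hfW c') hlcW, mul_assoc]
      rw [e1] at h1
      exact (mul_mem_cancel_left hlc).1 h1
    have h5 : y * M.l c' * y⁻¹ * f = 1 := by
      have e1 : y * M.l c' * y⁻¹ * f = y * M.l (c' + c) * y⁻¹ := by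
        rw [← hfdef, M.l_add]; group
      rw [e1] at h4 ⊢
      rw [K.eq_zero_of_mem h h4, l_zero, mul_one, mul_inv_cancel]
    -- so `t⁻¹ l t = f⁻¹ l`
    have h6 : t⁻¹ * l * t = f⁻¹ * l := by
      rw [← hc'] at h5
      have e1 : t⁻¹ * l * t = (t⁻¹ * l * t * l⁻¹ * f) * f⁻¹ * l := by group
      rw [e1, h5, one_mul]
    have h7 : l = f⁻¹ * (t * l * t⁻¹) := by
      have e1 : t * (t⁻¹ * l * t) * t⁻¹ = l := by group
      rw [h6] at e1
      have e2 : t * (f⁻¹ * l) * t⁻¹ = (t * f⁻¹ * t⁻¹) * (t * l * t⁻¹) := by group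
      have e3 : t * f⁻¹ * t⁻¹ = f⁻¹ := by
        rw [← conj_inv, htf, mul_inv_cancel_right]
      rw [e2, e3] at e1
      exact e1.symm
    conv_rhs => rw [h7]
    group
  refine ⟨v * t * v, mul_mem (mul_mem hvX huX) hvX, fun c => ?_⟩
  have h1 := hmain c
  generalize hfdef : y * M.l c * y⁻¹ = f at h1 ⊢
  have hfc := hf c
  have hfcQ := hfQ c
  rw [hfdef] at hfc hfcQ
  generalize hldef : M.l (a * M.nu f) = l at h1 ⊢
  have hlc : l ∈ V ⊓ o2 C := by rw [← hldef]; exact l_E M _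
  have hvfc : v * f * v⁻¹ = l * f := by rw [hvf f hfcQ, hldef]
  have htf : t * f = f * t :=
    comm_of_le_centralizer (conj_le_centralizer h.Vc) (conj_le_iff.2 M.UV hu') (conj_le_iff.2 inf_le_left hfc)
  have hff : f * f = 1 := by
    obtain ⟨b, hb, rfl⟩ := mem_conj'.1 hfc
    have := h.V2 b hb.1
    rw [pow_two] at this
    have e1 : y * b * y⁻¹ * (y * b * y⁻¹) = y * (b * b) * y⁻¹ := by group
    rw [e1, this, mul_one, mul_inv_cancel]
  have hlf : l * f = f * l := K.W_comm h (K.E_le_W hlc) (K.E'_le_W hfc)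
  have hvl : v * l = l * v := h.comm (M.UV hv) hlc.1
  calc v * t * v * f * (v * t * v)⁻¹ = v * (t * (v * f * v⁻¹) * t⁻¹) * v⁻¹ := by group
    _ = v * ((t * l * t⁻¹) * (t * f * t⁻¹)) * v⁻¹ := by rw [hvfc]; group
    _ = v * (f * l * f) * v⁻¹ := by rw [h1, htf, mul_inv_cancel_right]
    _ = v * (l * (f * f)) * v⁻¹ := by rw [← hlf, mul_assoc l f f]
    _ = l := by rw [hff, mul_one, hvl, mul_inv_cancel_right]

/-- **Step 4, conclusion.** -/
theorem exists_rho [Finite G] [Finite F] {a : F} (ha : a ≠ 0) :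
    ∃ n ∈ X U y, ∀ x, n * M.l x * n⁻¹ = M.l (a * x) := by
  obtain ⟨n1, hn1, h1⟩ := K.exists_n h (one_ne_zero (α := F))
  obtain ⟨n2, hn2, h2⟩ := K.exists_n h ha
  have hfQ : ∀ c, y * M.l c * y⁻¹ ∈ o2 C := fun c => K.W_le_Q h (K.E'_le_W (Frame.conj_mem (l_E M c)))
  -- the additive map `μ`
  have hadd : ∀ c d, M.nu (y * M.l (c + d) * y⁻¹) = M.nu (y * M.l c * y⁻¹) + M.nu (y * M.l d * y⁻¹) := by
    intro c d
    rw [← M.nu_mul _ (hfQ c) _ (hfQ d), M.l_add]
    congr 1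
    group
  let μ : F →+ F := AddMonoidHom.mk' (fun c => M.nu (y * M.l c * y⁻¹)) hadd
  have hinj : Function.Injective μ := by
    rw [injective_iff_map_eq_zero]
    intro c hc
    exact K.eq_zero_of_mem h (K.mem_E_of_nu h (K.E'_le_W (Frame.conj_mem (l_E M c))) hc)
  have hsurj : Function.Surjective μ := Finite.surjective_of_injective hinj
  refine ⟨n2 * n1⁻¹, mul_mem hn2 (inv_mem hn1), fun x => ?_⟩
  obtain ⟨c, hc⟩ := hsurj x
  have hc' : M.nu (y * M.l c * y⁻¹) = x := hc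
  have h3 := h1 c
  have h4 := h2 c
  rw [hc', one_mul] at h3
  rw [hc'] at h4
  rw [← h3, ← h4]
  group

end Fm

/-- **Existence of the frame.** -/
theorem exists_fm [Finite G] (M : Sp F V (o2 C) U) (hUQ : ¬ U ≤ o2 C)
    (hD : ∀ y ∈ C, y ∈ X U y → ¬ IsPGroup 2 (X U y) →
      (∀ e ∈ V ⊓ o2 C, ∃ x, M.l x * e⁻¹ ∈ (V ⊓ o2 C) ⊓ MulAut.conj y • (V ⊓ o2 C)) →
      ∀ x, M.l x ∈ MulAut.conj y • (V ⊓ o2 C) → x = 0) : ∃ y, Fm M y := by
  have hUC := h.U_le_C M
  obtain ⟨g, hg, hgX, hg2, hmin⟩ := Choice.exists_g hUC hUQ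
  have hXC : X U g ≤ C := sup_le hUC (Choice.conj_le_of_mem hUC hg)
  -- `v ∈ U`, not in `O₂(X)`
  obtain ⟨v, hv, hvo⟩ : ∃ v ∈ U, v ∉ o2 (X U g) := by
    by_contra hcon
    push Not at hcon
    apply hg2
    have h1 : U ≤ o2 (X U g) := hcon
    have h2 : MulAut.conj g • U ≤ o2 (X U g) := by
      intro x hx
      obtain ⟨u, hu, rfl⟩ := mem_conj'.1 hx
      exact norm_mem (le_normalizer_o2 _ hgX) (h1 hu)
    exact (o2_isPGroup _).to_le (sup_le h1 h2)
  have hvX : zpowers v ≤ X U g := zpowers_le.2 (mem_sup_left hv)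
  obtain ⟨y, hy, hyX, hy2, -⟩ := Choice.exists_g hvX fun h1 => hvo (h1 (mem_zpowers v))
  have hyC := hXC hy
  have hvU : zpowers v ≤ U := zpowers_le.2 hv
  have hXy : X (zpowers v) y ≤ X U y := sup_le_sup hvU (conj_le_iff.2 hvU)
  have hle : X U y ≤ X U g := sup_le le_sup_left (Choice.conj_le_of_mem le_sup_left hy)
  have heq : X U y = X U g := by
    refine Subgroup.eq_of_le_of_card_ge hle ?_
    by_contra hlt
    exact hy2 ((hmin y hyC (not_le.1 hlt)).to_le hXy)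
  have hvV := M.UV hv
  have hvQ : v ∉ o2 C := by
    intro hvQ
    apply hvo
    -- `⟨v⟩ ≤ O₂(C) ∩ X ≤ O₂(X)`
    have h1 : o2 C ⊓ X U g ≤ o2 (X U g) := by
      refine le_o2 inf_le_right ((o2_isPGroup C).to_le inf_le_left) ?_
      intro x hx
      rw [mem_normalizer_iff]
      intro z
      have h2 := mem_normalizer_iff.1 (le_normalizer_o2 C (hXC hx)) z
      have h3 := mem_normalizer_iff.1 (le_normalizer hx : x ∈ normalizer ((X U g : Subgroup G) : Set G)) z
      exact and_congr h2 h3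
    exact h1 ⟨hvQ, mem_sup_left hv⟩
  have gQ : MulAut.conj y • o2 C = o2 C := by
    have := le_normalizer_o2 C hyC
    ext x
    rw [mem_conj, mem_normalizer_iff.1 this]
    have e : y * (y⁻¹ * x * y) * y⁻¹ = x := by group
    rw [e]
  have hVQ : V ≤ normalizer (o2 C : Set G) := h.VC.trans (le_normalizer_o2 C)
  have hvV1 : zpowers v ≤ V1 V (o2 C) v := le_sup_right
  have hyX1 : y ∈ X (V1 V (o2 C) v) y :=
    (sup_le_sup hvV1 (conj_le_iff.2 hvV1) : X (zpowers v) y ≤ X (V1 V (o2 C) v) y) hyX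
  have hfr := fr_V1 h.Vc h.QV hVQ hvV gQ hyX1
  have hnear := near_of_fr h.Vc h.V2 h.QV hVQ hvV hvQ hfr
  have hgen : ∀ e ∈ V ⊓ o2 C, ∃ x, M.l x * e⁻¹ ∈ (V ⊓ o2 C) ⊓ MulAut.conj y • (V ⊓ o2 C) := by
    intro e he
    obtain ⟨f, hf, h1⟩ := hnear.surj he
    refine ⟨M.br v * M.nu f, ?_⟩
    rw [← M.act v hv f (conj_E_le h hyC hf)]
    exact h1
  refine ⟨y, hyC, hXy hyX, fun x hx hlt => hmin x hx (heq ▸ hlt), fun f hf h0 => ?_, hgen,
    hD y hyC (hXy hyX) (fun h1 => hy2 (h1.to_le hXy)) hgen⟩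
  have h1 := hnear.inj f hf (by
    rw [M.act v hv f (conj_E_le h hyC hf), h0, mul_zero, l_zero]
    exact one_mem _)
  exact h1.1

/-- **Steps 1-4 of (N6).** -/
theorem spread [Finite G] [Finite F] (M : Sp F V (o2 C) U) (hUQ : ¬ U ≤ o2 C)
    (hD : ∀ y ∈ C, y ∈ X U y → ¬ IsPGroup 2 (X U y) →
      (∀ e ∈ V ⊓ o2 C, ∃ x, M.l x * e⁻¹ ∈ (V ⊓ o2 C) ⊓ MulAut.conj y • (V ⊓ o2 C)) →
      ∀ x, M.l x ∈ MulAut.conj y • (V ⊓ o2 C) → x = 0) :
    ∃ D ≤ V ⊓ o2 C, (∀ z ∈ V ⊓ o2 C, (∀ c ∈ C, c * z = z * c) → z ∈ D) ∧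
      (∀ e ∈ V ⊓ o2 C, ∃ x, M.l x * e ∈ D) ∧ (∀ x, M.l x ∈ D → x = 0) ∧
      ∀ a : F, a ≠ 0 → ∃ ρ ∈ C, (∀ d ∈ D, ρ * d * ρ⁻¹ = d) ∧ ∀ x, ρ * M.l x * ρ⁻¹ = M.l (a * x) := by
  obtain ⟨y, K⟩ := exists_fm h M hUQ hD
  refine ⟨K.D, inf_le_left, fun z hz hc => ⟨hz, mem_conj.2 ?_⟩, fun e he => ?_, fun x hx => K.tri x hx.2,
    fun a ha => ?_⟩
  · rw [mul_assoc, ← hc y K.yC, inv_mul_cancel_left]
    exact hz
  · obtain ⟨x, hx⟩ := K.gen e⁻¹ (inv_mem he)
    rw [inv_inv] at hx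
    exact ⟨x, hx⟩
  · obtain ⟨n, hn, h1⟩ := K.exists_rho h ha
    refine ⟨n, K.X_le_C h hn, fun d hd => ?_, h1⟩
    rw [K.cent_D h hn hd, mul_inv_cancel_right]

end

end Cfsg.Agent.Omega.NO1.NSix

end

-- merged: Cfsg.Agent.Mrg.Omega.NO1.NSix.LineQ
section

section


/-!
# (N6) of THEOREM WR (#15037, helper675), step 0: case (Q)

`M : NatK F S P V ⊥ k`, `V ∩ Q = {v | all second coordinates are 0}`.  Then `Q` fixes the summands and acts as
`(x, y) ↦ (x + ν_i(f) y, y)` on the `i`-th one; `V ∩ Q` is central in `Q`.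
-/

set_option autoImplicit false
set_option linter.unusedSectionVars false

namespace Cfsg.Agent.Omega.NO1.NSix

open Subgroup Cfsg Cfsg.Agent.ZN Cfsg.Agent.Omega.FFThm Cfsg.Agent.Omega.Half Cfsg.Agent.Omega.MinPar
open Cfsg.Agent.Omega.Half.NatA
open Cfsg.Agent.Omega.NoFF.LinesPlug (CC)
open Cfsg.Agent.MinSimple.VModule (o2_isPGroup)
open Cfsg.Agent.Omega.NOne.Frame (norm_mem norm_mem' comm_mem_inf)
open scoped Pointwise

universe u

variable {G : Type u} [Group G] [Finite G] {S : Sylow 2 G} {P : Subgroup G}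
variable {F : Type} [Field F] [Finite F] [CharP F 2] {k : ℕ}

/-- Case (Q). -/
structure CaseQ (M : NatK F (S : Subgroup G) P (zl (S : Subgroup G) P) ⊥ k) : Prop where
  cfg : Cfg S P
  hE : ∀ v ∈ zl (S : Subgroup G) P, v ∈ o2 (CC (S : Subgroup G)) ↔ ∀ i, M.e v i 1 = 0

namespace CaseQ

variable {M : NatK F (S : Subgroup G) P (zl (S : Subgroup G) P) ⊥ k} (h : CaseQ M)
include h

theorem amb : Amb (S : Subgroup G) P (zl (S : Subgroup G) P) := amb_of_loc h.cfg.ctx.char2 S h.cfg.loc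

theorem am : Am (CC (S : Subgroup G)) (zl (S : Subgroup G) P) :=
  ⟨h.cfg.V_le_CC, h.cfg.V_comm, h.cfg.V_sq, h.cfg.Q_norm_V⟩

theorem Q_le_P {f : G} (hf : f ∈ o2 (CC (S : Subgroup G))) : f ∈ P := h.cfg.S_le (h.cfg.Q_le_S hf)

theorem comm_mem {f v : G} (hf : f ∈ o2 (CC (S : Subgroup G))) (hv : v ∈ zl (S : Subgroup G) P) :
    f * v * f⁻¹ * v⁻¹ ∈ zl (S : Subgroup G) P ⊓ o2 (CC (S : Subgroup G)) := by
  have := comm_mem_inf h.cfg.Q_norm_V (h.cfg.V_le_CC.trans (le_normalizer_o2 _)) hf hv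
  rwa [inf_comm] at this

theorem snd {f v : G} (hf : f ∈ o2 (CC (S : Subgroup G))) (hv : v ∈ zl (S : Subgroup G) P) (i : Fin k) :
    M.e (f * v * f⁻¹) i 1 = M.e v i 1 := by
  have h1 := h.comm_mem hf hv
  have h2 := (h.hE _ h1.1).1 h1.2 i
  rw [M.mul _ (h.amb.conj_mem (h.Q_le_P hf) hv) _ (inv_mem hv), e_inv M hv, Pi.add_apply, Pi.neg_apply,
    Pi.add_apply, Pi.neg_apply, add_neg_eq_zero] at h2
  exact h2

/-- `Q` fixes the summands -/
theorem mv {f : G} (hf : f ∈ o2 (CC (S : Subgroup G))) : Mv M f 1 := by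
  obtain ⟨σ, hσ⟩ := M.perm f (h.Q_le_P hf)
  have h1 : σ = 1 := by
    ext1 i
    by_contra hne
    have hne' : σ i ≠ i := hne
    -- the vector at `σ i`
    have h2 := h.snd hf (em_mem M (σ i) ![0, 1]) (σ i)
    have h3 := (hσ _ (em_mem M (σ i) ![0, 1]) i).2 (e_em_ne M hne'.symm _)
    rw [h3, e_em_self] at h2
    exact zero_ne_one h2
  rw [← h1]
  exact hσ

theorem e_conj {f v : G} (hf : f ∈ o2 (CC (S : Subgroup G))) (hv : v ∈ zl (S : Subgroup G) P) (i : Fin k) :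
    M.e (f * v * f⁻¹) i = ph M f i i (M.e v i) :=
  NSix.e_conj h.amb (h.Q_le_P hf) (h.mv hf) hv i

theorem ph_snd {f : G} (hf : f ∈ o2 (CC (S : Subgroup G))) (i : Fin k) (x : Fin 2 → F) :
    ph M f i i x 1 = x 1 := by
  rw [ph, h.snd hf (em_mem M i x), e_em_self]

theorem ph_smul {f : G} (hf : f ∈ o2 (CC (S : Subgroup G))) (i : Fin k) (c : F) (x : Fin 2 → F) :
    ph M f i i (c • x) = c • ph M f i i x := by
  obtain ⟨τ, hτ⟩ := exists_semi h.amb (h.Q_le_P hf) (h.mv hf) i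
  have hτ' : ∀ (c : F) x, ph M f i i (c • x) = τ c • ph M f i i x := hτ
  have h1 : ∀ c, τ c = c := by
    intro c
    have h2 := congrFun (hτ' c ![0, 1]) 1
    rw [h.ph_snd hf, Pi.smul_apply, Pi.smul_apply, h.ph_snd hf] at h2
    simpa using h2.symm
  rw [hτ', h1]

/-- `f` on the line -/
theorem ph_line {f : G} (hf : f ∈ o2 (CC (S : Subgroup G))) (i : Fin k) : ph M f i i ![1, 0] = ![1, 0] := by
  have hz : ph M f i i ![1, 0] 1 = 0 := by rw [h.ph_snd hf]; rfl
  obtain ⟨a, ha⟩ : ∃ a, ph M f i i ![1, 0] = ![a, 0] := by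
    refine ⟨ph M f i i ![1, 0] 0, ?_⟩
    ext j
    fin_cases j
    · rfl
    · exact hz
  have h1 : ∀ c : F, f * em M i ![c, 0] * f⁻¹ = em M i ![a * c, 0] := by
    intro c
    apply inj M (h.amb.conj_mem (h.Q_le_P hf) (em_mem M i _)) (em_mem M i _)
    funext j
    by_cases hj : j = i
    · rw [hj, h.e_conj hf (em_mem M i _), e_em_self, e_em_self]
      have e1 : (![c, 0] : Fin 2 → F) = c • ![1, 0] := by simp
      rw [e1, h.ph_smul hf, ha]
      simp [mul_comm]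
    · rw [e_em_ne M hj]
      exact (h.mv hf _ (em_mem M i _) j).2 (e_em_ne M hj _)
  have h2 : ∀ m : ℕ, f ^ m * em M i ![1, 0] * (f ^ m)⁻¹ = em M i ![a ^ m, 0] := by
    intro m
    induction m with
    | zero => simp
    | succ m ih =>
      have e1 : f ^ (m + 1) * em M i ![1, 0] * (f ^ (m + 1))⁻¹ =
          f * (f ^ m * em M i ![1, 0] * (f ^ m)⁻¹) * f⁻¹ := by rw [pow_succ']; group
      rw [e1, ih, h1, pow_succ']
  obtain ⟨n, hn⟩ := (o2_isPGroup (CC (S : Subgroup G))) ⟨f, hf⟩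
  have hn' : f ^ 2 ^ n = 1 := congrArg Subtype.val hn
  have h3 := h2 (2 ^ n)
  rw [hn', one_mul, inv_one, mul_one] at h3
  have h4 := congrArg (fun v => M.e v i 0) h3
  simp only [e_em_self] at h4
  have h5 : a ^ 2 ^ n = 1 := by simpa using h4.symm
  have h6 : (a - 1) ^ 2 ^ n = 0 := by
    have : Fact (Nat.Prime 2) := ⟨Nat.prime_two⟩
    rw [sub_pow_char_pow, h5, one_pow, sub_self]
  have h7 : a = 1 := sub_eq_zero.1 (eq_zero_of_pow_eq_zero h6)
  rw [ha, h7]

/-- the coordinate `ν_i` -/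
noncomputable def nu (M : NatK F (S : Subgroup G) P (zl (S : Subgroup G) P) ⊥ k) (i : Fin k) (f : G) : F :=
  ph M f i i ![0, 1] 0

/-- **the action of `Q` on `V`** -/
theorem act {f v : G} (hf : f ∈ o2 (CC (S : Subgroup G))) (hv : v ∈ zl (S : Subgroup G) P) (i : Fin k) :
    M.e (f * v * f⁻¹) i = ![M.e v i 0 + nu M i f * M.e v i 1, M.e v i 1] := by
  rw [h.e_conj hf hv]
  have e1 : M.e v i = M.e v i 0 • ![1, 0] + M.e v i 1 • ![0, 1] := by
    ext j
    fin_cases j <;> simp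
  have e2 : ph M f i i ![0, 1] = ![nu M i f, 1] := by
    ext j
    fin_cases j
    · rfl
    · exact h.ph_snd hf i _
  conv_lhs => rw [e1]
  rw [ph_add h.amb (h.Q_le_P hf), h.ph_smul hf, h.ph_smul hf, h.ph_line hf, e2]
  ext j
  fin_cases j
  · simp [mul_comm]
  · simp

omit h in
theorem vec_eq {x : Fin 2 → F} (hx : x 1 = 0) : x = ![x 0, 0] := by
  ext j
  fin_cases j
  · rfl
  · exact hx

theorem nu_mul {w f : G} (hw : w ∈ o2 (CC (S : Subgroup G))) (hf : f ∈ o2 (CC (S : Subgroup G))) (i : Fin k) :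
    nu M i (w * f) = nu M i w + nu M i f := by
  have hv := em_mem M i ![0, 1]
  have e1 : w * f * em M i ![0, 1] * (w * f)⁻¹ = w * (f * em M i ![0, 1] * f⁻¹) * w⁻¹ := by group
  have h1 := h.act hw (h.amb.conj_mem (h.Q_le_P hf) hv) i
  rw [← e1, h.act hf hv i, e_em_self] at h1
  have h2 := congrFun h1 0
  simp only [Matrix.cons_val_zero, Matrix.cons_val_one, mul_one, zero_add] at h2
  have h3 : nu M i (w * f) = M.e (w * f * em M i ![0, 1] * (w * f)⁻¹) i 0 := rfl
  rw [h3, h2, add_comm]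

/-- `V ∩ Q ≤ Z(Q)` -/
theorem cent {e w : G} (he : e ∈ zl (S : Subgroup G) P ⊓ o2 (CC (S : Subgroup G)))
    (hw : w ∈ o2 (CC (S : Subgroup G))) : w * e = e * w := by
  have h0 := (h.hE e he.1).1 he.2
  have h1 : w * e * w⁻¹ = e := by
    apply inj M (h.amb.conj_mem (h.Q_le_P hw) he.1) he.1
    funext i
    rw [h.act hw he.1 i, h0 i, mul_zero, add_zero]
    exact (vec_eq (h0 i)).symm
  calc w * e = w * e * w⁻¹ * w := by group
    _ = e * w := by rw [h1]

theorem em_Q (i : Fin k) (x : F) : em M i ![x, 0] ∈ o2 (CC (S : Subgroup G)) := by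
  refine (h.hE _ (em_mem M i _)).2 fun j => ?_
  by_cases hj : j = i
  · rw [hj, e_em_self]; rfl
  · rw [e_em_ne M hj]; rfl

/-- the datum of `Spread.lean` -/
noncomputable def sp (i : Fin k) :
    Sp F (zl (S : Subgroup G) P) (o2 (CC (S : Subgroup G))) (fac M {i}) where
  l x := em M i ![x, 0]
  br v := M.e v i 1
  nu := nu M i
  UV := fac_le M _
  l_add x y := by
    rw [← em_add]
    congr 1
    ext j
    fin_cases j <;> simp
  l_one x hx := by
    have h1 := congrArg (fun v => M.e v i 0) hx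
    simp only [e_em_self, e_one] at h1
    simpa using h1
  l_U x := em_fac M i _
  l_Q x := h.em_Q i x
  br_surj a := ⟨em M i ![0, a], em_fac M i _, by rw [e_em_self]; rfl⟩
  nu_mul w hw f hf := h.nu_mul hw hf i
  act u hu w hw := by
    have huV := hu.1
    have h1 := h.amb.conj_mem (h.Q_le_P hw) (inv_mem huV)
    have e1 : u * w * u⁻¹ * w⁻¹ = u * (w * u⁻¹ * w⁻¹) := by group
    rw [e1]
    apply inj M (mul_mem huV h1) (em_mem M i _)
    rw [M.mul _ huV _ h1]
    funext j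
    rw [Pi.add_apply]
    by_cases hj : j = i
    · rw [hj, e_em_self, h.act hw (inv_mem huV), e_inv M huV]
      ext m
      fin_cases m
      · simp [CharTwo.neg_eq, mul_comm]
        rw [← add_assoc, CharTwo.add_self_eq_zero, zero_add]
      · simp
    · rw [e_em_ne M hj, hu.2 j hj, zero_add, h.act hw (inv_mem huV), e_inv M huV]
      ext m
      fin_cases m
      · simp [hu.2 j hj]
      · simp [hu.2 j hj]
  cent e he w hw := h.cent he hw

end CaseQ

end Cfsg.Agent.Omega.NO1.NSix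

end

section


/-!
# (N6) of THEOREM WR (#15037, helper675), step 2: `L_i ∩ D = 1`
-/

set_option autoImplicit false
set_option linter.unusedSectionVars false

namespace Cfsg.Agent.Omega.NO1.NSix

open Subgroup Cfsg Cfsg.Agent.ZN Cfsg.Agent.Omega.FFThm Cfsg.Agent.Omega.Half Cfsg.Agent.Omega.MinPar
open Cfsg.Agent.Omega.Half.NatA
open Cfsg.Agent.Omega.NoFF.LinesPlug (CC)
open Cfsg.Agent.Omega.NOne.Frame (norm_mem mem_conj' X)
open Cfsg.Agent.MinSimple.VModule (o2_isPGroup)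
open scoped Pointwise

universe u

variable {G : Type u} [Group G] [Finite G] {S : Sylow 2 G} {P : Subgroup G}
variable {F : Type} [Field F] [Finite F] [CharP F 2] {k : ℕ}

theorem em_line_add (M : NatK F (S : Subgroup G) P (zl (S : Subgroup G) P) ⊥ k) (i : Fin k) (x y : F) :
    em M i ![x + y, 0] = em M i ![x, 0] * em M i ![y, 0] := by
  rw [← em_add]
  congr 1
  ext j
  fin_cases j <;> simp

namespace CaseQ

variable {M : NatK F (S : Subgroup G) P (zl (S : Subgroup G) P) ⊥ k} (h : CaseQ M)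
include h

/-- **Step 2.** -/
theorem line_tri (hk : 2 ≤ k) (i : Fin k) {y : G} (hyX : y ∈ X (fac M {i}) y)
    (hX : ¬ IsPGroup 2 (X (fac M {i}) y))
    (hgen : ∀ e ∈ zl (S : Subgroup G) P ⊓ o2 (CC (S : Subgroup G)), ∃ x : F, em M i ![x, 0] * e⁻¹ ∈
      (zl (S : Subgroup G) P ⊓ o2 (CC (S : Subgroup G))) ⊓
        MulAut.conj y • (zl (S : Subgroup G) P ⊓ o2 (CC (S : Subgroup G)))) (x : F)
    (hx : em M i ![x, 0] ∈ MulAut.conj y • (zl (S : Subgroup G) P ⊓ o2 (CC (S : Subgroup G)))) : x = 0 := by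
  classical
  by_contra hx0
  set E := zl (S : Subgroup G) P ⊓ o2 (CC (S : Subgroup G)) with hEdef
  set D := E ⊓ MulAut.conj y • E with hDdef
  have hemE : ∀ (j : Fin k) (z : F), em M j ![z, 0] ∈ E := fun j z => ⟨em_mem M j _, h.em_Q j z⟩
  have hxD : em M i ![x, 0] ∈ D := ⟨hemE i x, hx⟩
  have hDV : D ≤ zl (S : Subgroup G) P := inf_le_left.trans inf_le_left
  -- every line meets `D`
  have hz : ∀ j : Fin k, ∃ z : F, z ≠ 0 ∧ em M j ![z, 0] ∈ D := by
    intro j
    by_contra hno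
    push Not at hno
    have hex : ∀ z : F, ∃ ξ : F, em M i ![ξ, 0] * (em M j ![z, 0])⁻¹ ∈ D := fun z => hgen _ (hemE j z)
    choose ξ hξ using hex
    let f : F × Bool → F := fun p => ξ p.1 + if p.2 then x else 0
    have hb : ∀ b : Bool, em M i ![if b then x else 0, 0] ∈ D := by
      intro b
      cases b
      · have e1 : (![if false = true then x else 0, 0] : Fin 2 → F) = 0 := by
          ext m
          fin_cases m <;> simp
        rw [e1, em_zero]
        exact one_mem D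
      · exact hxD
    have hinj : Function.Injective f := by
      rintro ⟨z, b⟩ ⟨z', b'⟩ heq
      have h1 : ξ z + (if b then x else 0) = ξ z' + (if b' then x else 0) := heq
      have h2 : em M i ![ξ z, 0] * em M i ![if b then x else 0, 0] =
          em M i ![ξ z', 0] * em M i ![if b' then x else 0, 0] := by
        rw [← em_line_add, ← em_line_add, h1]
      have h3 : em M j ![z, 0] * (em M j ![z', 0])⁻¹ ∈ D := by
        have e1 : em M j ![z, 0] * (em M j ![z', 0])⁻¹ =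
            (em M i ![ξ z, 0] * (em M j ![z, 0])⁻¹)⁻¹ * (em M i ![ξ z, 0] * (em M i ![ξ z', 0])⁻¹) *
              (em M i ![ξ z', 0] * (em M j ![z', 0])⁻¹) := by group
        rw [e1]
        refine mul_mem (mul_mem (inv_mem (hξ z)) ?_) (hξ z')
        have h4 : em M i ![ξ z, 0] = em M i ![ξ z', 0] * em M i ![if b' then x else 0, 0] *
            (em M i ![if b then x else 0, 0])⁻¹ := by rw [← h2]; group
        have hc : em M i ![ξ z', 0] * (em M i ![if b' then x else 0, 0] * (em M i ![if b then x else 0, 0])⁻¹) =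
            em M i ![if b' then x else 0, 0] * (em M i ![if b then x else 0, 0])⁻¹ * em M i ![ξ z', 0] :=
          h.amb.comm _ (em_mem M i _) _ (mul_mem (em_mem M i _) (inv_mem (em_mem M i _)))
        rw [h4, mul_assoc (em M i ![ξ z', 0]), hc, mul_inv_cancel_right]
        exact mul_mem (hb b') (inv_mem (hb b))
      have h5 : z = z' := by
        by_contra hne
        refine hno (z - z') (sub_ne_zero.2 hne) ?_
        have e1 : em M j ![z - z', 0] = em M j ![z, 0] * (em M j ![z', 0])⁻¹ := by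
          rw [eq_mul_inv_iff_mul_eq, ← em_line_add, sub_add_cancel]
        rwa [e1]
      subst h5
      have h6 := add_left_cancel h1
      have h7 : b = b' := by
        cases b <;> cases b'
        · rfl
        · exact absurd h6.symm hx0
        · exact absurd h6 hx0
        · rfl
      rw [h7]
    have hle := Nat.card_le_card_of_injective f hinj
    rw [Nat.card_prod] at hle
    have h2 : Nat.card Bool = 2 := by simp
    rw [h2] at hle
    have h3 : 0 < Nat.card F := Nat.card_pos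
    omega
  choose z hz0 hzD using hz
  obtain ⟨B₀, hB₀, hi⟩ := exists_blk S M h.amb hk i
  have hB := hB₀.compl
  obtain ⟨w, hw, hwe⟩ := M.surj fun j => if j ∈ B₀ᶜ then ![z j, 0] else 0
  have hwB : w ∈ fac M B₀ᶜ := ⟨hw, fun j hj => by rw [hwe]; exact if_neg hj⟩
  have hfull : ∀ j ∈ B₀ᶜ, M.e w j ≠ 0 := by
    intro j hj h0
    rw [hwe] at h0
    simp only [if_pos hj] at h0
    exact hz0 j (congrFun h0 0)
  have hwD : w ∈ D := by
    refine mem_of_em M hw fun j => ?_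
    rw [hwe]
    by_cases hj : j ∈ B₀ᶜ
    · simp only [if_pos hj]
      exact hzD j
    · simp only [if_neg hj]
      rw [em_zero]
      exact one_mem D
  have happ := (app_nat h.cfg.ctx.char2 S h.amb hB hwB hfull).1
  rw [compl_compl] at happ
  have hU : fac M {i} ≤ fac M B₀ := fun v hv => ⟨hv.1, fun j hj => hv.2 j fun h1 => hj (by rw [h1]; exact hi)⟩
  have hXC : X (fac M {i}) y ≤ centralizer ({w} : Set G) := by
    intro t ht
    rw [mem_centralizer_singleton_iff]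
    exact NOne.NearFF.cent_of_fr (Q := o2 (CC (S : Subgroup G))) h.cfg.V_comm t
      (sup_le_sup (fac_le M _) (NoFF.Basic.conj_le_iff.2 (fac_le M _)) ht) w hwD
  apply hX
  refine (o2_isPGroup (centralizer ({w} : Set G))).to_le (sup_le (hU.trans happ) ?_)
  intro t ht
  obtain ⟨a, ha, rfl⟩ := mem_conj'.1 ht
  exact norm_mem (MinSimple.VModule.le_normalizer_o2 _ (hXC hyX)) (happ (hU ha))

/-- **Steps 1-4 of (N6)** for the `i`-th summand. -/
theorem exists_D (hk : 2 ≤ k) (i : Fin k) :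
    ∃ D ≤ zl (S : Subgroup G) P ⊓ o2 (CC (S : Subgroup G)),
      (∀ z ∈ zl (S : Subgroup G) P ⊓ o2 (CC (S : Subgroup G)), (∀ c ∈ CC (S : Subgroup G), c * z = z * c) → z ∈ D) ∧
      (∀ e ∈ zl (S : Subgroup G) P ⊓ o2 (CC (S : Subgroup G)), ∃ x : F, em M i ![x, 0] * e ∈ D) ∧
      (∀ x : F, em M i ![x, 0] ∈ D → x = 0) ∧
      ∀ a : F, a ≠ 0 → ∃ ρ ∈ CC (S : Subgroup G), (∀ d ∈ D, ρ * d * ρ⁻¹ = d) ∧
        ∀ x : F, ρ * em M i ![x, 0] * ρ⁻¹ = em M i ![a * x, 0] := by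
  refine spread h.am (h.sp i) (fun hle => ?_) fun y _ hyX hX hgen x hx => h.line_tri hk i hyX hX hgen x hx
  have h1 := (h.hE _ (em_mem M i ![0, 1])).1 (hle (em_fac M i _)) i
  rw [e_em_self] at h1
  exact one_ne_zero h1

end CaseQ

end Cfsg.Agent.Omega.NO1.NSix

end

section


/-!
# A 2-group `B / K` of automizers is conjugate into a Sylow group (project OMEGA, helper675)

`K ≤ B ≤ N`, `K` normal in `N`, `b² ∈ K` for `b ∈ B`, `S ≤ N` a Sylow 2-subgroup of `G`: there is `n ∈ N` with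
`n b n⁻¹ ∈ S K` for all `b ∈ B`.
-/

set_option autoImplicit false

namespace Cfsg.Agent.Omega.NO1.NSix

open Subgroup
open scoped Pointwise

/-- A Sylow subgroup covers a quotient of `2`-power exponent. -/
theorem sylow_cover {B : Type*} [Group B] [Finite B] (R : Sylow 2 B) (K : Subgroup B) [K.Normal]
    (hsq : ∀ b : B, b * b ∈ K) (b : B) : ∃ r ∈ R, r⁻¹ * b ∈ K := by
  have : Fact (Nat.Prime 2) := ⟨Nat.prime_two⟩
  have hq : IsPGroup 2 (B ⧸ K) := by
    intro x
    obtain ⟨b, rfl⟩ := QuotientGroup.mk'_surjective K x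
    refine ⟨1, ?_⟩
    rw [pow_one, pow_two, ← map_mul]
    exact (QuotientGroup.eq_one_iff _).2 (hsq b)
  let R' : Sylow 2 (B ⧸ K) := R.mapSurjective (QuotientGroup.mk'_surjective K)
  have hR' : (R' : Subgroup (B ⧸ K)) = ⊤ := by
    have h1 : IsPGroup 2 (⊤ : Subgroup (B ⧸ K)) := hq.to_subgroup ⊤
    exact (R'.is_maximal' h1 le_top).symm
  have h2 : QuotientGroup.mk' K b ∈ (R' : Subgroup (B ⧸ K)) := by rw [hR']; trivial
  obtain ⟨r, hr, hrb⟩ := h2
  refine ⟨r, hr, ?_⟩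
  rw [← QuotientGroup.eq]
  exact hrb

theorem exists_conj_mem {G : Type*} [Group G] [Finite G] (S : Sylow 2 G) {N K B : Subgroup G}
    (hSN : (S : Subgroup G) ≤ N) (hKN : N ≤ normalizer (K : Set G)) (hBN : B ≤ N)
    (hsq : ∀ b ∈ B, b * b ∈ K) :
    ∃ n ∈ N, ∀ b ∈ B, ∃ s ∈ S, ∃ κ ∈ K, n * b * n⁻¹ = s * κ := by
  have : Fact (Nat.Prime 2) := ⟨Nat.prime_two⟩
  obtain ⟨R⟩ : Nonempty (Sylow 2 B) := inferInstance
  have hKB : (K.subgroupOf B).Normal := by
    constructor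
    rintro ⟨κ, hκ⟩ h1 ⟨b, hb⟩
    rw [mem_subgroupOf] at h1 ⊢
    exact (mem_normalizer_iff.1 (hKN (hBN hb)) κ).1 h1
  -- conjugate `R` into `S` inside `N`
  let Rn : Subgroup N := ((R : Subgroup B).map B.subtype).subgroupOf N
  have hRn : IsPGroup 2 Rn := by
    have h1 : IsPGroup 2 ((R : Subgroup B).map B.subtype) := R.isPGroup'.map _
    exact h1.comap_of_injective N.subtype N.subtype_injective
  obtain ⟨R₁, hR₁⟩ := hRn.exists_le_sylow
  obtain ⟨n, hn⟩ := MulAction.exists_smul_eq N R₁ (S.subtype hSN)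
  refine ⟨n, n.2, fun b hb => ?_⟩
  obtain ⟨r, hr, hrb⟩ := sylow_cover R (K.subgroupOf B) (fun b => by
    rw [mem_subgroupOf]; exact hsq b b.2) ⟨b, hb⟩
  rw [mem_subgroupOf] at hrb
  have hr1 : (⟨(r : G), hBN r.2⟩ : N) ∈ Rn := ⟨r, hr, rfl⟩
  have hr2 : n * ⟨(r : G), hBN r.2⟩ * n⁻¹ ∈ n • R₁ := by
    have : n * ⟨(r : G), hBN r.2⟩ * n⁻¹ ∈ MulAut.conj n • (R₁ : Subgroup N) :=
      Subgroup.smul_mem_pointwise_smul _ _ _ (hR₁ hr1)
    exact this
  rw [hn] at hr2
  have hr3 : (n : G) * r * (n : G)⁻¹ ∈ (S : Subgroup G) := hr2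
  refine ⟨_, hr3, n * ((r : G)⁻¹ * b) * (n : G)⁻¹, ?_, by group⟩
  exact (mem_normalizer_iff.1 (hKN n.2) _).1 hrb

end Cfsg.Agent.Omega.NO1.NSix

end

section


/-!
# Semilinear monomial involutions with the same large fixed space are equal

Project OMEGA, THEOREM WR (N6), step 6 (bb OMEGA #15037).
-/

set_option autoImplicit false

namespace Cfsg.Agent.Omega.NO1.NSix

/-- `s` is additive and monomial: it sends the `i`-th axis to the `σ i`-th by a semilinear map. -/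
structure Mono {F : Type} [Field F] {k : ℕ} (s : (Fin k → F) → Fin k → F) : Prop where
  add : ∀ x y, s (x + y) = s x + s y
  mono : ∃ σ : Equiv.Perm (Fin k), ∀ i, ∃ (a : F) (τ : F ≃+* F), a ≠ 0 ∧ ∀ x, s x (σ i) = a * τ (x i)

variable {F : Type} [Field F] {k : ℕ}

/-- an additive involution in characteristic 2 has a nonzero fixed point -/
theorem exists_fix [CharP F 2] {f : F → F} (hadd : ∀ x y, f (x + y) = f x + f y) (h2 : ∀ t, f (f t) = t) :
    ∃ t, t ≠ 0 ∧ f t = t := by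
  by_cases h : f 1 = 1
  · exact ⟨1, one_ne_zero, h⟩
  · refine ⟨1 + f 1, ?_, ?_⟩
    · intro h0
      apply h
      have h1 : (1 : F) + 1 = 0 := CharTwo.add_self_eq_zero 1
      linear_combination h0 - h1
    · rw [hadd, h2, add_comm]

/-- an involutory automorphism of a field is determined by its fixed points -/
theorem aut_eq {τ τ' : F ≃+* F} (h2 : ∀ y, τ (τ y) = y) (hfix : ∀ y, τ y = y ↔ τ' y = y) (y : F) :
    τ' y = τ y := by
  have h1 : τ' (y + τ y) = y + τ y := by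
    rw [← hfix, map_add, h2, add_comm]
  have h3 : τ' (y * τ y) = y * τ y := by
    rw [← hfix, map_mul, h2, mul_comm]
  rw [map_add] at h1
  rw [map_mul] at h3
  have h4 : (τ' y - y) * (τ' y - τ y) = 0 := by
    linear_combination τ' y * h1 - h3
  rcases mul_eq_zero.mp h4 with h5 | h5
  · have h6 := sub_eq_zero.mp h5
    have h7 := (hfix y).mpr h6
    rw [h6, h7]
  · exact sub_eq_zero.mp h5

/-- the case of an axis moved by `s` -/
theorem same_of_moved [Finite F] [CharP F 2] {s s' : (Fin k → F) → Fin k → F}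
    (h : Mono s) (h' : Mono s') (h2 : ∀ x, s (s x) = x) (h2' : ∀ x, s' (s' x) = x)
    (hc : ∀ x, s x = x ↔ s' x = x)
    (hi : Nat.card F ^ k ≤ Nat.card F * Nat.card {x : Fin k → F // s x = x})
    {σ : Equiv.Perm (Fin k)} (hσ : ∀ i, ∃ (a : F) (τ : F ≃+* F), a ≠ 0 ∧ ∀ x, s x (σ i) = a * τ (x i))
    {j : Fin k} (hj : σ j ≠ j) : s = s' := by
  classical
  obtain ⟨σ', hσ'⟩ := h'.mono
  choose a τ ha hs using hσ
  choose a' τ' ha' hs' using hσ'
  have hone : ∀ i m : Fin k, ∀ t : F, i ≠ m → (Pi.single i t : Fin k → F) m = 0 := fun i m t him => by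
    rw [Pi.single_apply, if_neg (Ne.symm him)]
  -- the values on the axes
  have hval : ∀ i t, s (Pi.single i t) = Pi.single (σ i) (a i * τ i t) := by
    intro i t
    funext m
    obtain ⟨l, rfl⟩ := σ.surjective m
    rw [hs]
    by_cases hl : l = i
    · subst hl
      rw [Pi.single_eq_same, Pi.single_eq_same]
    · rw [hone i l t (Ne.symm hl), map_zero, mul_zero, hone _ _ _ (fun e => hl (σ.injective e).symm)]
  have hval' : ∀ i t, s' (Pi.single i t) = Pi.single (σ' i) (a' i * τ' i t) := by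
    intro i t
    funext m
    obtain ⟨l, rfl⟩ := σ'.surjective m
    rw [hs']
    by_cases hl : l = i
    · subst hl
      rw [Pi.single_eq_same, Pi.single_eq_same]
    · rw [hone i l t (Ne.symm hl), map_zero, mul_zero, hone _ _ _ (fun e => hl (σ'.injective e).symm)]
  -- `s` has no fixed point on the axis
  have hfix : ∀ t, s (Pi.single j t) = Pi.single j t → t = 0 := by
    intro t ht
    rw [hval] at ht
    have h1 := congrFun ht (σ j)
    rw [Pi.single_eq_same, hone _ _ _ hj.symm] at h1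
    have h3 := (mul_eq_zero.mp h1).resolve_left (ha j)
    exact (map_eq_zero (τ j)).mp h3
  -- `s'` moves the axis
  have hj' : σ' j ≠ j := by
    intro e
    have h3 : ∀ t, s' (Pi.single j t) = Pi.single j (a' j * τ' j t) := fun t => by rw [hval', e]
    obtain ⟨t, ht0, ht⟩ := exists_fix (f := fun t => a' j * τ' j t)
      (fun x y => by rw [map_add, mul_add]) (fun t => by
        have h4 := h2' (Pi.single j t)
        rw [h3, h3] at h4
        exact Pi.single_injective j h4)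
    apply ht0
    apply hfix
    rw [hc, h3]
    have ht' : a' j * τ' j t = t := ht
    rw [ht']
  -- they agree on the axis
  have hax : ∀ t, s' (Pi.single j t) = s (Pi.single j t) := by
    have h3 : ∀ t, s' (Pi.single j t) + s' (s (Pi.single j t)) = Pi.single j t + s (Pi.single j t) := by
      intro t
      rw [← h'.add, ← hc, h.add, h2, add_comm]
    have h4 : ∀ t, a' j * τ' j t = (s (Pi.single j t)) (σ' j) := by
      intro t
      have h5 := congrFun (h3 t) (σ' j)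
      rw [Pi.add_apply, Pi.add_apply, hval', hval, hval', Pi.single_eq_same,
        hone (σ' (σ j)) (σ' j) _ (fun e => hj (σ'.injective e)), hone j (σ' j) _ hj'.symm, add_zero,
        zero_add] at h5
      rw [hval]
      exact h5
    have h6 : σ' j = σ j := by
      by_contra hne
      have h7 := h4 1
      rw [hval, hone _ _ _ (Ne.symm hne), map_one, mul_one] at h7
      exact ha' j h7
    intro t
    rw [hval', h4 t, h6, hval, Pi.single_eq_same]
  -- `F ^ k` is the sum of the fixed space and the axis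
  let S : (Fin k → F) →+ (Fin k → F) := AddMonoidHom.mk' s h.add
  have hS : ∀ x, S x = s x := fun x => rfl
  let φ : {x : Fin k → F // s x = x} × F → (Fin k → F) := fun p => (p.1 : Fin k → F) + (Pi.single j p.2 : Fin k → F)
  have hφ : Function.Injective φ := by
    rintro ⟨⟨c, hc1⟩, t⟩ ⟨⟨c', hc1'⟩, t'⟩ hcc
    have hcc' : c + Pi.single j t = c' + Pi.single j t' := hcc
    have h3 : (Pi.single j (t - t') : Fin k → F) = c' - c := by
      have : (Pi.single j (t - t') : Fin k → F) = Pi.single j t - Pi.single j t' := by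
        rw [← Pi.single_sub]
      rw [this]
      linear_combination hcc'
    have h4 : t - t' = 0 := by
      apply hfix
      rw [h3, ← hS, map_sub, hS, hS, hc1, hc1']
    have h5 : t = t' := sub_eq_zero.mp h4
    subst h5
    have h6 : c = c' := add_right_cancel hcc'
    subst h6
    rfl
  have hcard : Nat.card (Fin k → F) ≤ Nat.card ({x : Fin k → F // s x = x} × F) := by
    rw [Nat.card_prod, Nat.card_fun, Nat.card_fin, mul_comm]
    exact hi
  have hsurj : Function.Surjective φ :=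
    ((Nat.bijective_iff_injective_and_card φ).mpr
      ⟨hφ, le_antisymm (Nat.card_le_card_of_injective φ hφ) hcard⟩).2
  funext x
  obtain ⟨⟨⟨c, hc1⟩, t⟩, rfl⟩ := hsurj x
  change s (c + Pi.single j t) = s' (c + Pi.single j t)
  rw [h.add, h'.add, hax, hc1, (hc c).mp hc1]

/-- **Step 6 of (N6)** -/
theorem same {F : Type} [Field F] [Finite F] [CharP F 2] {k : ℕ} {s s' : (Fin k → F) → Fin k → F}
    (h : Mono s) (h' : Mono s') (h2 : ∀ x, s (s x) = x) (h2' : ∀ x, s' (s' x) = x)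
    (hc : ∀ x, s x = x ↔ s' x = x)
    (hi : Nat.card F ^ k ≤ Nat.card F * Nat.card {x : Fin k → F // s x = x}) : s = s' := by
  classical
  obtain ⟨σ, hσ⟩ := h.mono
  by_cases hm : ∃ j, σ j ≠ j
  · obtain ⟨j, hj⟩ := hm
    exact same_of_moved h h' h2 h2' hc hi hσ hj
  obtain ⟨σ', hσ'⟩ := h'.mono
  by_cases hm' : ∃ j, σ' j ≠ j
  · obtain ⟨j, hj⟩ := hm'
    refine (same_of_moved h' h h2' h2 (fun x => (hc x).symm) ?_ hσ' hj).symm
    have h3 : Nat.card {x : Fin k → F // s' x = x} = Nat.card {x : Fin k → F // s x = x} :=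
      Nat.card_congr (Equiv.subtypeEquivRight fun x => (hc x).symm)
    rw [h3]; exact hi
  push Not at hm hm'
  choose a τ ha hs using hσ
  choose a' τ' ha' hs' using hσ'
  have hs1 : ∀ i x, s x i = a i * τ i (x i) := fun i x => by
    have := hs i x
    rwa [hm i] at this
  have hs1' : ∀ i x, s' x i = a' i * τ' i (x i) := fun i x => by
    have := hs' i x
    rwa [hm' i] at this
  -- on one axis
  have key : ∀ i t, a i * τ i t = a' i * τ' i t := by
    intro i
    have hone : ∀ m : Fin k, ∀ t : F, i ≠ m → (Pi.single i t : Fin k → F) m = 0 := fun m t him => by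
      rw [Pi.single_apply, if_neg (Ne.symm him)]
    have hval : ∀ t, s (Pi.single i t) = Pi.single i (a i * τ i t) := by
      intro t
      funext m
      rw [hs1]
      by_cases hmi : m = i
      · subst hmi
        rw [Pi.single_eq_same, Pi.single_eq_same]
      · rw [hone m t (Ne.symm hmi), map_zero, mul_zero, hone m _ (Ne.symm hmi)]
    have hval' : ∀ t, s' (Pi.single i t) = Pi.single i (a' i * τ' i t) := by
      intro t
      funext m
      rw [hs1']
      by_cases hmi : m = i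
      · subst hmi
        rw [Pi.single_eq_same, Pi.single_eq_same]
      · rw [hone m t (Ne.symm hmi), map_zero, mul_zero, hone m _ (Ne.symm hmi)]
    have hf2 : ∀ t, a i * τ i (a i * τ i t) = t := by
      intro t
      have h4 := h2 (Pi.single i t)
      rw [hval, hval] at h4
      exact Pi.single_injective i h4
    have hcc : ∀ t, a i * τ i t = t ↔ a' i * τ' i t = t := by
      intro t
      have h4 := hc (Pi.single i t)
      rw [hval, hval'] at h4
      exact ⟨fun e => Pi.single_injective i (h4.mp (by rw [e])), fun e => Pi.single_injective i (h4.mpr (by rw [e]))⟩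
    obtain ⟨x₀, hx0, hx⟩ := exists_fix (f := fun t => a i * τ i t) (fun x y => by rw [map_add, mul_add]) hf2
    have hx1 : a i * τ i x₀ = x₀ := hx
    have hx2 : a' i * τ' i x₀ = x₀ := (hcc x₀).mp hx1
    have e1 : ∀ y, a i * τ i (y * x₀) = τ i y * x₀ := by
      intro y
      rw [map_mul]
      linear_combination τ i y * hx1
    have e2 : ∀ y, a' i * τ' i (y * x₀) = τ' i y * x₀ := by
      intro y
      rw [map_mul]
      linear_combination τ' i y * hx2
    have e3 : ∀ y, τ i (τ i y) = y := by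
      intro y
      have h4 := hf2 (y * x₀)
      rw [e1, e1] at h4
      exact mul_right_cancel₀ hx0 h4
    have e4 : ∀ y, τ i y = y ↔ τ' i y = y := by
      intro y
      have h4 := hcc (y * x₀)
      rw [e1, e2] at h4
      exact ⟨fun e => mul_right_cancel₀ hx0 (h4.mp (by rw [e])), fun e => mul_right_cancel₀ hx0 (h4.mpr (by rw [e]))⟩
    intro t
    have e5 : t = t / x₀ * x₀ := by rw [div_mul_cancel₀ _ hx0]
    rw [e5, e1, e2, aut_eq e3 e4]
  funext x i
  rw [hs1, hs1', key]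

end Cfsg.Agent.Omega.NO1.NSix

end

end

-- merged: Cfsg.Agent.Mrg.Omega.NO1.NSix.End
section

/-!
# (N6) of THEOREM WR (#15037, helper675), steps 5 and 6

`main` : `Cfg S P`, `M : NatK F S P V ⊥ k`, `k ≥ 2`, `|F| ≥ 4`, `V ∩ Q = {v | all second coordinates are 0}`
is impossible.
-/

set_option autoImplicit false
set_option linter.unusedSectionVars false

namespace Cfsg.Agent.Omega.NO1.NSix

open Subgroup Cfsg Cfsg.Agent.ZN Cfsg.Agent.Omega.FFThm Cfsg.Agent.Omega.Half Cfsg.Agent.Omega.MinPar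
open Cfsg.Agent.Omega.Half.NatA
open Cfsg.Agent.Omega.NoFF.LinesPlug (CC)
open Cfsg.Agent.Omega.NOne.Frame (norm_mem norm_mem' mem_conj' X)
open Cfsg.Agent.Omega.NatPair (ap ap_one ap_add ap_zero' ap_one')
open Cfsg.Agent.Lib.SL2Mat (mk mk_00 mk_01 mk_10 mk_11)
open scoped Pointwise

universe u

variable {G : Type u} [Group G] [Finite G] {S : Sylow 2 G} {P : Subgroup G}
variable {F : Type} [Field F] [Finite F] [CharP F 2] {k : ℕ}

/-- the subgroup `E = V ∩ Q` -/
abbrev EQ (S : Sylow 2 G) (P : Subgroup G) : Subgroup G := zl (S : Subgroup G) P ⊓ o2 (CC (S : Subgroup G))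

section coord

variable (M : NatK F (S : Subgroup G) P (zl (S : Subgroup G) P) ⊥ k)

/-- the element of `E` with first coordinates `x` -/
noncomputable def cE (x : Fin k → F) : G := (M.surj fun j => ![x j, 0]).choose

theorem cE_V (x : Fin k → F) : cE M x ∈ zl (S : Subgroup G) P := (M.surj fun j => ![x j, 0]).choose_spec.1

theorem e_cE (x : Fin k → F) : M.e (cE M x) = fun j => ![x j, 0] := (M.surj fun j => ![x j, 0]).choose_spec.2

theorem cE_add (x y : Fin k → F) : cE M (x + y) = cE M x * cE M y := by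
  apply inj M (cE_V M _) (mul_mem (cE_V M x) (cE_V M y))
  rw [M.mul _ (cE_V M x) _ (cE_V M y), e_cE, e_cE, e_cE]
  funext j
  rw [Pi.add_apply]
  ext m
  fin_cases m <;> simp

theorem cE_inj {x y : Fin k → F} (h : cE M x = cE M y) : x = y := by
  funext j
  have h1 := congrFun (congrFun (congrArg M.e h) j) 0
  rw [e_cE, e_cE] at h1
  simpa using h1

end coord

namespace CaseQ

variable {M : NatK F (S : Subgroup G) P (zl (S : Subgroup G) P) ⊥ k} (h : CaseQ M)
include h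

theorem cE_E (x : Fin k → F) : cE M x ∈ EQ S P := by
  refine ⟨cE_V M x, (h.hE _ (cE_V M x)).2 fun j => ?_⟩
  rw [e_cE]
  rfl

theorem cE_of {v : G} (hv : v ∈ EQ S P) : cE M (fun j => M.e v j 0) = v := by
  apply inj M (cE_V M _) hv.1
  rw [e_cE]
  funext j
  exact (vec_eq ((h.hE v hv.1).1 hv.2 j)).symm

/-- the action on the first coordinates -/
noncomputable def sm (M : NatK F (S : Subgroup G) P (zl (S : Subgroup G) P) ⊥ k) (g : G) (x : Fin k → F) :
    Fin k → F := fun j => M.e (g * cE M x * g⁻¹) j 0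

theorem cE_sm {g : G} (hg : g ∈ normalizer (EQ S P : Set G)) (x : Fin k → F) :
    cE M (sm M g x) = g * cE M x * g⁻¹ :=
  h.cE_of (norm_mem hg (h.cE_E x))

theorem S_le_N : (S : Subgroup G) ≤ normalizer (EQ S P : Set G) := by
  intro s hs
  have h1 := Cfg.P_norm_V S P (h.cfg.S_le hs)
  have h2 := MinSimple.VModule.le_normalizer_o2 _ (Cfg.S_le_CC S hs)
  rw [mem_normalizer_iff] at h1 h2 ⊢
  exact fun x => and_congr (h1 x) (h2 x)

theorem sm_add {g : G} (hg : g ∈ normalizer (EQ S P : Set G)) (x y : Fin k → F) :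
    sm M g (x + y) = sm M g x + sm M g y := by
  apply cE_inj M
  rw [h.cE_sm hg, cE_add, cE_add, h.cE_sm hg, h.cE_sm hg]
  group

/-- the elements of `S` act monomially -/
theorem mono {s : G} (hs : s ∈ S) : Mono (sm M s) := by
  refine ⟨h.sm_add (h.S_le_N hs), ?_⟩
  have hsP := h.cfg.S_le hs
  obtain ⟨σ, hσ⟩ := M.perm s hsP
  refine ⟨σ, fun i => ?_⟩
  obtain ⟨τ, hτ⟩ := exists_semi h.amb hsP hσ i
  have h1 : ph M s i (σ i) ![1, 0] 1 = 0 := by
    have h2 : s * em M i ![1, 0] * s⁻¹ ∈ EQ S P := norm_mem (h.S_le_N hs) ⟨em_mem M i _, h.em_Q i 1⟩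
    exact (h.hE _ h2.1).1 h2.2 (σ i)
  refine ⟨ph M s i (σ i) ![1, 0] 0, τ, fun h0 => ?_, fun x => ?_⟩
  · have h3 : ph M s i (σ i) ![1, 0] = 0 := by
      ext m
      fin_cases m
      · exact h0
      · exact h1
    have h4 := ph_inv h.amb hsP hσ i ![1, 0]
    have h5 := ph_inv h.amb hsP hσ i 0
    have h6 : ph M s i (σ i) 0 = 0 := by
      have := ph_add h.amb hsP i (σ i) (M := M) 0 0
      rw [add_zero] at this
      exact left_eq_add.1 this
    rw [h3, ← h6, h5] at h4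
    exact one_ne_zero (congrFun h4 0).symm
  · have h2 : sm M s x (σ i) = ph M s i (σ i) ![x i, 0] 0 := by
      rw [sm, NSix.e_conj h.amb hsP hσ (cE_V M x) i, e_cE]
    have e1 : (![x i, 0] : Fin 2 → F) = x i • ![1, 0] := by simp
    rw [h2, e1, hτ, Pi.smul_apply, smul_eq_mul, mul_comm]

/-- an element of `Z` has full support -/
theorem exists_z : ∃ z ∈ EQ S P, (∀ c ∈ CC (S : Subgroup G), c * z = z * c) ∧ ∀ i, M.e z i 0 ≠ 0 := by
  have hne := MinSimple.Basic.zc_ne_bot S.isPGroup' (h.cfg.ctx.sylow_ne_bot S)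
  obtain ⟨⟨z, hz⟩, hz1⟩ := ne_bot_iff_exists_ne_one.1 hne
  replace hz1 : z ≠ 1 := fun h1 => hz1 (Subtype.ext h1)
  have hzE := h.cfg.Z_le_E hz
  refine ⟨z, hzE, fun c hc => (mem_centralizer_iff.1 hc z hz).symm, fun i h0 => hz1 ?_⟩
  have h1 : ∀ i, M.e z i 1 = 0 := (h.hE z hzE.1).1 hzE.2
  apply eq_one M hzE.1
  funext j
  obtain ⟨t, ht, h2⟩ := M.trans i j
  have h3 := h2 z hzE.1
  have h4 : t * z * t⁻¹ = z := by
    rw [(MinSimple.VModule.mem_zc.1 hz).2.1 t ht, mul_inv_cancel_right]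
  rw [h4] at h3
  refine h3.2 ?_
  ext m
  fin_cases m
  · exact h0
  · exact h1 i

/-- the diagonal element `t_a` -/
theorem exists_diag (i : Fin k) {a : F} (ha : a ≠ 0) :
    ∃ t ∈ P, (∀ x, t * em M i ![x, 0] * t⁻¹ = em M i ![a * x, 0]) ∧
      ∀ d ∈ EQ S P, t * d * t⁻¹ = d * em M i ![(a + 1) * M.e d i 0, 0] := by
  classical
  obtain ⟨t, ht, htA, -⟩ := M.lift (Function.update 1 i (Lib.SL2Mat.dg a ha))
  have hti : ∀ v ∈ zl (S : Subgroup G) P, M.e (t * v * t⁻¹) i = ![a * M.e v i 0, a⁻¹ * M.e v i 1] := by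
    intro v hv
    rw [htA v hv i, Function.update_self]
    ext m
    fin_cases m
    · show ap (Lib.SL2Mat.dg a ha) (M.e v i) 0 = _
      rw [ap_zero', Lib.SL2Mat.dg_00, Lib.SL2Mat.dg_01]; simp
    · show ap (Lib.SL2Mat.dg a ha) (M.e v i) 1 = _
      rw [ap_one', Lib.SL2Mat.dg_10, Lib.SL2Mat.dg_11]; simp
  have htj : ∀ v ∈ zl (S : Subgroup G) P, ∀ j, j ≠ i → M.e (t * v * t⁻¹) j = M.e v j := by
    intro v hv j hj
    rw [htA v hv j, Function.update_of_ne hj, Pi.one_apply, ap_one]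
  refine ⟨t, ht, fun x => ?_, fun d hd => ?_⟩
  · apply inj M (h.amb.conj_mem ht (em_mem M i _)) (em_mem M i _)
    funext j
    by_cases hj : j = i
    · rw [hj, hti _ (em_mem M i _), e_em_self, e_em_self]
      simp
    · rw [htj _ (em_mem M i _) j hj, e_em_ne M hj, e_em_ne M hj]
  · have hd1 := (h.hE d hd.1).1 hd.2
    apply inj M (h.amb.conj_mem ht hd.1) (mul_mem hd.1 (em_mem M i _))
    rw [M.mul _ hd.1 _ (em_mem M i _)]
    funext j
    rw [Pi.add_apply]
    by_cases hj : j = i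
    · rw [hj, hti _ hd.1, e_em_self]
      ext m
      fin_cases m
      · simp only [Fin.zero_eta, Matrix.cons_val_zero, Pi.add_apply]
        have e1 : M.e d i 0 + (a + 1) * M.e d i 0 = a * M.e d i 0 + (M.e d i 0 + M.e d i 0) := by ring
        rw [e1, CharTwo.add_self_eq_zero, add_zero]
      · simp [hd1 i]
    · rw [htj _ hd.1 j hj, e_em_ne M hj, add_zero]

/-- `g` acts on `L_i` trivially and on `D` by `d ↦ d + κ d_i` -/
def IsTv (M : NatK F (S : Subgroup G) P (zl (S : Subgroup G) P) ⊥ k) (i : Fin k) (D : Subgroup G) (κ : F)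
    (g : G) : Prop :=
  (∀ d ∈ D, g * d * g⁻¹ = d * em M i ![κ * M.e d i 0, 0]) ∧ ∀ x : F, g * em M i ![x, 0] * g⁻¹ = em M i ![x, 0]

omit h in
theorem em_zero' (M : NatK F (S : Subgroup G) P (zl (S : Subgroup G) P) ⊥ k) (i : Fin k) :
    em M i ![0, 0] = 1 := by
  have e1 : (![0, 0] : Fin 2 → F) = 0 := by
    ext m
    fin_cases m <;> rfl
  rw [e1, em_zero]

omit h in
theorem em_eq_one (M : NatK F (S : Subgroup G) P (zl (S : Subgroup G) P) ⊥ k) (i : Fin k) {x : F}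
    (hx : em M i ![x, 0] = 1) : x = 0 := by
  have h1 := congrArg (fun v => M.e v i 0) hx
  simp only [e_em_self, e_one] at h1
  simpa using h1

omit h in
theorem em_inv (M : NatK F (S : Subgroup G) P (zl (S : Subgroup G) P) ⊥ k) (i : Fin k) (x : F) :
    (em M i ![x, 0])⁻¹ = em M i ![x, 0] := by
  rw [inv_eq_iff_mul_eq_one, ← em_line_add, CharTwo.add_self_eq_zero, em_zero']

omit h in
theorem IsTv.mul {i : Fin k} {D : Subgroup G} {κ κ' : F} {g g' : G} (h1 : IsTv M i D κ g)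
    (h2 : IsTv M i D κ' g') : IsTv M i D (κ + κ') (g * g') := by
  refine ⟨fun d hd => ?_, fun x => ?_⟩
  · have e1 : g * g' * d * (g * g')⁻¹ = g * (g' * d * g'⁻¹) * g⁻¹ := by group
    have e2 : g * (d * em M i ![κ' * M.e d i 0, 0]) * g⁻¹ =
        g * d * g⁻¹ * (g * em M i ![κ' * M.e d i 0, 0] * g⁻¹) := by group
    rw [e1, h2.1 d hd, e2, h1.1 d hd, h1.2, mul_assoc, ← em_line_add, add_mul]
  · have e1 : g * g' * em M i ![x, 0] * (g * g')⁻¹ = g * (g' * em M i ![x, 0] * g'⁻¹) * g⁻¹ := by group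
    rw [e1, h2.2, h1.2]

omit h in
theorem IsTv.one (M : NatK F (S : Subgroup G) P (zl (S : Subgroup G) P) ⊥ k) (i : Fin k) (D : Subgroup G) :
    IsTv M i D 0 1 := by
  refine ⟨fun d _ => ?_, fun x => by group⟩
  rw [zero_mul, em_zero']
  group

omit h in
theorem IsTv.inv {i : Fin k} {D : Subgroup G} {κ : F} {g : G} (h1 : IsTv M i D κ g) : IsTv M i D κ g⁻¹ := by
  have h2 : ∀ x : F, g⁻¹ * em M i ![x, 0] * g⁻¹⁻¹ = em M i ![x, 0] := by
    intro x
    conv_lhs => rw [← h1.2 x]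
    group
  refine ⟨fun d hd => ?_, h2⟩
  have e1 : g⁻¹ * (g * d * g⁻¹) * g⁻¹⁻¹ = d := by group
  rw [h1.1 d hd] at e1
  have e2 : g⁻¹ * (d * em M i ![κ * M.e d i 0, 0]) * g⁻¹⁻¹ =
      g⁻¹ * d * g⁻¹⁻¹ * (g⁻¹ * em M i ![κ * M.e d i 0, 0] * g⁻¹⁻¹) := by group
  rw [e2, h2] at e1
  rw [← em_inv M i (κ * M.e d i 0), eq_mul_inv_iff_mul_eq]
  exact e1

/-- the group of these elements -/
def Bg (M : NatK F (S : Subgroup G) P (zl (S : Subgroup G) P) ⊥ k) (i : Fin k) (D : Subgroup G) :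
    Subgroup G where
  carrier := {g | ∃ κ, IsTv M i D κ g}
  mul_mem' := by
    rintro g g' ⟨κ, h1⟩ ⟨κ', h2⟩
    exact ⟨κ + κ', h1.mul h2⟩
  one_mem' := ⟨0, IsTv.one M i D⟩
  inv_mem' := by
    rintro g ⟨κ, h1⟩
    exact ⟨κ, h1.inv⟩

theorem tv_act {i : Fin k} {D : Subgroup G} {κ : F} {g : G} (h1 : IsTv M i D κ g) {e : G}
    (he : e ∈ EQ S P) {x : F} (hx : em M i ![x, 0] * e ∈ D) :
    g * e * g⁻¹ = e * em M i ![κ * M.e (em M i ![x, 0] * e) i 0, 0] := by
  have h2 := h1.1 _ hx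
  have e1 : g * (em M i ![x, 0] * e) * g⁻¹ = g * em M i ![x, 0] * g⁻¹ * (g * e * g⁻¹) := by group
  rw [e1, h1.2] at h2
  have h3 : em M i ![x, 0] * (g * e * g⁻¹) =
      em M i ![x, 0] * (e * em M i ![κ * M.e (em M i ![x, 0] * e) i 0, 0]) := by
    rw [h2, mul_assoc (em M i ![x, 0]) e]
  exact mul_left_cancel h3

theorem Bg_conj {i : Fin k} {D : Subgroup G} (hgen : ∀ e ∈ EQ S P, ∃ x : F, em M i ![x, 0] * e ∈ D) {g e : G}
    (hg : g ∈ Bg M i D) (he : e ∈ EQ S P) : g * e * g⁻¹ ∈ EQ S P := by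
  obtain ⟨κ, h1⟩ := hg
  obtain ⟨x, hx⟩ := hgen e he
  rw [h.tv_act h1 he hx]
  exact mul_mem he ⟨em_mem M i _, h.em_Q i _⟩

theorem Bg_le {i : Fin k} {D : Subgroup G} (hgen : ∀ e ∈ EQ S P, ∃ x : F, em M i ![x, 0] * e ∈ D) :
    Bg M i D ≤ normalizer (EQ S P : Set G) := by
  intro g hg
  rw [mem_normalizer_iff]
  intro e
  refine ⟨fun he => h.Bg_conj hgen hg he, fun he => ?_⟩
  have h1 := h.Bg_conj hgen (inv_mem hg) he
  have e1 : g⁻¹ * (g * e * g⁻¹) * g⁻¹⁻¹ = e := by group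
  rwa [e1] at h1

theorem Bg_sq {i : Fin k} {D : Subgroup G} (hgen : ∀ e ∈ EQ S P, ∃ x : F, em M i ![x, 0] * e ∈ D) {g : G}
    (hg : g ∈ Bg M i D) : g * g ∈ centralizer (EQ S P : Set G) := by
  obtain ⟨κ, h1⟩ := hg
  have h2 := h1.mul h1
  rw [CharTwo.add_self_eq_zero] at h2
  rw [mem_centralizer_iff]
  intro e he
  obtain ⟨x, hx⟩ := hgen e he
  have h3 := h.tv_act h2 he hx
  rw [zero_mul, em_zero', mul_one] at h3
  calc e * (g * g) = g * g * e * (g * g)⁻¹ * (g * g) := by rw [h3]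
    _ = g * g * e := by group

omit h in
theorem exists_two (hq : 4 ≤ Nat.card F) : ∃ a b : F, a ≠ 0 ∧ a ≠ 1 ∧ b ≠ 0 ∧ b ≠ 1 ∧ a ≠ b := by
  classical
  have : Fintype F := Fintype.ofFinite F
  have h1 : 1 < (Finset.univ \ ({0, 1} : Finset F)).card := by
    have h2 := Finset.le_card_sdiff ({0, 1} : Finset F) Finset.univ
    have h3 : ({0, 1} : Finset F).card ≤ 2 := Finset.card_le_two
    rw [Finset.card_univ, ← Nat.card_eq_fintype_card] at h2
    omega
  obtain ⟨a, ha, b, hb, hab⟩ := Finset.one_lt_card.1 h1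
  simp only [Finset.mem_sdiff, Finset.mem_univ, Finset.mem_insert, Finset.mem_singleton, not_or, true_and] at ha hb
  exact ⟨a, b, ha.1, ha.2, hb.1, hb.2, hab⟩

/-- The contradiction of (N6). -/
theorem false (hk : 2 ≤ k) (hq : 4 ≤ Nat.card F) : False := by
  classical
  let i : Fin k := ⟨0, by omega⟩
  obtain ⟨D, hDE, hDz, hgen, htri, hρ⟩ := h.exists_D hk i
  obtain ⟨z, hzE, hzC, hz0⟩ := h.exists_z
  have hzD := hDz z hzE hzC
  have hgen' : ∀ e : G, ∃ x : F, e ∈ EQ S P → em M i ![x, 0] * e ∈ D := by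
    intro e
    by_cases he : e ∈ EQ S P
    · obtain ⟨x, hx⟩ := hgen e he
      exact ⟨x, fun _ => hx⟩
    · exact ⟨0, fun h1 => absurd h1 he⟩
  choose X hX using hgen'
  -- the form `θ`
  let th : G → F := fun e => M.e (em M i ![X e, 0] * e) i 0
  have hth : ∀ {κ : F} {g e : G}, IsTv M i D κ g → e ∈ EQ S P → g * e * g⁻¹ = e * em M i ![κ * th e, 0] :=
    fun h1 he => h.tv_act h1 he (hX _ he)
  have hthz : th z ≠ 0 := by
    have h1 : em M i ![X z, 0] ∈ D := (mul_mem_cancel_right hzD).1 (hX z hzE)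
    have h2 := htri _ h1
    show M.e (em M i ![X z, 0] * z) i 0 ≠ 0
    rw [h2, em_zero', one_mul]
    exact hz0 i
  -- the transvections
  have hτ : ∀ c : F, c ≠ 0 → ∃ g, IsTv M i D (c + 1) g := by
    intro c hc
    obtain ⟨ρ, -, h1, h2⟩ := hρ c⁻¹ (inv_ne_zero hc)
    obtain ⟨t, -, h3, h4⟩ := h.exists_diag i hc
    refine ⟨t * ρ, fun d hd => ?_, fun x => ?_⟩
    · have e1 : t * ρ * d * (t * ρ)⁻¹ = t * (ρ * d * ρ⁻¹) * t⁻¹ := by group
      rw [e1, h1 d hd, h4 d (hDE hd)]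
    · have e1 : t * ρ * em M i ![x, 0] * (t * ρ)⁻¹ = t * (ρ * em M i ![x, 0] * ρ⁻¹) * t⁻¹ := by group
      rw [e1, h2, h3, mul_inv_cancel_left₀ hc]
  obtain ⟨n, hn, hnB⟩ := exists_conj_mem S h.S_le_N (NOne.LemmaT.normalizer_le_normalizer_centralizer (EQ S P))
    (h.Bg_le hgen) (fun b hb => h.Bg_sq hgen hb)
  have hnE : ∀ e ∈ EQ S P, n⁻¹ * e * n ∈ EQ S P := fun e he => norm_mem' hn he
  -- the elements of `S`
  have key : ∀ c : F, c ≠ 0 → ∃ s ∈ S, ∀ e ∈ EQ S P,
      s * e * s⁻¹ = n * (n⁻¹ * e * n * em M i ![(c + 1) * th (n⁻¹ * e * n), 0]) * n⁻¹ := by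
    intro c hc
    obtain ⟨g, hg⟩ := hτ c hc
    obtain ⟨s, hs, κ, hκ, h1⟩ := hnB g ⟨_, hg⟩
    refine ⟨s, hs, fun e he => ?_⟩
    have h2 : s = n * g * n⁻¹ * κ⁻¹ := by rw [h1]; group
    have h3 : κ⁻¹ * e * κ = e := by
      rw [mul_assoc, mem_centralizer_iff.1 hκ e he, inv_mul_cancel_left]
    rw [← hth hg (hnE e he)]
    calc s * e * s⁻¹ = n * g * n⁻¹ * (κ⁻¹ * e * κ) * n * g⁻¹ * n⁻¹ := by rw [h2]; group
      _ = n * (g * (n⁻¹ * e * n) * g⁻¹) * n⁻¹ := by rw [h3]; group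
  -- facts on these elements
  have hemn : ∀ y : F, em M i ![y, 0] ∈ EQ S P := fun y => ⟨em_mem M i _, h.em_Q i y⟩
  have hadd : ∀ c : F, c ≠ 0 → c ≠ 1 → c + 1 ≠ 0 := fun c _ hc h1 => hc (CharTwo.add_eq_zero.1 h1)
  have hfix : ∀ c : F, c ≠ 0 → c ≠ 1 → ∀ s ∈ S, (∀ e ∈ EQ S P,
      s * e * s⁻¹ = n * (n⁻¹ * e * n * em M i ![(c + 1) * th (n⁻¹ * e * n), 0]) * n⁻¹) →
      ∀ x, sm M s x = x ↔ th (n⁻¹ * cE M x * n) = 0 := by
    intro c hc0 hc1 s hs hse x
    have hsN := h.S_le_N hs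
    have h1 := h.cE_sm hsN x
    rw [hse _ (h.cE_E x)] at h1
    constructor
    · intro h2
      rw [h2] at h1
      have h3 : em M i ![(c + 1) * th (n⁻¹ * cE M x * n), 0] = 1 := by
        have e1 : n * (n⁻¹ * cE M x * n * em M i ![(c + 1) * th (n⁻¹ * cE M x * n), 0]) * n⁻¹ =
            cE M x * (n * em M i ![(c + 1) * th (n⁻¹ * cE M x * n), 0] * n⁻¹) := by group
        rw [e1] at h1
        have h4 : n * em M i ![(c + 1) * th (n⁻¹ * cE M x * n), 0] * n⁻¹ = 1 := left_eq_mul.1 h1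
        have e2 : em M i ![(c + 1) * th (n⁻¹ * cE M x * n), 0] =
            n⁻¹ * (n * em M i ![(c + 1) * th (n⁻¹ * cE M x * n), 0] * n⁻¹) * n := by group
        rw [e2, h4]
        group
      exact (mul_eq_zero.1 (em_eq_one M i h3)).resolve_left (hadd c hc0 hc1)
    · intro h2
      rw [h2, mul_zero, em_zero', mul_one] at h1
      apply cE_inj M
      rw [h1]
      group
  have hinv : ∀ c : F, c ≠ 0 → ∀ s ∈ S, (∀ e ∈ EQ S P,
      s * e * s⁻¹ = n * (n⁻¹ * e * n * em M i ![(c + 1) * th (n⁻¹ * e * n), 0]) * n⁻¹) →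
      ∀ x, sm M s (sm M s x) = x := by
    intro c hc0 s hs hse x
    have hsN := h.S_le_N hs
    obtain ⟨g, hg⟩ := hτ c hc0
    have hse' : ∀ e ∈ EQ S P, s * e * s⁻¹ = n * (g * (n⁻¹ * e * n) * g⁻¹) * n⁻¹ := fun e he => by
      rw [hse e he, hth hg (hnE e he)]
    have hgg := mem_centralizer_iff.1 (h.Bg_sq hgen ⟨_, hg⟩ : g * g ∈ centralizer (EQ S P : Set G))
      _ (hnE _ (h.cE_E x))
    apply cE_inj M
    have hsc := norm_mem hsN (h.cE_E x)
    rw [h.cE_sm hsN, h.cE_sm hsN, hse' _ hsc, hse' _ (h.cE_E x)]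
    calc n * (g * (n⁻¹ * (n * (g * (n⁻¹ * cE M x * n) * g⁻¹) * n⁻¹) * n) * g⁻¹) * n⁻¹
        = n * (g * g * (n⁻¹ * cE M x * n)) * (g * g)⁻¹ * n⁻¹ := by group
      _ = n * (n⁻¹ * cE M x * n * (g * g)) * (g * g)⁻¹ * n⁻¹ := by rw [hgg]
      _ = cE M x := by group
  have hcard : ∀ c : F, c ≠ 0 → ∀ s ∈ S, (∀ e ∈ EQ S P,
      s * e * s⁻¹ = n * (n⁻¹ * e * n * em M i ![(c + 1) * th (n⁻¹ * e * n), 0]) * n⁻¹) →
      Nat.card F ^ k ≤ Nat.card F * Nat.card {x : Fin k → F // sm M s x = x} := by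
    intro c hc0 s hs hse
    have hsN := h.S_le_N hs
    let δ : (Fin k → F) →+ (Fin k → F) := AddMonoidHom.mk' (fun x => sm M s x - x) fun x y => by
      rw [h.sm_add hsN]; abel
    have h1 := δ.ker.card_mul_index
    rw [AddSubgroup.index_ker] at h1
    have h2 : Nat.card (Fin k → F) = Nat.card F ^ k := by
      rw [Nat.card_fun, Nat.card_eq_fintype_card (α := Fin k), Fintype.card_fin]
    have h3 : Nat.card δ.ker = Nat.card {x : Fin k → F // sm M s x = x} := by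
      refine Nat.card_congr (Equiv.subtypeEquivRight fun x => ?_)
      rw [AddMonoidHom.mem_ker]
      exact sub_eq_zero
    let f : F → Fin k → F := fun y j => M.e (n * em M i ![y, 0] * n⁻¹) j 0
    have h4 : Nat.card δ.range ≤ Nat.card F := by
      refine (Nat.card_mono (Set.toFinite (Set.range f)) (s := (δ.range : Set (Fin k → F))) ?_).trans
        (Finite.card_range_le f)
      rintro _ ⟨x, rfl⟩
      refine ⟨(c + 1) * th (n⁻¹ * cE M x * n), ?_⟩
      funext j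
      show M.e (n * em M i ![(c + 1) * th (n⁻¹ * cE M x * n), 0] * n⁻¹) j 0 = sm M s x j - x j
      have h5 := hse _ (h.cE_E x)
      have e1 : n * (n⁻¹ * cE M x * n * em M i ![(c + 1) * th (n⁻¹ * cE M x * n), 0]) * n⁻¹ =
          cE M x * (n * em M i ![(c + 1) * th (n⁻¹ * cE M x * n), 0] * n⁻¹) := by group
      rw [e1] at h5
      have h6 : n * em M i ![(c + 1) * th (n⁻¹ * cE M x * n), 0] * n⁻¹ ∈ EQ S P := norm_mem hn (hemn _)
      have h7 : sm M s x j = M.e (s * cE M x * s⁻¹) j 0 := rfl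
      rw [h7, h5, M.mul _ (cE_V M x) _ h6.1, e_cE, Pi.add_apply, Pi.add_apply]
      simp
    rw [h2, h3] at h1
    rw [← h1, mul_comm]
    exact Nat.mul_le_mul_right _ h4
  obtain ⟨a, b, ha0, ha1, hb0, hb1, hab⟩ := exists_two hq
  obtain ⟨s, hs, hse⟩ := key a ha0
  obtain ⟨t, ht, hte⟩ := key b hb0
  have hst := same (h.mono hs) (h.mono ht) (hinv a ha0 s hs hse) (hinv b hb0 t ht hte)
    (fun x => (hfix a ha0 ha1 s hs hse x).trans (hfix b hb0 hb1 t ht hte x).symm) (hcard a ha0 s hs hse)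
  -- the contradiction at `z`
  have hzn : n * z * n⁻¹ ∈ EQ S P := norm_mem hn hzE
  have h1 : s * (n * z * n⁻¹) * s⁻¹ = t * (n * z * n⁻¹) * t⁻¹ := by
    rw [← h.cE_of hzn, ← h.cE_sm (h.S_le_N hs), ← h.cE_sm (h.S_le_N ht), hst]
  rw [hse _ hzn, hte _ hzn] at h1
  have e1 : n⁻¹ * (n * z * n⁻¹) * n = z := by group
  rw [e1] at h1
  have h2 : em M i ![(a + 1) * th z, 0] = em M i ![(b + 1) * th z, 0] :=
    mul_left_cancel (mul_left_cancel (mul_right_cancel h1))
  have h3 := congrArg (fun v => M.e v i 0) h2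
  simp only [e_em_self] at h3
  have h4 : (a + 1) * th z = (b + 1) * th z := by simpa using h3
  exact hab (add_right_cancel (mul_right_cancel₀ hthz h4))

end CaseQ

/-- **(N6) of THEOREM WR.**  Case (Q), `|F| ≥ 4`, `k ≥ 2` is impossible. -/
theorem main (h : Cfg S P) (M : NatK F (S : Subgroup G) P (zl (S : Subgroup G) P) ⊥ k) (hk : 2 ≤ k)
    (hq : 4 ≤ Nat.card F)
    (hE : ∀ v ∈ zl (S : Subgroup G) P, v ∈ o2 (CC (S : Subgroup G)) ↔ ∀ i, M.e v i 1 = 0) : False :=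
  CaseQ.false (M := M) ⟨h, hE⟩ hk hq

end Cfsg.Agent.Omega.NO1.NSix

end

-- merged: Cfsg.Agent.Mrg.Omega.NO1.WR.NTwo
section

section


/-!
# N1, `V_P` a sum of `k ≥ 3` natural `SL₂(2)`-modules, case (Q): impossible (text #15037 (N3), (N5), helper675)

`main_two` : `Cfg S P`, `NatK F S P V ⊥ k`, `3 ≤ k`, `|F| = 2`, `V ∩ Q = ∏ L_i` imply `False`.
-/

set_option autoImplicit false
set_option linter.unusedSectionVars false

namespace Cfsg.Agent.Omega.NO1.NatWr

open Subgroup Cfsg Cfsg.Agent.ZN Cfsg.Agent.Omega.MinPar Cfsg.Agent.Omega.FFThm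
open Cfsg.Agent.Omega.Half Cfsg.Agent.Omega.Half.NatA
open Cfsg.Agent.Omega.NoFF.LinesPlug (CC)

universe u

variable {G : Type u} [Group G] [Finite G] {S : Sylow 2 G} {P : Subgroup G} {F : Type} [Field F] {k : ℕ}

/-- The situation (Q) with `|F| = 2`. -/
structure QTwo (S : Sylow 2 G) (P : Subgroup G) (F : Type) [Field F] (k : ℕ) where
  cfg : Cfg S P
  M : NatK F (S : Subgroup G) P (zl (S : Subgroup G) P) ⊥ k
  two : ∀ x : F, x = 0 ∨ x = 1
  hE : ∀ v ∈ zl (S : Subgroup G) P, v ∈ o2 (CC (S : Subgroup G)) ↔ ∀ i, M.e v i 1 = 0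

theorem zmod_or (c : ZMod 2) : c = 0 ∨ c = 1 := by
  fin_cases c
  · exact Or.inl rfl
  · exact Or.inr rfl

namespace QTwo

variable (q : QTwo S P F k)

include q

theorem one_add_one : (1 : F) + 1 = 0 := by
  rcases q.two (1 + 1) with h | h
  · exact h
  · exfalso
    exact one_ne_zero (add_eq_left.1 h)

theorem eq_of_iff {x y : F} (h : x = 0 ↔ y = 0) : x = y := by
  rcases q.two x with h1 | h1
  · rw [h1, h.1 h1]
  · rcases q.two y with h2 | h2
    · exfalso
      rw [h.2 h2] at h1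
      exact zero_ne_one h1
    · rw [h1, h2]

theorem A : Amb (S : Subgroup G) P (zl (S : Subgroup G) P) := amb q.cfg

/-- `z A`: the product of the `z_i`, `i ∈ A` -/
noncomputable def za (A : Set (Fin k)) : G := (exists_fac q.M A fun _ => ![1, 0]).choose

theorem za_mem (A : Set (Fin k)) : q.za A ∈ fac q.M A := (exists_fac q.M A fun _ => ![1, 0]).choose_spec.1

theorem za_in {A : Set (Fin k)} {i : Fin k} (hi : i ∈ A) : q.M.e (q.za A) i = ![1, 0] :=
  (exists_fac q.M A fun _ => ![1, 0]).choose_spec.2 i hi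

theorem za_out {A : Set (Fin k)} {i : Fin k} (hi : i ∉ A) : q.M.e (q.za A) i = 0 := (q.za_mem A).2 i hi

theorem za_V (A : Set (Fin k)) : q.za A ∈ zl (S : Subgroup G) P := (q.za_mem A).1

theorem za_Q (A : Set (Fin k)) : q.za A ∈ o2 (CC (S : Subgroup G)) := by
  rw [q.hE _ (q.za_V A)]
  intro i
  by_cases hi : i ∈ A
  · rw [q.za_in hi]; rfl
  · rw [q.za_out hi]; rfl

theorem za_ne {A : Set (Fin k)} {i : Fin k} (hi : i ∈ A) : q.M.e (q.za A) i ≠ 0 := by
  rw [q.za_in hi]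
  intro h
  exact one_ne_zero (congrFun h 0)

/-- `v_i ∈ V_i - L_i` -/
noncomputable def vi (i : Fin k) : G := (exists_fac q.M {i} fun _ => ![0, 1]).choose

theorem vi_mem (i : Fin k) : q.vi i ∈ fac q.M {i} := (exists_fac q.M {i} fun _ => ![0, 1]).choose_spec.1

theorem vi_in (i : Fin k) : q.M.e (q.vi i) i = ![0, 1] :=
  (exists_fac q.M {i} fun _ => ![0, 1]).choose_spec.2 i rfl

theorem vi_out {i j : Fin k} (h : j ≠ i) : q.M.e (q.vi i) j = 0 := (q.vi_mem i).2 j h

theorem vi_V (i : Fin k) : q.vi i ∈ zl (S : Subgroup G) P := (q.vi_mem i).1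

theorem vi_C (i : Fin k) : q.vi i ∈ CC (S : Subgroup G) := q.cfg.V_le_CC (q.vi_V i)

theorem vi_not (i : Fin k) : q.vi i ∉ o2 (CC (S : Subgroup G)) := by
  rw [q.hE _ (q.vi_V i)]
  intro h
  have := h i
  rw [q.vi_in] at this
  exact one_ne_zero this

theorem Q_P : o2 (CC (S : Subgroup G)) ≤ P := q.cfg.Q_le_S.trans q.cfg.S_le

theorem conj_V {f w : G} (hf : f ∈ P) (hw : w ∈ zl (S : Subgroup G) P) : f * w * f⁻¹ ∈ zl (S : Subgroup G) P :=
  q.A.conj_mem hf hw

/-- `[V, Q] ≤ V ∩ Q` -/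
theorem comm_mem {f w : G} (hf : f ∈ o2 (CC (S : Subgroup G))) (hw : w ∈ zl (S : Subgroup G) P) :
    f * w * f⁻¹ * w⁻¹ ∈ zl (S : Subgroup G) P ∧ f * w * f⁻¹ * w⁻¹ ∈ o2 (CC (S : Subgroup G)) := by
  refine ⟨mul_mem (q.conj_V (q.Q_P hf) hw) (inv_mem hw), ?_⟩
  have h1 : w * f⁻¹ * w⁻¹ ∈ o2 (CC (S : Subgroup G)) :=
    (mem_normalizer_iff.1 (le_normalizer_o2 _ (q.cfg.V_le_CC hw)) _).1 (inv_mem hf)
  have e : f * w * f⁻¹ * w⁻¹ = f * (w * f⁻¹ * w⁻¹) := by group
  rw [e]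
  exact mul_mem hf h1

theorem row_one {f w : G} (hf : f ∈ o2 (CC (S : Subgroup G))) (hw : w ∈ zl (S : Subgroup G) P) (i : Fin k) :
    q.M.e (f * w * f⁻¹) i 1 = q.M.e w i 1 := by
  obtain ⟨h1, h2⟩ := q.comm_mem hf hw
  have h3 := (q.hE _ h1).1 h2 i
  rw [q.M.mul _ (q.conj_V (q.Q_P hf) hw) _ (inv_mem hw), e_inv q.M hw] at h3
  have h4 : q.M.e (f * w * f⁻¹) i 1 - q.M.e w i 1 = 0 := by
    rw [sub_eq_add_neg]
    exact h3
  exact sub_eq_zero.1 h4

theorem perm_one {f : G} (hf : f ∈ o2 (CC (S : Subgroup G))) {σ : Equiv.Perm (Fin k)} (hσ : Mv q.M f σ)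
    (i : Fin k) : σ i = i := by
  obtain ⟨j, hj⟩ := σ.surjective i
  have h1 : q.M.e (f * q.vi i * f⁻¹) i ≠ 0 := by
    intro h0
    have h2 := q.row_one hf (q.vi_V i) i
    rw [h0, q.vi_in] at h2
    exact one_ne_zero h2.symm
  have h3 := hσ (q.vi i) (q.vi_V i) j
  rw [hj] at h3
  have h4 : q.M.e (q.vi i) j ≠ 0 := fun h0 => h1 (h3.2 h0)
  have h5 : j = i := by
    by_contra hne
    exact h4 (q.vi_out hne)
  rw [← h5] at hj ⊢
  exact hj

theorem coord_iff {f w : G} (hf : f ∈ o2 (CC (S : Subgroup G))) (hw : w ∈ zl (S : Subgroup G) P) (i : Fin k) :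
    q.M.e (f * w * f⁻¹) i = 0 ↔ q.M.e w i = 0 := by
  obtain ⟨σ, hσ⟩ := q.M.perm f (q.Q_P hf)
  have h1 := hσ w hw i
  rwa [q.perm_one hf hσ] at h1

/-- `Q` centralises `V ∩ Q` -/
theorem cent {f w : G} (hf : f ∈ o2 (CC (S : Subgroup G))) (hw : w ∈ zl (S : Subgroup G) P)
    (hwQ : w ∈ o2 (CC (S : Subgroup G))) : f * w * f⁻¹ = w := by
  apply inj q.M (q.conj_V (q.Q_P hf) hw) hw
  funext i
  have h1 : q.M.e w i 1 = 0 := (q.hE w hw).1 hwQ i
  have h2 : q.M.e (f * w * f⁻¹) i 1 = 0 := by rw [q.row_one hf hw, h1]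
  have h3 := q.coord_iff hf hw i
  have h4 : ∀ x : Fin 2 → F, x 1 = 0 → (x = 0 ↔ x 0 = 0) := by
    intro x hx
    constructor
    · intro h; rw [h]; rfl
    · intro h; exact NatPair.ext2 h hx
  apply NatPair.ext2
  · apply q.eq_of_iff
    rw [← h4 _ h1, ← h4 _ h2]
    exact h3
  · rw [h1, h2]

/-- `V ∩ Q ≤ Z_Q` -/
theorem mem_zq {w : G} (hw : w ∈ zl (S : Subgroup G) P) (hwQ : w ∈ o2 (CC (S : Subgroup G))) :
    w ∈ zc (o2 (CC (S : Subgroup G))) := by
  refine MinSimple.VModule.mem_zc.2 ⟨hwQ, fun f hf => ?_, q.A.sq w hw⟩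
  calc f * w = (f * w * f⁻¹) * f := by group
    _ = w * f := by rw [q.cent hf hw hwQ]

/-- `Q` moves `v_i` to `v_i` or `v_i z_i` -/
theorem act_vi {f : G} (hf : f ∈ o2 (CC (S : Subgroup G))) (i : Fin k) :
    f * q.vi i * f⁻¹ = q.vi i ∨ f * q.vi i * f⁻¹ = q.vi i * q.za {i} := by
  have hc := q.conj_V (q.Q_P hf) (q.vi_V i)
  have h1 : ∀ j, j ≠ i → q.M.e (f * q.vi i * f⁻¹) j = 0 := fun j hj =>
    (q.coord_iff hf (q.vi_V i) j).2 (q.vi_out hj)
  have h2 : q.M.e (f * q.vi i * f⁻¹) i 1 = 1 := by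
    rw [q.row_one hf (q.vi_V i), q.vi_in]; rfl
  rcases q.two (q.M.e (f * q.vi i * f⁻¹) i 0) with h3 | h3
  · left
    apply inj q.M hc (q.vi_V i)
    funext j
    by_cases hj : j = i
    · subst hj
      rw [q.vi_in]
      exact NatPair.ext2 h3 h2
    · rw [h1 j hj, q.vi_out hj]
  · right
    apply inj q.M hc (mul_mem (q.vi_V i) (q.za_V _))
    rw [q.M.mul _ (q.vi_V i) _ (q.za_V _)]
    funext j
    rw [Pi.add_apply]
    by_cases hj : j = i
    · subst hj
      rw [q.vi_in, q.za_in (Set.mem_singleton j)]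
      apply NatPair.ext2
      · rw [h3]; simp
      · rw [h2]; simp
    · rw [h1 j hj, q.vi_out hj, q.za_out (A := {i}) (fun h => hj h), add_zero]

/-! ### The module `Z_Q` -/

/-- the module -/
def D (_q : QTwo S P F k) : NatQuot.Dat G where
  C := CC (S : Subgroup G)
  W := zc (o2 (CC (S : Subgroup G)))
  Wc := ⊥
  comm a ha b hb := (MinSimple.VModule.mem_zc.1 hb).2.1 a (MinSimple.VModule.mem_zc.1 ha).1
  sq a ha := by rw [← pow_two]; exact (MinSimple.VModule.mem_zc.1 ha).2.2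
  normW c hc w hw := (mem_normalizer_iff.1 ((le_normalizer_o2 _).trans
    (MinSimple.VModule.normalizer_le_normalizer_zc _) hc) w).1 hw
  normWc c _ w hw := by
    rw [mem_bot] at hw ⊢
    rw [hw]; group

theorem p_inj {x y : G} (hx : x ∈ zc (o2 (CC (S : Subgroup G)))) (hy : y ∈ zc (o2 (CC (S : Subgroup G))))
    (h : q.D.p x = q.D.p y) : x = y := by
  have h1 : x * y = 1 := mem_bot.1 ((q.D.p_eq (x := x) (y := y) hx hy).1 h)
  have h2 : y * y = 1 := q.D.sq y hy
  exact mul_right_cancel (h1.trans h2.symm)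

theorem za_W (A : Set (Fin k)) : q.za A ∈ q.D.W := q.mem_zq (q.za_V A) (q.za_Q A)

theorem W_Q {x : G} (hx : x ∈ q.D.W) : x ∈ o2 (CC (S : Subgroup G)) := (MinSimple.VModule.mem_zc.1 hx).1

open Classical in
/-- the functional of `v_i` -/
noncomputable def nf (i : Fin k) (x : G) : ZMod 2 := if x * q.vi i * x⁻¹ = q.vi i then 0 else 1

theorem nf_zero {i : Fin k} {x : G} : q.nf i x = 0 ↔ x * q.vi i * x⁻¹ = q.vi i := by
  unfold nf
  split_ifs with h
  · simp [h]
  · simp [h]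

theorem nf_one {i : Fin k} {x : G} (hx : x ∈ q.D.W) : q.nf i x = 1 → x * q.vi i * x⁻¹ = q.vi i * q.za {i} := by
  intro h
  refine (q.act_vi (q.W_Q hx) i).resolve_left fun h1 => ?_
  rw [q.nf_zero.2 h1] at h
  exact zero_ne_one h

theorem nf_mul {i : Fin k} {x y : G} (hx : x ∈ q.D.W) (hy : y ∈ q.D.W) :
    q.nf i (x * y) = q.nf i x + q.nf i y := by
  have hz : ∀ w ∈ q.D.W, w * q.za {i} * w⁻¹ = q.za {i} := fun w hw =>
    q.cent (q.W_Q hw) (q.za_V _) (q.za_Q _)
  have e : x * y * q.vi i * (x * y)⁻¹ = x * (y * q.vi i * y⁻¹) * x⁻¹ := by group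
  have hz1 : q.za {i} ≠ 1 := fun h => by
    have h1 := q.za_ne (Set.mem_singleton i)
    rw [h, e_one] at h1
    exact h1 rfl
  have hz2 : q.za {i} * q.za {i} = 1 := q.D.sq _ (q.za_W _)
  have h11 : (1 : ZMod 2) + 1 = 0 := by decide
  rcases zmod_or (q.nf i x) with h1 | h1 <;> rcases zmod_or (q.nf i y) with h2 | h2
  · rw [h1, h2, add_zero, nf_zero, e, q.nf_zero.1 h2, q.nf_zero.1 h1]
  · rw [h1, h2, zero_add]
    refine (zmod_or _).resolve_left fun h3 => hz1 ?_
    rw [nf_zero, e, q.nf_one hy h2] at h3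
    have e2 : x * (q.vi i * q.za {i}) * x⁻¹ = (x * q.vi i * x⁻¹) * (x * q.za {i} * x⁻¹) := by group
    rw [e2, q.nf_zero.1 h1, hz x hx] at h3
    exact mul_eq_left.1 h3
  · rw [h1, h2, add_zero]
    refine (zmod_or _).resolve_left fun h3 => hz1 ?_
    rw [nf_zero, e, q.nf_zero.1 h2, q.nf_one hx h1] at h3
    exact mul_eq_left.1 h3
  · rw [h1, h2, h11, nf_zero, e, q.nf_one hy h2]
    have e2 : x * (q.vi i * q.za {i}) * x⁻¹ = (x * q.vi i * x⁻¹) * (x * q.za {i} * x⁻¹) := by group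
    rw [e2, q.nf_one hx h1, hz x hx, mul_assoc, hz2, mul_one]

/-- the functional on the module -/
noncomputable def nu (i : Fin k) : q.D.Q →+ ZMod 2 where
  toFun m := q.nf i (q.D.p_surj m).choose
  map_zero' := by
    have h := (q.D.p_surj (0 : q.D.Q)).choose_spec
    set x := (q.D.p_surj (0 : q.D.Q)).choose with hx
    have h1 : x = 1 := q.p_inj h.1 (one_mem _) (by rw [h.2, q.D.p_one])
    rw [h1, nf_zero]
    group
  map_add' m n := by
    have h1 := (q.D.p_surj m).choose_spec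
    have h2 := (q.D.p_surj n).choose_spec
    have h3 := (q.D.p_surj (m + n)).choose_spec
    rw [← q.nf_mul h1.1 h2.1]
    congr 1
    apply q.p_inj h3.1 (mul_mem h1.1 h2.1)
    rw [h3.2, q.D.p_mul h1.1 h2.1, h1.2, h2.2]

theorem nu_p {i : Fin k} {x : G} (hx : x ∈ q.D.W) : q.nu i (q.D.p x) = q.nf i x := by
  have h1 := (q.D.p_surj (q.D.p x)).choose_spec
  have h2 : (q.D.p_surj (q.D.p x)).choose = x := q.p_inj h1.1 hx h1.2
  change q.nf i (q.D.p_surj (q.D.p x)).choose = _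
  rw [h2]

/-- `v_i` in `C` -/
noncomputable def vc (i : Fin k) : q.D.C := ⟨q.vi i, q.vi_C i⟩

theorem vi_mul (i : Fin k) : q.vi i * q.vi i = 1 := by
  rw [← pow_two]; exact q.A.sq _ (q.vi_V i)

theorem tv (i : Fin k) : WR.Comp.TV (q.vc i) (q.nu i) (q.D.p (q.za {i})) := by
  intro m
  obtain ⟨x, hx, rfl⟩ := q.D.p_surj m
  have hvi : (q.vi i)⁻¹ = q.vi i := inv_eq_of_mul_eq_one_left (q.vi_mul i)
  rw [q.nu_p hx, q.D.p_act _ hx]
  change (q.nf i x = 0 → q.D.p (q.vi i * x * (q.vi i)⁻¹) = q.D.p x) ∧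
    (q.nf i x = 1 → q.D.p (q.vi i * x * (q.vi i)⁻¹) = q.D.p x + q.D.p (q.za {i}))
  constructor
  · intro h
    rw [nf_zero] at h
    congr 1
    have h1 : x * q.vi i = q.vi i * x := by
      calc x * q.vi i = (x * q.vi i * x⁻¹) * x := by group
        _ = q.vi i * x := by rw [h]
    rw [← h1]; group
  · intro h
    have h1 := q.nf_one hx h
    rw [← q.D.p_mul hx (q.za_W _)]
    congr 1
    have h2 : x * q.vi i = q.vi i * q.za {i} * x := by
      calc x * q.vi i = (x * q.vi i * x⁻¹) * x := by group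
        _ = q.vi i * q.za {i} * x := by rw [h1]
    have h3 : q.za {i} * x = x * q.za {i} := q.D.comm _ (q.za_W _) x hx
    calc q.vi i * x * (q.vi i)⁻¹ = q.vi i * (x * q.vi i) := by rw [hvi]; group
      _ = q.vi i * (q.vi i * q.za {i} * x) := by rw [h2]
      _ = (q.vi i * q.vi i) * (q.za {i} * x) := by group
      _ = x * q.za {i} := by rw [q.vi_mul, one_mul, h3]

theorem cen (i j : Fin k) : q.nu i (q.D.p (q.za {j})) = 0 := by
  rw [q.nu_p (q.za_W _), nf_zero, q.A.comm _ (q.za_V _) _ (q.vi_V i)]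
  group

/-- the sum of the `z_i` -/
theorem sum_za (s : Finset (Fin k)) : ∑ i ∈ s, q.D.p (q.za {i}) = q.D.p (q.za (s : Set (Fin k))) := by
  classical
  induction s using Finset.induction_on with
  | empty =>
    rw [Finset.sum_empty]
    have h : q.za ((∅ : Finset (Fin k)) : Set (Fin k)) = 1 :=
      eq_one q.M (q.za_V _) (funext fun i => q.za_out (by simp))
    rw [h, q.D.p_one]
  | insert a s has ih =>
    rw [Finset.sum_insert has, ih, ← q.D.p_mul (q.za_W _) (q.za_W _)]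
    congr 1
    apply inj q.M (mul_mem (q.za_V _) (q.za_V _)) (q.za_V _)
    rw [q.M.mul _ (q.za_V _) _ (q.za_V _)]
    funext i
    rw [Pi.add_apply]
    by_cases hi : i = a
    · subst hi
      rw [q.za_in (Set.mem_singleton i), q.za_out (A := (s : Set (Fin k))) (by simpa using has),
        q.za_in (A := ((insert i s : Finset (Fin k)) : Set (Fin k))) (by simp), add_zero]
    · rw [q.za_out (A := {a}) (fun h => hi h), zero_add]
      by_cases his : i ∈ s
      · rw [q.za_in (A := (s : Set (Fin k))) (by simpa using his),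
          q.za_in (A := ((insert a s : Finset (Fin k)) : Set (Fin k))) (by simp [his])]
      · rw [q.za_out (A := (s : Set (Fin k))) (by simpa using his),
          q.za_out (A := ((insert a s : Finset (Fin k)) : Set (Fin k))) (by simp [his, hi])]

/-- an element of `V ∩ Q` is `z A`, `A` its support -/
theorem eq_za {w : G} (hw : w ∈ zl (S : Subgroup G) P) (hwQ : w ∈ o2 (CC (S : Subgroup G))) {A : Set (Fin k)}
    (hA : ∀ i, q.M.e w i = 0 ↔ i ∉ A) : w = q.za A := by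
  apply inj q.M hw (q.za_V A)
  funext i
  by_cases hi : i ∈ A
  · have h1 : q.M.e w i 1 = 0 := (q.hE w hw).1 hwQ i
    have h2 : q.M.e w i ≠ 0 := fun h => (hA i).1 h hi
    rw [q.za_in hi]
    apply NatPair.ext2
    · refine (q.two _).resolve_left fun h3 => h2 (NatPair.ext2 h3 h1)
    · rw [h1]; rfl
  · rw [(hA i).2 hi, q.za_out hi]

/-- the elements of `S` permute the `z A` -/
theorem conj_za {t : G} (ht : t ∈ (S : Subgroup G)) {σ : Equiv.Perm (Fin k)} (hσ : Mv q.M t σ)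
    (A : Set (Fin k)) : t * q.za A * t⁻¹ = q.za (σ '' A) := by
  have htC : t ∈ CC (S : Subgroup G) := Cfg.S_le_CC S ht
  apply q.eq_za (q.conj_V (q.cfg.S_le ht) (q.za_V A))
    ((mem_normalizer_iff.1 (le_normalizer_o2 _ htC) _).1 (q.za_Q A))
  intro i
  obtain ⟨j, rfl⟩ := σ.surjective i
  rw [hσ _ (q.za_V A) j, Function.Injective.mem_set_image σ.injective]
  constructor
  · intro h hj
    exact q.za_ne hj h
  · intro h
    exact q.za_out h

theorem za_univ : q.za Set.univ ∈ zc (S : Subgroup G) := by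
  refine MinSimple.VModule.mem_zc.2 ⟨q.A.VT (q.za_V _), fun t ht => ?_, q.A.sq _ (q.za_V _)⟩
  obtain ⟨σ, hσ⟩ := exists_mv (M := q.M) q.A ht
  have h := q.conj_za ht hσ Set.univ
  rw [Set.image_univ_of_surjective σ.surjective] at h
  calc t * q.za Set.univ = (t * q.za Set.univ * t⁻¹) * t := by group
    _ = q.za Set.univ * t := by rw [h]

theorem conj_univ {c : G} (hc : c ∈ CC (S : Subgroup G)) : c * q.za Set.univ * c⁻¹ = q.za Set.univ := by
  have h := mem_centralizer_iff.1 hc _ q.za_univ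
  rw [← h]; group

theorem za_compl (A : Set (Fin k)) : q.za A * q.za Aᶜ = q.za Set.univ := by
  apply inj q.M (mul_mem (q.za_V _) (q.za_V _)) (q.za_V _)
  rw [q.M.mul _ (q.za_V _) _ (q.za_V _)]
  funext i
  rw [Pi.add_apply, q.za_in (Set.mem_univ i)]
  by_cases hi : i ∈ A
  · rw [q.za_in hi, q.za_out (fun h : i ∈ Aᶜ => h hi), add_zero]
  · rw [q.za_out hi, q.za_in (show i ∈ Aᶜ from hi), zero_add]

theorem full {A : Set (Fin k)} : ∀ i ∈ A, q.M.e (q.za A) i ≠ 0 := fun _ hi => q.za_ne hi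

/-- some conjugate of `z_j` is moved by `v_i` -/
theorem hit {B : Set (Fin k)} (hB : Blk q.M B) (i j : Fin k) :
    ∃ r ∈ WR.Comp.PP q.D.C (q.D.p (q.za {j})), q.nu i r = 1 := by
  by_contra hcon
  push Not at hcon
  -- `v_i` centralises all conjugates of `z_j`
  have h1 : ∀ c ∈ CC (S : Subgroup G), c * q.za {j} * c⁻¹ * q.vi i = q.vi i * (c * q.za {j} * c⁻¹) := by
    intro c hc
    have hW : c * q.za {j} * c⁻¹ ∈ q.D.W := q.D.normW c hc _ (q.za_W _)
    have h2 : q.nu i (q.D.p (c * q.za {j} * c⁻¹)) ≠ 1 := by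
      apply hcon
      exact ⟨⟨c, hc⟩, q.D.p_act _ (q.za_W _)⟩
    rw [q.nu_p hW] at h2
    have h3 := q.nf_zero.1 ((zmod_or _).resolve_right h2)
    set y := c * q.za {j} * c⁻¹ with hy
    calc y * q.vi i = (y * q.vi i * y⁻¹) * y := by group
      _ = q.vi i * y := by rw [h3]
  let X : Set G := {x | ∃ c ∈ CC (S : Subgroup G), x = c * q.za {j} * c⁻¹}
  let N : Subgroup G := CC (S : Subgroup G) ⊓ centralizer X
  have hnor : CC (S : Subgroup G) ≤ normalizer (N : Set G) := by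
    have key : ∀ c ∈ CC (S : Subgroup G), ∀ n ∈ N, c * n * c⁻¹ ∈ N := by
      rintro c hc n ⟨hn, hn'⟩
      refine ⟨Subgroup.mul_mem _ (Subgroup.mul_mem _ hc hn) (Subgroup.inv_mem _ hc), mem_centralizer_iff.2 ?_⟩
      rintro x ⟨d, hd, rfl⟩
      have h2 := mem_centralizer_iff.1 hn' (c⁻¹ * d * q.za {j} * (c⁻¹ * d)⁻¹) ⟨c⁻¹ * d,
        mul_mem (inv_mem hc) hd, rfl⟩
      calc d * q.za {j} * d⁻¹ * (c * n * c⁻¹) = c * (c⁻¹ * d * q.za {j} * (c⁻¹ * d)⁻¹ * n) * c⁻¹ := by group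
        _ = c * (n * (c⁻¹ * d * q.za {j} * (c⁻¹ * d)⁻¹)) * c⁻¹ := by rw [h2]
        _ = c * n * c⁻¹ * (d * q.za {j} * d⁻¹) := by group
    intro c hc
    rw [mem_normalizer_iff]
    intro n
    refine ⟨fun h => key c hc n h, fun h => ?_⟩
    have h2 := key c⁻¹ (inv_mem hc) _ h
    have e : c⁻¹ * (c * n * c⁻¹) * c⁻¹⁻¹ = n := by group
    rwa [e] at h2
  -- `N` centralises all `z A`
  have hX : ∀ l, q.za {l} ∈ X := by
    intro l
    obtain ⟨t, ht, h5⟩ := q.M.trans j l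
    obtain ⟨σ, hσ⟩ := exists_mv (M := q.M) q.A ht
    have h6 := hσ.unique q.M q.A (q.A.TH ht) h5
    refine ⟨t, Cfg.S_le_CC S ht, ?_⟩
    rw [q.conj_za ht hσ, Set.image_singleton, h6]
  have hcent : ∀ s : Finset (Fin k), ∀ n ∈ N, n * q.za (s : Set (Fin k)) = q.za (s : Set (Fin k)) * n := by
    classical
    intro s n hn
    have hnC : n ∈ q.D.C := hn.1
    have h2 : (⟨n, hnC⟩ : q.D.C) • q.D.p (q.za (s : Set (Fin k))) = q.D.p (q.za (s : Set (Fin k))) := by
      rw [← q.sum_za, Finset.smul_sum]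
      refine Finset.sum_congr rfl fun l _ => ?_
      rw [q.D.p_act _ (q.za_W _)]
      congr 1
      have h3 := mem_centralizer_iff.1 hn.2 _ (hX l)
      change n * q.za {l} * n⁻¹ = q.za {l}
      rw [← h3]; group
    rw [q.D.p_act _ (q.za_W _)] at h2
    have h3 := q.p_inj (q.D.normW n hnC _ (q.za_W _)) (q.za_W _) h2
    calc n * q.za (s : Set (Fin k)) = (n * q.za (s : Set (Fin k)) * n⁻¹) * n := by group
      _ = q.za (s : Set (Fin k)) * n := by rw [h3]
  have hcentA : ∀ A : Set (Fin k), N ≤ centralizer ({q.za A} : Set G) := by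
    intro A n hn
    have h2 := hcent A.toFinite.toFinset n hn
    rw [Set.Finite.coe_toFinset] at h2
    exact mem_centralizer_singleton_iff.2 h2
  have hfin := bprime q.cfg hB (q.za_mem B) q.full (q.za_mem Bᶜ) q.full (N := N) inf_le_left hnor
    (hcentA B) (hcentA Bᶜ)
  apply q.vi_not i
  apply hfin
  refine ⟨q.vi_V i, q.vi_C i, mem_centralizer_iff.2 ?_⟩
  rintro x ⟨c, hc, rfl⟩
  exact h1 c hc

open Classical in
/-- **(N5)** for the halving `B` -/
theorem half_data {B : Set (Fin k)} (hB : Blk q.M B) (j : Fin k) :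
    WR.Comp.Half q.D.C (q.D.p (q.za {j})) (fun i => q.D.p (q.za {i})) q.vc q.nu B.toFinite.toFinset where
  two := q.D.p_add_self
  ne := by
    intro h
    have h1 : q.za {j} = 1 := mem_bot.1 ((q.D.p_ker (q.za_W _)).1 h)
    have h2 := q.za_ne (Set.mem_singleton j)
    rw [h1, e_one] at h2
    exact h2 rfl
  mem i := by
    obtain ⟨t, ht, h5⟩ := q.M.trans j i
    obtain ⟨σ, hσ⟩ := exists_mv (M := q.M) q.A ht
    have h6 := hσ.unique q.M q.A (q.A.TH ht) h5
    refine ⟨⟨t, Cfg.S_le_CC S ht⟩, ?_⟩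
    rw [q.D.p_act _ (q.za_W _)]
    change q.D.p (t * q.za {j} * t⁻¹) = _
    rw [q.conj_za ht hσ, Set.image_singleton, h6]
  tv := q.tv
  cen := q.cen
  hit i := q.hit hB i j
  fix c := by
    have h := q.sum_za Finset.univ
    rw [Finset.coe_univ] at h
    rw [h, q.D.p_act _ (q.za_W _)]
    congr 1
    exact q.conj_univ c.2
  kl i c hc := by
    have h := q.sum_za B.toFinite.toFinset
    rw [Set.Finite.coe_toFinset] at h
    rw [h, q.D.p_act _ (q.za_W _)] at hc
    have h1 : (c : G) * q.za B * (c : G)⁻¹ = q.za B := q.p_inj (q.D.normW c c.2 _ (q.za_W _)) (q.za_W _) hc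
    have h2 : (c : G) * q.za Bᶜ * (c : G)⁻¹ = q.za Bᶜ := by
      have h3 := q.conj_univ c.2
      rw [← q.za_compl B] at h3
      have e : (c : G) * (q.za B * q.za Bᶜ) * (c : G)⁻¹ =
        ((c : G) * q.za B * (c : G)⁻¹) * ((c : G) * q.za Bᶜ * (c : G)⁻¹) := by group
      rw [e, h1] at h3
      exact mul_left_cancel h3
    set X : Subgroup G := centralizer ({q.za B} : Set G) ⊓ centralizer ({q.za Bᶜ} : Set G) with hX
    have hcX : (c : G) ∈ X := by
      refine ⟨mem_centralizer_singleton_iff.2 ?_, mem_centralizer_singleton_iff.2 ?_⟩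
      · calc (c : G) * q.za B = ((c : G) * q.za B * (c : G)⁻¹) * c := by group
          _ = q.za B * c := by rw [h1]
      · calc (c : G) * q.za Bᶜ = ((c : G) * q.za Bᶜ * (c : G)⁻¹) * c := by group
          _ = q.za Bᶜ * c := by rw [h2]
    have hvX : q.vi i ∈ X := ⟨mem_centralizer_singleton_iff.2 (q.A.comm _ (q.vi_V i) _ (q.za_V _)),
      mem_centralizer_singleton_iff.2 (q.A.comm _ (q.vi_V i) _ (q.za_V _))⟩
    have hv : q.vi i ∈ o2 X := full_full q.cfg hB (q.za_mem B) q.full (q.za_mem Bᶜ) q.full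
      inf_le_left inf_le_right ⟨q.vi_V i, hvX⟩
    have hv' : (c : G) * q.vi i * (c : G)⁻¹ ∈ o2 X :=
      (mem_normalizer_iff.1 (le_normalizer_o2 X hcX) _).1 hv
    obtain ⟨m, hm⟩ := isPGroup_o2 X ⟨_, mul_mem hv hv'⟩
    refine ⟨m, Subtype.ext ?_⟩
    have h3 := congrArg Subtype.val hm
    rw [SubmonoidClass.coe_pow] at h3
    rw [SubmonoidClass.coe_pow]
    exact h3

/-! ### The end -/

/-- the component of `z_i` -/
def cmp (i : Fin k) : Set (Fin k) :=
  {l | WR.Comp.Conn q.D.C (q.D.p (q.za {i})) (q.D.p (q.za {i})) (q.D.p (q.za {l}))}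

theorem p_za_ne (j : Fin k) : q.D.p (q.za {j}) ≠ 0 := by
  intro h
  have h1 : q.za {j} = 1 := mem_bot.1 ((q.D.p_ker (q.za_W _)).1 h)
  have h2 := q.za_ne (Set.mem_singleton j)
  rw [h1, e_one] at h2
  exact h2 rfl

theorem cmp_block (i : Fin k) {t : G} (ht : t ∈ (S : Subgroup G)) {σ : Equiv.Perm (Fin k)} (hσ : Mv q.M t σ)
    (hne : (σ '' q.cmp i ∩ q.cmp i).Nonempty) : σ '' q.cmp i = q.cmp i := by
  set z0 := q.D.p (q.za {i}) with hz0
  have key : ∀ {t : G} (ht : t ∈ (S : Subgroup G)) {σ : Equiv.Perm (Fin k)} (hσ : Mv q.M t σ) (a b : Fin k),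
      WR.Comp.Conn q.D.C z0 (q.D.p (q.za {a})) (q.D.p (q.za {b})) →
      WR.Comp.Conn q.D.C z0 (q.D.p (q.za {σ a})) (q.D.p (q.za {σ b})) := by
    intro t ht σ hσ a b hab
    have h1 := hab.smul (⟨t, Cfg.S_le_CC S ht⟩ : q.D.C)
    have h2 : ∀ l, (⟨t, Cfg.S_le_CC S ht⟩ : q.D.C) • q.D.p (q.za {l}) = q.D.p (q.za {σ l}) := by
      intro l
      rw [q.D.p_act _ (q.za_W _)]
      change q.D.p (t * q.za {l} * t⁻¹) = _
      rw [q.conj_za ht hσ, Set.image_singleton]
    rwa [h2, h2] at h1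
  have hsymm : ∀ {a b : q.D.Q}, WR.Comp.Conn q.D.C z0 a b → WR.Comp.Conn q.D.C z0 b a := fun h =>
    h.symm q.D.p_add_self (q.p_za_ne i)
  obtain ⟨_, ⟨l, hl, rfl⟩, hl'⟩ := hne
  -- `z_i ~ z_{σ i}`
  have h1 : WR.Comp.Conn q.D.C z0 z0 (q.D.p (q.za {σ i})) := by
    have h2 := key ht hσ i l hl
    exact Relation.ReflTransGen.trans hl' (hsymm h2)
  ext m
  constructor
  · rintro ⟨n, hn, rfl⟩
    exact Relation.ReflTransGen.trans h1 (key ht hσ i n hn)
  · intro hm
    refine ⟨σ.symm m, ?_, σ.apply_symm_apply m⟩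
    have h3 : WR.Comp.Conn q.D.C z0 (q.D.p (q.za {σ i})) (q.D.p (q.za {m})) :=
      Relation.ReflTransGen.trans (hsymm h1) hm
    have h4 := key (inv_mem ht) (hσ.inv q.M q.A (q.A.TH ht)) (σ i) m h3
    rwa [σ.symm_apply_apply] at h4

theorem false_of (hk : 3 ≤ k) : False := by
  classical
  have hA := q.A
  let i : Fin k := ⟨0, by omega⟩
  have hi : i ∈ q.cmp i := Relation.ReflTransGen.refl
  by_cases hu : q.cmp i = Set.univ
  · -- all in one component
    obtain ⟨B, hB, hiB⟩ := exists_blk S q.M hA (by omega) i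
    obtain ⟨h1, h2⟩ := (q.half_data hB i).odd_card i
    have hall : ∀ l, WR.Comp.Conn q.D.C (q.D.p (q.za {i})) (q.D.p (q.za {i})) (q.D.p (q.za {l})) := by
      intro l
      have : l ∈ q.cmp i := by rw [hu]; exact Set.mem_univ l
      exact this
    rw [Finset.filter_true_of_mem (fun l _ => hall l)] at h1 h2
    -- the two halves have the same size
    obtain ⟨s, hs, hsn⟩ := exists_swap hA hB
    obtain ⟨σ, hσ⟩ := exists_mv (M := q.M) hA hs
    have h3 : σ '' B = Bᶜ := (hB.blk s hs σ hσ).resolve_left fun h => hsn ((mem_So hA hB hs hσ).2 h)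
    have h4 : (Finset.univ \ B.toFinite.toFinset).card = B.toFinite.toFinset.card := by
      have h5 : (Finset.univ \ B.toFinite.toFinset : Finset (Fin k)) = B.toFinite.toFinset.map σ.toEmbedding := by
        apply Finset.coe_injective
        rw [Finset.coe_map, Finset.coe_sdiff, Finset.coe_univ, Set.Finite.coe_toFinset]
        change Set.univ \ B = σ '' B
        rw [h3, Set.compl_eq_univ_sdiff]
      rw [h5, Finset.card_map]
    have h5 : (Finset.univ \ B.toFinite.toFinset : Finset (Fin k)).card + B.toFinite.toFinset.card = k := by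
      rw [Finset.card_sdiff_add_card_eq_card (Finset.subset_univ _), Finset.card_univ, Fintype.card_fin]
    -- `k` is a power of two
    have h6 : k ∣ Nat.card (S : Subgroup G) := ⟨_, IId.card_stab q.M q.cfg.S_le i⟩
    have : Fact (Nat.Prime 2) := ⟨Nat.prime_two⟩
    obtain ⟨n, hn⟩ := IsPGroup.iff_card.1 S.isPGroup'
    rw [hn, Nat.dvd_prime_pow Nat.prime_two] at h6
    obtain ⟨a, -, ha⟩ := h6
    obtain ⟨c, hc⟩ := h1
    rw [h4, hc, ha] at h5
    rcases a with _ | _ | a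
    · omega
    · omega
    · have : 2 ^ (a + 1 + 1) = 4 * 2 ^ a := by ring
      omega
  · obtain ⟨B, hB, hiB⟩ := exists_blk_of q.M hA S.isPGroup' hi hu fun t ht σ hσ hne => q.cmp_block i ht hσ hne
    obtain ⟨-, h2⟩ := (q.half_data hB i).odd_card i
    rw [Finset.filter_false_of_mem] at h2
    · simp at h2
    · intro l hl hc
      have h3 := (@Finset.mem_sdiff (Fin k) (fun a b => Classical.propDecidable (a = b)) _ _ _).1 hl
      exact h3.2 ((Set.Finite.mem_toFinset _).2 (hiB hc))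

end QTwo

/-- **(Q), `q = 2`, `k ≥ 3` is impossible.** -/
theorem main_two (h : Cfg S P) (M : NatK F (S : Subgroup G) P (zl (S : Subgroup G) P) ⊥ k) (hk : 3 ≤ k)
    (hF : Nat.card F = 2)
    (hE : ∀ v ∈ zl (S : Subgroup G) P, v ∈ o2 (CC (S : Subgroup G)) ↔ ∀ i, M.e v i 1 = 0) : False := by
  have h2 : ∀ x : F, x = 0 ∨ x = 1 := by
    have : Finite F := Nat.finite_of_card_ne_zero (by omega)
    have : Fintype F := Fintype.ofFinite F
    classical
    intro x
    by_contra hcon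
    push Not at hcon
    have h3 : ({0, 1, x} : Finset F).card = 3 := by
      rw [Finset.card_eq_three]
      exact ⟨0, 1, x, zero_ne_one, hcon.1.symm, hcon.2.symm, rfl⟩
    have h4 := Finset.card_le_univ ({0, 1, x} : Finset F)
    rw [h3, ← Nat.card_eq_fintype_card, hF] at h4
    omega
  exact (⟨h, M, h2, hE⟩ : QTwo S P F k).false_of hk

end Cfsg.Agent.Omega.NO1.NatWr

end

section


/-!
# The leaf N1: `V_P` the sum of `k ≥ 2` natural modules (THEOREM WR #15037)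

`natMany : NO1.NatMany`, from
* `Many.trich` (helper727): (Q) or `k = 2`, `|F| = 2`; `Many.plus2_of`: the latter is `V = O₄⁺(2)`;
* `NatWr.main_two`: (Q), `|F| = 2`, `k ≥ 3` is impossible; and `k = 2`, `|F| = 2` is the same type;
* `NSix.main` (helper675): (Q), `|F| ≥ 4` is impossible.
-/

set_option autoImplicit false

namespace Cfsg.Agent.Omega.NO1

open Subgroup Cfsg Cfsg.Agent.ZN Cfsg.Agent.Omega.MinPar
open Cfsg.Agent.Omega.FFThm (NatK)
open Cfsg.Agent.Omega.FrameFF (cv)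

universe u

/-- **`V_P` the sum of `k ≥ 2` natural modules**: `V_P = O₄⁺(2)`. -/
theorem natMany : NatMany.{u} := by
  intro G _ _ S P h F _ _ _ k hk M
  rcases Nat.lt_or_ge (Nat.card F) 3 with hF3 | hF3
  · have hF : Nat.card F = 2 := by
      have h1 : 1 < Nat.card F := Finite.one_lt_card
      omega
    rcases Nat.lt_or_ge k 3 with hk3 | hk3
    · obtain rfl : k = 2 := by omega
      exact Many.ty_of_two h hF M
    · have hcv : cv (S : Subgroup G) P = ⊥ := h.one.cen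
      rw [hcv] at M
      rcases Many.trich h M hk with hE | ⟨-, hk2⟩
      · exact (NatWr.main_two h M hk3 hF hE).elim
      · omega
  · have hcv : cv (S : Subgroup G) P = ⊥ := h.one.cen
    have hF4 : 4 ≤ Nat.card F := by
      have : Fintype F := Fintype.ofFinite F
      obtain ⟨n, -, hn⟩ := FiniteField.card F 2
      rw [Nat.card_eq_fintype_card] at hF3 ⊢
      rw [hn] at hF3 ⊢
      rcases Nat.lt_or_ge (n : ℕ) 2 with h2 | h2
      · have h1 : (n : ℕ) = 1 := by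
          have := n.pos
          omega
        rw [h1] at hF3
        omega
      · calc 4 = 2 ^ 2 := by norm_num
          _ ≤ 2 ^ (n : ℕ) := Nat.pow_le_pow_right (by norm_num) h2
    rw [hcv] at M
    rcases Many.trich h M hk with hE | ⟨hF2, -⟩
    · exact (NSix.main h M hk hF4 hE).elim
    · omega

end Cfsg.Agent.Omega.NO1

end

end
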